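import Mathlib

/-!
Families of square-zero operators with unit anticommutators in characteristic two, and joint eigenvectors.
-/

set_option autoImplicit false

namespace CfsgLib.KnownC.AltSec

open Module

universe v w

variable {k : Type w} [Field k]

/-- Square-zero operators with all anticommutators one force dimension `2 ^ m`. -/
theorem car_bound (h2 : (2 : k) = 0) :
    ∀ (m : ℕ) (W : Type v) [AddCommGroup W] [Module k W] [FiniteDimensional k W] [Nontrivial W]
      (N : Fin (2 * m) → Module.End k W), (∀ i, N i * N i = 0) → (∀ i j, i ≠ j → N i * N j + N j * N i = 1) →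
        2 ^ m ≤ finrank k W := by
  intro m
  induction m with
  | zero =>
    intro W _ _ _ _ N _ _
    exact Module.finrank_pos
  | succ m ih =>
    intro W _ _ _ _ N hsq hanti
    have hdd : ∀ e : Module.End k W, e + e = 0 := fun e => by rw [← two_smul k e, h2, zero_smul]
    let i0 : Fin (2 * (m + 1)) := ⟨0, by omega⟩
    let i1 : Fin (2 * (m + 1)) := ⟨1, by omega⟩
    let up : Fin (2 * m) → Fin (2 * (m + 1)) := fun i => ⟨i.val + 2, by omega⟩
    have hup0 : ∀ i, up i ≠ i0 := fun i => Fin.ne_of_val_ne (by simp [up, i0])
    have hup1 : ∀ i, up i ≠ i1 := fun i => Fin.ne_of_val_ne (by simp [up, i1])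
    have hupinj : ∀ i j, i ≠ j → up i ≠ up j := fun i j h => Fin.ne_of_val_ne (by
      simp [up]; exact fun e => h (Fin.ext e))
    set a := N i0 with ha
    set b := N i1 with hb
    have hab : a * b + b * a = 1 := hanti i0 i1 (Fin.ne_of_val_ne (by simp [i0, i1]))
    let M : Fin (2 * m) → Module.End k W := fun i => N (up i) + a + b + 1
    have hMsq : ∀ i, M i * M i = 0 := fun i => by
      have h1 := hanti _ _ (hup0 i)
      have h3 := hanti _ _ (hup1 i)
      rw [← ha] at h1
      rw [← hb] at h3
      calc M i * M i = (N (up i) * N (up i)) + a * a + b * b + (N (up i) * a + a * N (up i)) +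
            (N (up i) * b + b * N (up i)) + (a * b + b * a) + (N (up i) + N (up i)) + (a + a) + (b + b) + 1 := by
            simp only [M]; noncomm_ring
        _ = 0 := by
            rw [hsq, show a * a = 0 from hsq i0, show b * b = 0 from hsq i1, h1, h3, hab]
            simp only [hdd, add_zero, zero_add]
    have hMa : ∀ i, M i * a = a * M i := fun i => by
      have h1 := hanti _ _ (hup0 i)
      rw [← ha] at h1
      have hsum : M i * a + a * M i = 0 := by
        calc M i * a + a * M i = (N (up i) * a + a * N (up i)) + (a * a + a * a) + (a * b + b * a) + (a + a) := by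
              simp only [M]; noncomm_ring
          _ = 1 + 0 + 1 + 0 := by rw [h1, hdd, hab, hdd]
          _ = 1 + 1 := by abel
          _ = 0 := hdd 1
      rw [eq_neg_of_add_eq_zero_left hsum, neg_eq_of_add_eq_zero_left (hdd _)]
    have hManti : ∀ i j, i ≠ j → M i * M j + M j * M i = 1 := fun i j hij => by
      have h0i := hanti _ _ (hup0 i)
      have h1i := hanti _ _ (hup1 i)
      have h0j := hanti _ _ (hup0 j)
      have h1j := hanti _ _ (hup1 j)
      rw [← ha] at h0i h0j
      rw [← hb] at h1i h1j
      calc M i * M j + M j * M i = (N (up i) * N (up j) + N (up j) * N (up i)) +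
            ((N (up i) * a + a * N (up i)) + (N (up i) * b + b * N (up i))) +
            ((N (up j) * a + a * N (up j)) + (N (up j) * b + b * N (up j))) +
            ((a * b + b * a) + (a * b + b * a)) + ((a * a + b * b) + (a * a + b * b)) +
            ((N (up i) + N (up j) + a + a + b + b) + (N (up i) + N (up j) + a + a + b + b)) + (1 + 1) := by
            simp only [M]; noncomm_ring
        _ = 1 := by
            rw [hanti _ _ (hupinj i j hij), h0i, h1i, h0j, h1j, hab]
            simp only [hdd, add_zero, zero_add]
    let K := LinearMap.ker a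
    have hKM : ∀ i, ∀ v ∈ K, M i v ∈ K := fun i v hv => by
      rw [LinearMap.mem_ker] at hv ⊢
      have := LinearMap.congr_fun (hMa i) v
      simp only [Module.End.mul_apply] at this
      rw [← this, hv, map_zero]
    have habv : ∀ v, a (b v) + b (a v) = v := fun v => by
      have := LinearMap.congr_fun hab v
      simpa [LinearMap.add_apply] using this
    have haa : ∀ v, a (a v) = 0 := fun v => by
      have := LinearMap.congr_fun (hsq i0) v
      simpa using this
    let f : (K × K) →ₗ[k] W := K.subtype.coprod (b.comp K.subtype)
    have hinj : Function.Injective f := by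
      rw [injective_iff_map_eq_zero]
      rintro ⟨⟨x, hx⟩, ⟨y, hy⟩⟩ h
      have h' : x + b y = 0 := h
      rw [LinearMap.mem_ker] at hx hy
      have h3 : a (b y) = 0 := by rw [eq_neg_of_add_eq_zero_right h', map_neg, hx, neg_zero]
      have hy0 : y = 0 := by rw [← habv y, h3, hy, map_zero, add_zero]
      subst hy0
      rw [map_zero, add_zero] at h'
      subst h'
      rfl
    have hsurj : Function.Surjective f := fun v => by
      refine ⟨(⟨a (b v), LinearMap.mem_ker.2 (haa _)⟩, ⟨a v, LinearMap.mem_ker.2 (haa _)⟩), habv v⟩
    have hdim := (LinearEquiv.ofBijective f ⟨hinj, hsurj⟩).finrank_eq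
    rw [Module.finrank_prod] at hdim
    haveI : Nontrivial K := by
      apply Module.nontrivial_of_finrank_pos (R := k)
      have := Module.finrank_pos (R := k) (M := W)
      omega
    have := ih K (fun i => (M i).restrict (hKM i))
      (fun i => LinearMap.ext fun v => Subtype.ext (by
        have := LinearMap.congr_fun (hMsq i) (v : W)
        simpa [LinearMap.restrict_apply] using this))
      (fun i j hij => LinearMap.ext fun v => Subtype.ext (by
        have := LinearMap.congr_fun (hManti i j hij) (v : W)
        simpa [LinearMap.restrict_apply] using this))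
    rw [pow_succ]
    omega

/-- Vectors separated by operators are independent. -/
theorem separated_independent {V : Type v} [AddCommGroup V] [Module k V] {ι : Type*} [Fintype ι] (x : ι → V)
    (hx : ∀ i, x i ≠ 0)
    (hsep : ∀ i j, i ≠ j → ∃ (D : Module.End k V) (μ : ι → k), μ i ≠ μ j ∧ ∀ l, D (x l) = μ l • x l) :
    LinearIndependent k x := by
  classical
  rw [linearIndependent_iff']
  intro s
  induction s using Finset.induction with
  | empty => intro g _ i hi; exact absurd hi (Finset.notMem_empty i)
  | insert j s hjs ih =>
    intro g hg i hi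
    have hs : ∀ i ∈ s, g i = 0 := by
      intro i hi
      obtain ⟨D, μ, hne, hD⟩ := hsep i j (fun h => hjs (h ▸ hi))
      have h1 : ∑ l ∈ insert j s, (g l * (μ l - μ j)) • x l = 0 := by
        have h' := congrArg (fun v => D v - μ j • v) hg
        simp only [map_sum, map_smul, hD, Finset.smul_sum, map_zero, smul_zero, sub_zero,
          ← Finset.sum_sub_distrib] at h'
        rw [← h']
        refine Finset.sum_congr rfl fun l _ => ?_
        rw [smul_smul, smul_smul, ← sub_smul]
        congr 1
        ring
      rw [Finset.sum_insert hjs, sub_self, mul_zero, zero_smul, zero_add] at h1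
      exact (mul_eq_zero.1 (ih _ h1 i hi)).resolve_right (sub_ne_zero.2 hne)
    rcases Finset.mem_insert.1 hi with rfl | hi
    · rw [Finset.sum_insert hjs, Finset.sum_eq_zero (fun l hl => by rw [hs l hl, zero_smul]), add_zero] at hg
      exact (smul_eq_zero.1 hg).resolve_right (hx i)
    · exact hs i hi

end CfsgLib.KnownC.AltSec
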