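import Cfsg.Agent.Lib.KnownC.AltSec.Perms

/-!
Basic facts on representations of the even permutations.
-/

set_option autoImplicit false

namespace CfsgLib.KnownC.AltSec

open Equiv Equiv.Perm Module

variable {α : Type*} [Fintype α] [DecidableEq α] {k : Type*} [Field k] {V : Type*} [AddCommGroup V] [Module k V]

theorem sign_ss {a b c d : α} (hab : a ≠ b) (hcd : c ≠ d) : sign (swap a b * swap c d) = 1 := by
  rw [map_mul, sign_swap hab, sign_swap hcd]; rfl

theorem ss_conj (g : Perm α) (a b c d : α) :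
    g * (swap a b * swap c d) * g⁻¹ = swap (g a) (g b) * swap (g c) (g d) := by
  rw [swap_apply_apply, swap_apply_apply]; group

theorem ss_sq {a b c d : α} (hac : a ≠ c) (had : a ≠ d) (hbc : b ≠ c) (hbd : b ≠ d) :
    swap a b * swap c d * (swap a b * swap c d) = 1 := by
  refine Equiv.ext fun w => ?_
  simp only [Perm.mul_apply, swap_apply_def, Perm.one_apply]
  split_ifs <;> simp_all

theorem c3_inv {x y z : α} (hxy : x ≠ y) (hxz : x ≠ z) (hyz : y ≠ z) : (c3 x y z)⁻¹ = c3 y x z := by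
  rw [c3, c3, mul_inv_rev, swap_inv, swap_inv]
  refine Equiv.ext fun w => ?_
  simp only [Perm.mul_apply, swap_apply_def]
  split_ifs <;> simp_all

theorem c3_cube {x y z : α} (hxy : x ≠ y) (hxz : x ≠ z) (hyz : y ≠ z) : c3 x y z * c3 x y z * c3 x y z = 1 := by
  refine Equiv.ext fun w => ?_
  simp only [Perm.mul_apply, Perm.one_apply]
  by_cases h1 : w = x
  · subst h1; rw [c3_fst hxy hxz, c3_snd hxz hyz, c3_thd]
  by_cases h2 : w = y
  · subst h2; rw [c3_snd hxz hyz, c3_thd, c3_fst hxy hxz]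
  by_cases h3 : w = z
  · subst h3; rw [c3_thd, c3_fst hxy hxz, c3_snd hxz hyz]
  rw [c3_other h1 h2 h3, c3_other h1 h2 h3, c3_other h1 h2 h3]

theorem c3_eq_ss_mul {a b c d e : α} (had : a ≠ d) (hae : a ≠ e) (hbd : b ≠ d) (hbe : b ≠ e) (hcd : c ≠ d) (hce : c ≠ e) :
    c3 a b c = swap a b * swap d e * (swap b c * swap d e) := by
  have hcomm : swap d e * swap b c = swap b c * swap d e := by
    rw [Equiv.mul_swap_eq_swap_mul, swap_apply_of_ne_of_ne hbd hbe, swap_apply_of_ne_of_ne hcd hce]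
  rw [mul_assoc, ← mul_assoc (swap d e), hcomm, mul_assoc (swap b c), swap_mul_self, mul_one, c3]

variable {R : Perm α → Module.End k V}

theorem IsRep.c3_apply_cube (hR : IsRep R) {x y z : α} (hxy : x ≠ y) (hxz : x ≠ z) (hyz : y ≠ z) (v : V) :
    R (c3 x y z) (R (c3 x y z) (R (c3 x y z) v)) = v := by
  have hs := sign_c3 hxy hyz
  rw [← Module.End.mul_apply, ← Module.End.mul_apply, ← hR.2 _ _ hs hs, ← hR.2 _ _ (by rw [map_mul, hs, one_mul]) hs,
    c3_cube hxy hxz hyz, hR.1, Module.End.one_apply]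

theorem IsRep.ss_apply_sq (hR : IsRep R) {a b c d : α} (hab : a ≠ b) (hcd : c ≠ d) (hac : a ≠ c) (had : a ≠ d)
    (hbc : b ≠ c) (hbd : b ≠ d) (v : V) :
    R (swap a b * swap c d) (R (swap a b * swap c d) v) = v := by
  rw [← Module.End.mul_apply, ← hR.2 _ _ (sign_ss hab hcd) (sign_ss hab hcd), ss_sq hac had hbc hbd, hR.1,
    Module.End.one_apply]

/-- Nontrivial. -/
def Nontriv (R : Perm α → Module.End k V) : Prop := ∃ σ, sign σ = 1 ∧ R σ ≠ 1

theorem fixed_all_of_c3 (hR : IsRep R) {v : V} (h : FixedOff R ∅ v) {σ : Perm α} (hσ : sign σ = 1) : R σ v = v :=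
  h.apply_eq hR hσ (by simp)

theorem Nontriv.exists_c3 (hR : IsRep R) (h : Nontriv R) :
    ∃ x y z, x ≠ y ∧ x ≠ z ∧ y ≠ z ∧ R (c3 x y z) ≠ 1 := by
  by_contra hno
  push Not at hno
  obtain ⟨σ, hσ, hne⟩ := h
  refine hne (LinearMap.ext fun v => ?_)
  exact fixed_all_of_c3 hR (fun x y z _ _ _ h1 h2 h3 => by rw [hno x y z h1 h2 h3]; rfl) hσ

/-- Restriction to an invariant subspace. -/
noncomputable def restr (R : Perm α → Module.End k V) (W : Submodule k V) : Perm α → Module.End k W := fun σ =>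
  open scoped Classical in if h : ∀ v ∈ W, R σ v ∈ W then (R σ).restrict h else 0

theorem restr_apply {W : Submodule k V} {σ : Perm α} (h : ∀ v ∈ W, R σ v ∈ W) (w : W) :
    (restr R W σ w : V) = R σ (w : V) := by
  rw [restr, dif_pos h]; rfl

theorem IsRep.restr (hR : IsRep R) {W : Submodule k V} (hW : ∀ σ, sign σ = 1 → ∀ v ∈ W, R σ v ∈ W) :
    IsRep (restr R W) := by
  refine ⟨LinearMap.ext fun w => Subtype.ext ?_, fun σ τ hσ hτ => LinearMap.ext fun w => Subtype.ext ?_⟩
  · rw [restr_apply (hW 1 (map_one _)), hR.1]; rfl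
  · rw [Module.End.mul_apply, restr_apply (hW σ hσ), restr_apply (hW τ hτ),
      restr_apply (hW _ (by rw [map_mul, hσ, hτ, one_mul])), hR.2 _ _ hσ hτ, Module.End.mul_apply]

/-- The points outside a set. -/
abbrev Off (S : Finset α) : Type _ := {x // x ∉ S}

theorem card_off (S : Finset α) : Fintype.card (Off S) = Fintype.card α - S.card := by
  rw [Fintype.card_subtype_compl, Fintype.card_coe]

/-- Restriction to the even permutations fixing a set. -/
noncomputable def offRep (R : Perm α → Module.End k V) (S : Finset α) : Perm (Off S) → Module.End k V :=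
  fun σ => R (ofSubtype σ)

theorem IsRep.offRep (hR : IsRep R) (S : Finset α) : IsRep (offRep R S) := by
  refine ⟨by simp [CfsgLib.KnownC.AltSec.offRep, hR.1], fun σ τ hσ hτ => ?_⟩
  simp only [CfsgLib.KnownC.AltSec.offRep, map_mul]
  exact hR.2 _ _ (by rw [sign_ofSubtype]; exact hσ) (by rw [sign_ofSubtype]; exact hτ)

theorem ofSubtype_fix (S : Finset α) (σ : Perm (Off S)) {x : α} (hx : x ∈ S) : ofSubtype σ x = x :=
  ofSubtype_apply_of_not_mem σ (by simpa using hx)

theorem ofSubtype_c3 {S : Finset α} (x y z : Off S) : ofSubtype (c3 x y z) = c3 (x : α) y z := by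
  simp [c3, map_mul, ofSubtype_swap_eq]

theorem comm_off {S : Finset α} {t : Perm α} (ht : ∀ x, x ∉ S → t x = x) (σ : Perm (Off S)) :
    Commute t (ofSubtype σ) := by
  refine (Equiv.Perm.Disjoint.commute fun x => ?_)
  by_cases hx : x ∈ S
  · exact Or.inr (ofSubtype_fix S σ hx)
  · exact Or.inl (ht x hx)

/-- Three disjoint eigenspaces inside a subspace. -/
theorem finrank_three_le [FiniteDimensional k V] {W A B C : Submodule k V} (hA : A ≤ W) (hB : B ≤ W) (hC : C ≤ W)
    (h : ∀ a ∈ A, ∀ b ∈ B, ∀ c ∈ C, a + b + c = 0 → a = 0 ∧ b = 0 ∧ c = 0) :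
    finrank k A + finrank k B + finrank k C ≤ finrank k W := by
  let f : (A × B × C) →ₗ[k] W :=
    LinearMap.codRestrict W (A.subtype.coprod (B.subtype.coprod C.subtype)) fun x =>
      W.add_mem (hA x.1.2) (W.add_mem (hB x.2.1.2) (hC x.2.2.2))
  have hinj : Function.Injective f := by
    rw [injective_iff_map_eq_zero]
    rintro ⟨⟨a, ha⟩, ⟨b, hb⟩, ⟨c, hc⟩⟩ hx
    have hx' : a + (b + c) = 0 := congrArg Subtype.val hx
    obtain ⟨rfl, rfl, rfl⟩ := h a ha b hb c hc (by rw [add_assoc]; exact hx')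
    rfl
  have := LinearMap.finrank_le_finrank_of_injective hinj
  rw [Module.finrank_prod, Module.finrank_prod] at this
  omega

/-- Many subspaces separated by operators. -/
theorem finrank_sum_le [FiniteDimensional k V] {q e : ℕ} (U : Fin q → Submodule k V) (D : Fin q → Module.End k V)
    (hd : ∀ i, e ≤ finrank k (U i)) (hkill : ∀ i j, i ≠ j → ∀ u ∈ U j, D i u = 0)
    (hinjU : ∀ i, ∀ u ∈ U i, D i u = 0 → u = 0) : q * e ≤ finrank k V := by
  classical
  let f : (Π i, U i) →ₗ[k] V := ∑ i, (U i).subtype.comp (LinearMap.proj i)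
  have hinj : Function.Injective f := by
    rw [injective_iff_map_eq_zero]
    intro x hx
    funext i
    have hx' : ∑ j, ((x j : U j) : V) = 0 := by simpa [f] using hx
    have h := congrArg (D i) hx'
    rw [map_sum, map_zero, Finset.sum_eq_single i (fun j _ hj => hkill i j hj.symm _ (x j).2) (by simp)] at h
    exact Subtype.ext (hinjU i _ (x i).2 h)
  have := LinearMap.finrank_le_finrank_of_injective hinj
  rw [Module.finrank_pi_fintype] at this
  exact le_trans (le_of_eq_of_le (by simp) (Finset.sum_le_sum fun i _ => hd i)) this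

end CfsgLib.KnownC.AltSec
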