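import Cfsg.Agent.Lib.KnownC.AltSec.Common

/-!
Spin representations of the alternating group, as functions on permutations multiplicative up to sign.
-/

set_option autoImplicit false

namespace CfsgLib.KnownC.AltSec

open Equiv Equiv.Perm Module

universe u v w

variable {α : Type u} [Fintype α] [DecidableEq α] {k : Type w} [Field k] {V : Type v} [AddCommGroup V] [Module k V]

/-- A spin representation of the even permutations. -/
structure IsSpin (L : Perm α → Module.End k V) : Prop where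
  one : L 1 = 1
  mul : ∀ σ τ, sign σ = 1 → sign τ = 1 → L (σ * τ) = L σ * L τ ∨ L (σ * τ) = -(L σ * L τ)
  klein : ∀ a b c d : α, a ≠ b → a ≠ c → a ≠ d → b ≠ c → b ≠ d → c ≠ d →
    L (swap a b * swap c d) * L (swap a c * swap b d) = -(L (swap a c * swap b d) * L (swap a b * swap c d))

variable {L : Perm α → Module.End k V}

theorem IsSpin.inv_mul (hL : IsSpin L) {σ : Perm α} (hσ : sign σ = 1) :
    L σ⁻¹ * L σ = 1 ∨ L σ⁻¹ * L σ = -1 := by
  rcases hL.mul σ⁻¹ σ (by rw [map_inv, hσ, inv_one]) hσ with h | h <;> rw [inv_mul_cancel, hL.one] at h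
  · exact Or.inl h.symm
  · exact Or.inr (by rw [h, neg_neg])

theorem IsSpin.injective (hL : IsSpin L) {σ : Perm α} (hσ : sign σ = 1) : Function.Injective (L σ) := by
  intro x y hxy
  have := congrArg (L σ⁻¹) hxy
  rw [← Module.End.mul_apply, ← Module.End.mul_apply] at this
  rcases hL.inv_mul hσ with h | h <;> rw [h] at this
  · simpa using this
  · simpa using this

theorem IsSpin.conj_mul (hL : IsSpin L) {σ τ : Perm α} (hσ : sign σ = 1) (hτ : sign τ = 1) :
    L (σ * τ * σ⁻¹) * L σ = L σ * L τ ∨ L (σ * τ * σ⁻¹) * L σ = -(L σ * L τ) := by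
  have h1 : sign (σ * τ * σ⁻¹) = 1 := by rw [map_mul, map_mul, map_inv, hσ, hτ]; simp
  rcases hL.mul _ _ h1 hσ with h | h <;> rcases hL.mul _ _ hσ hτ with h' | h' <;>
    rw [inv_mul_cancel_right] at h <;> rw [h] at h'
  · exact Or.inl h'
  · exact Or.inr h'
  · exact Or.inr (neg_eq_iff_eq_neg.1 h')
  · exact Or.inl (neg_inj.1 h')

theorem IsSpin.comm_sign (hL : IsSpin L) {σ τ : Perm α} (hσ : sign σ = 1) (hτ : sign τ = 1) (h : Commute σ τ) :
    L σ * L τ = L τ * L σ ∨ L σ * L τ = -(L τ * L σ) := by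
  rcases hL.conj_mul hσ hτ with e | e <;> rw [h.eq, mul_inv_cancel_right] at e
  · exact Or.inl e.symm
  · exact Or.inr (by rw [e, neg_neg])

theorem IsSpin.comm_of_cube (hL : IsSpin L) {σ τ : Perm α} (hσ : sign σ = 1) (hτ : sign τ = 1) (h : Commute σ τ)
    (h3 : τ * τ * τ = 1) : Commute (L σ) (L τ) := by
  rcases hL.comm_sign hσ hτ h with e | e
  · exact e
  have ht2 : sign (τ * τ) = 1 := by rw [map_mul, hτ, one_mul]
  have h3' : L τ * L τ * L τ = 1 ∨ L τ * L τ * L τ = -1 := by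
    rcases hL.mul τ τ hτ hτ with a | a <;> rcases hL.mul _ τ ht2 hτ with b | b <;>
      rw [h3, hL.one, a] at b
    · exact Or.inl b.symm
    · exact Or.inr (by rw [b, neg_neg])
    · exact Or.inr (by rw [b, neg_mul, neg_neg])
    · exact Or.inl (by rw [b, neg_mul, neg_neg])
  have hneg : L σ * (L τ * L τ * L τ) = -((L τ * L τ * L τ) * L σ) := by
    rw [← mul_assoc, ← mul_assoc, e, neg_mul, neg_mul, mul_assoc (L τ) (L σ), e, mul_neg, neg_mul, neg_neg,
      mul_assoc (L τ) (L τ * L σ), mul_assoc (L τ) (L σ), e, mul_neg, mul_neg]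
    simp only [mul_assoc]
  have : L σ = -L σ := by
    rcases h3' with a | a <;> rw [a] at hneg
    · rwa [mul_one, one_mul] at hneg
    · rw [mul_neg, mul_one, neg_mul, one_mul, neg_neg] at hneg; exact hneg.symm
  show L σ * L τ = L τ * L σ
  rw [e]
  conv_rhs => rw [this]
  rw [mul_neg]

theorem IsSpin.comm_c3 (hL : IsSpin L) {σ : Perm α} (hσ : sign σ = 1) {x y z : α} (hxy : x ≠ y) (hxz : x ≠ z)
    (hyz : y ≠ z) (hx : σ x = x) (hy : σ y = y) (hz : σ z = z) : Commute (L σ) (L (c3 x y z)) :=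
  hL.comm_of_cube hσ (sign_c3 hxy hyz)
    (by rw [Commute, SemiconjBy, ← mul_inv_eq_iff_eq_mul, c3_conj, hx, hy, hz]) (c3_cube hxy hxz hyz)

theorem ss_eq_c3_mul (e f g h : α) : swap e f * swap g h = c3 e f g * c3 f g h := by
  rw [c3, c3, mul_assoc, ← mul_assoc (swap f g) (swap f g), swap_mul_self, one_mul]

theorem IsSpin.comm_ss (hL : IsSpin L) {σ : Perm α} (hσ : sign σ = 1) {e f g h : α} (hef : e ≠ f) (heg : e ≠ g)
    (hfg : f ≠ g) (hfh : f ≠ h) (hgh : g ≠ h) (he : σ e = e) (hf : σ f = f) (hg : σ g = g) (hh : σ h = h) :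
    Commute (L σ) (L (swap e f * swap g h)) := by
  have h1 := hL.comm_c3 hσ hef heg hfg he hf hg
  have h2 := hL.comm_c3 hσ hfg hfh hgh hf hg hh
  rw [ss_eq_c3_mul]
  rcases hL.mul _ _ (sign_c3 hef hfg) (sign_c3 hfg hgh) with a | a <;> rw [a]
  · exact h1.mul_right h2
  · exact (h1.mul_right h2).neg_right

theorem IsSpin.sq (hL : IsSpin L) {a b c d : α} (hab : a ≠ b) (hac : a ≠ c) (had : a ≠ d) (hbc : b ≠ c)
    (hbd : b ≠ d) (hcd : c ≠ d) : L (swap a b * swap c d) * L (swap a b * swap c d) = -1 := by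
  set s₀ := swap a b * swap c d with hs₀
  set s₁ := swap a c * swap d b with hs₁
  set s₂ := swap a d * swap b c with hs₂
  have h0 : sign s₀ = 1 := sign_ss hab hcd
  have h1 : sign s₁ = 1 := sign_ss hac hbd.symm
  have h2 : sign s₂ = 1 := sign_ss had hbc
  have hs : s₁ = swap a c * swap b d := by rw [hs₁, swap_comm d b]
  have hanti := hL.klein a b c d hab hac had hbc hbd hcd
  rw [← hs, ← hs₀] at hanti
  have q0 : s₀ * s₀ = 1 := ss_sq hac had hbc hbd
  have q1 : s₁ * s₁ = 1 := ss_sq had hab hcd hbc.symm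
  set t := c3 b c d
  have ht : sign t = 1 := sign_c3 hbc hcd
  have c01 : t * s₀ * t⁻¹ = s₁ := by
    rw [hs₀, ss_conj, c3_other hab hac had, c3_fst hbc hbd, c3_snd hbd hcd, c3_thd, hs₁]
  have c12 : t * s₁ * t⁻¹ = s₂ := by
    rw [hs₁, ss_conj, c3_other hab hac had, c3_snd hbd hcd, c3_thd, c3_fst hbc hbd, hs₂]
  have hmul : s₀ * s₁ = s₂ := by
    rw [hs, hs₀, hs₂]
    refine Equiv.ext fun w => ?_
    simp only [Perm.mul_apply, swap_apply_def]
    split_ifs <;> simp_all
  have hsc : ∀ {s : Perm α}, sign s = 1 → s * s = 1 → ∃ l : k, L s * L s = l • 1 ∧ (l = 1 ∨ l = -1) := by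
    intro s hs' hss
    rcases hL.mul s s hs' hs' with e | e <;> rw [hss, hL.one] at e
    · exact ⟨1, by rw [one_smul, ← e], Or.inl rfl⟩
    · exact ⟨-1, by rw [neg_smul, one_smul, e, neg_neg], Or.inr rfl⟩
  obtain ⟨l, hl, hl'⟩ := hsc h0 q0
  have hll : l * l = 1 := by rcases hl' with rfl | rfl <;> ring
  have hconj : ∀ {s s' : Perm α}, sign s = 1 → t * s * t⁻¹ = s' → L s * L s = l • 1 → L s' * L s' = l • 1 := by
    intro s s' hs' hc hsq
    have : L s' * L s' * L t = L t * (L s * L s) := by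
      rcases hL.conj_mul ht hs' with e | e <;> rw [hc] at e
      · rw [mul_assoc, e, ← mul_assoc, e, mul_assoc]
      · rw [mul_assoc, e, mul_neg, ← mul_assoc, e, neg_mul, neg_neg, mul_assoc]
    rw [hsq, mul_smul_comm, mul_one] at this
    rcases hL.inv_mul (σ := t⁻¹) (by rw [map_inv, ht, inv_one]) with e | e <;> rw [inv_inv] at e
    · rw [← mul_one (L s' * L s'), ← e, ← mul_assoc, this, smul_mul_assoc]
    · rw [← mul_one (L s' * L s'), show (1 : Module.End k V) = -(L t * L t⁻¹) by rw [e, neg_neg], mul_neg,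
        ← mul_assoc, this, smul_mul_assoc, smul_neg]
  have hl1 := hconj h0 c01 hl
  have hl2 := hconj h1 c12 hl1
  have key : L s₂ * L s₂ = -(L s₀ * L s₀ * (L s₁ * L s₁)) := by
    rcases hL.mul _ _ h0 h1 with e | e <;> rw [hmul] at e <;> rw [e] <;>
      [skip; rw [neg_mul_neg]] <;>
      rw [mul_assoc, ← mul_assoc (L s₁), ← neg_eq_iff_eq_neg.2 hanti, neg_mul, mul_neg] <;> simp only [mul_assoc]
  rw [hl, hl1, hl2, smul_mul_smul_comm, one_mul, hll, one_smul] at key
  rw [hl, key]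

theorem IsSpin.pull (hL : IsSpin L) {β : Type u} [Fintype β] [DecidableEq β] (ι : β ↪ α) :
    IsSpin (fun σ : Perm β => L (σ.viaFintypeEmbedding ι)) := by
  have hmul : ∀ σ τ : Perm β, (σ * τ).viaFintypeEmbedding ι = σ.viaFintypeEmbedding ι * τ.viaFintypeEmbedding ι := by
    intro σ τ
    refine Equiv.ext fun x => ?_
    by_cases hx : x ∈ Set.range ι
    · obtain ⟨y, rfl⟩ := hx
      simp [Equiv.Perm.viaFintypeEmbedding_apply_image]
    · simp [Equiv.Perm.viaFintypeEmbedding_apply_notMem_range _ _ hx]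
  have hswap : ∀ a b : β, (swap a b).viaFintypeEmbedding ι = swap (ι a) (ι b) := by
    intro a b
    refine Equiv.ext fun x => ?_
    by_cases hx : x ∈ Set.range ι
    · obtain ⟨y, rfl⟩ := hx
      simp only [Equiv.Perm.viaFintypeEmbedding_apply_image, swap_apply_def, ι.injective.eq_iff]
      split_ifs <;> rfl
    · rw [Equiv.Perm.viaFintypeEmbedding_apply_notMem_range _ _ hx, swap_apply_of_ne_of_ne]
      · exact fun h => hx ⟨a, h.symm⟩
      · exact fun h => hx ⟨b, h.symm⟩
  refine ⟨?_, fun σ τ hσ hτ => ?_, fun a b c d h1 h2 h3 h4 h5 h6 => ?_⟩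
  · have : (1 : Perm β).viaFintypeEmbedding ι = 1 := mul_eq_left.1 (hmul 1 1).symm |>.trans rfl
    simp only [this, hL.one]
  · simp only [hmul]
    exact hL.mul _ _ (by rw [viaFintypeEmbedding_sign, hσ]) (by rw [viaFintypeEmbedding_sign, hτ])
  · simp only [hmul, hswap]
    exact hL.klein _ _ _ _ (ι.injective.ne h1) (ι.injective.ne h2) (ι.injective.ne h3) (ι.injective.ne h4)
      (ι.injective.ne h5) (ι.injective.ne h6)

theorem IsSpin.restr (hL : IsSpin L) {W : Submodule k V} (hW : ∀ σ, sign σ = 1 → ∀ v ∈ W, L σ v ∈ W) :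
    IsSpin (restr L W) := by
  have key : ∀ σ, sign σ = 1 → ∀ w : W, (CfsgLib.KnownC.AltSec.restr L W σ w : V) = L σ (w : V) :=
    fun σ hσ w => restr_apply (hW σ hσ) w
  refine ⟨LinearMap.ext fun w => Subtype.ext ?_, fun σ τ hσ hτ => ?_, fun a b c d h1 h2 h3 h4 h5 h6 => ?_⟩
  · rw [key 1 (map_one _), hL.one]; rfl
  · have hστ : sign (σ * τ) = 1 := by rw [map_mul, hσ, hτ, one_mul]
    rcases hL.mul σ τ hσ hτ with e | e
    · exact Or.inl (LinearMap.ext fun w => Subtype.ext (by
        rw [Module.End.mul_apply, key σ hσ, key τ hτ, key _ hστ, e, Module.End.mul_apply]))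
    · refine Or.inr (LinearMap.ext fun w => Subtype.ext ?_)
      rw [key _ hστ, e, LinearMap.neg_apply, LinearMap.neg_apply, Submodule.coe_neg, Module.End.mul_apply,
        Module.End.mul_apply, key σ hσ, key τ hτ]
  · refine LinearMap.ext fun w => Subtype.ext ?_
    have := LinearMap.congr_fun (hL.klein a b c d h1 h2 h3 h4 h5 h6) (w : V)
    rw [LinearMap.neg_apply, Module.End.mul_apply, Module.End.mul_apply] at this
    rw [LinearMap.neg_apply, Submodule.coe_neg, Module.End.mul_apply, Module.End.mul_apply,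
      key _ (sign_ss h1 h6), key _ (sign_ss h2 h5), key _ (sign_ss h2 h5), key _ (sign_ss h1 h6), this]

theorem IsSpin.even_finrank (hL : IsSpin L) [FiniteDimensional k V] (h2 : (2 : k) ≠ 0) {a b c d : α} (hab : a ≠ b)
    (hac : a ≠ c) (had : a ≠ d) (hbc : b ≠ c) (hbd : b ≠ d) (hcd : c ≠ d) : Even (finrank k V) := by
  have h := congrArg LinearMap.det (hL.klein a b c d hab hac had hbc hbd hcd)
  set A := L (swap a b * swap c d) with hA
  set B := L (swap a c * swap b d) with hB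
  rw [show -(B * A) = (-1 : k) • (B * A) by rw [neg_smul, one_smul], LinearMap.det_smul, map_mul, map_mul,
    mul_comm (LinearMap.det B)] at h
  have hne : ∀ {a b c d : α}, a ≠ b → a ≠ c → a ≠ d → b ≠ c → b ≠ d → c ≠ d →
      LinearMap.det (L (swap a b * swap c d)) ≠ 0 := by
    intro a b c d h1 h2' h3 h4 h5 h6 h0
    have := congrArg LinearMap.det (hL.sq h1 h2' h3 h4 h5 h6)
    rw [map_mul, h0, zero_mul, show (-1 : Module.End k V) = (-1 : k) • 1 by rw [neg_smul, one_smul],
      LinearMap.det_smul, map_one, mul_one] at this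
    exact pow_ne_zero _ (neg_ne_zero.2 one_ne_zero) this.symm
  have h1 : (-1 : k) ^ finrank k V = 1 :=
    (mul_eq_right₀ (mul_ne_zero (hne hab hac had hbc hbd hcd) (hne hac hab had hbc.symm hcd hbd))).1 h.symm
  rcases Nat.even_or_odd (finrank k V) with e | e
  · exact e
  · rw [e.neg_one_pow] at h1
    exact absurd (by linear_combination -h1 : (2 : k) = 0) h2

theorem IsSpin.not_scalar_c3 (hL : IsSpin L) [Nontrivial V] (h2 : (2 : k) ≠ 0) (hcard : 5 ≤ Fintype.card α)
    {x y z : α} (hxy : x ≠ y) (hxz : x ≠ z) (hyz : y ≠ z) (c : k) : L (c3 x y z) ≠ c • 1 := by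
  intro hc
  have hall : ∀ p q r : α, p ≠ q → p ≠ r → q ≠ r → ∃ e : k, L (c3 p q r) = e • 1 := by
    intro p q r hpq hpr hqr
    obtain ⟨g, hg, hm⟩ := exists_even_map ![x, y, z] ![p, q, r]
      (by intro i j; fin_cases i <;> fin_cases j <;> simp [hxy, hxz, hyz, hxy.symm, hxz.symm, hyz.symm])
      (by intro i j; fin_cases i <;> fin_cases j <;> simp [hpq, hpr, hqr, hpq.symm, hpr.symm, hqr.symm]) (by omega)
    rw [← show g x = p from hm 0, ← show g y = q from hm 1, ← show g z = r from hm 2, ← c3_conj]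
    have hsurj : ∀ v, ∃ u, L g u = v := fun v => by
      rcases hL.inv_mul (σ := g⁻¹) (by rw [map_inv, hg, inv_one]) with e | e <;> rw [inv_inv] at e
      · exact ⟨L g⁻¹ v, by rw [← Module.End.mul_apply, e]; rfl⟩
      · exact ⟨-(L g⁻¹ v), by rw [map_neg, ← Module.End.mul_apply, e]; simp⟩
    rcases hL.conj_mul hg (sign_c3 hxy hyz) with e | e <;> rw [hc, mul_smul_comm, mul_one] at e
    · refine ⟨c, LinearMap.ext fun v => ?_⟩
      obtain ⟨u, rfl⟩ := hsurj v
      rw [← Module.End.mul_apply, e]; rfl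
    · refine ⟨-c, LinearMap.ext fun v => ?_⟩
      obtain ⟨u, rfl⟩ := hsurj v
      rw [← Module.End.mul_apply, e]; simp
  obtain ⟨o, ho, -⟩ := exists_outside (∅ : Finset α) (j := 4) (by simp; omega)
  have one : ∀ i j : Fin 4, i ≠ j → o i ≠ o j := fun i j h => ho.ne h
  set a := o 0
  set b := o 1
  set c' := o 2
  set d := o 3
  have hab : a ≠ b := one _ _ (by decide)
  have hac : a ≠ c' := one _ _ (by decide)
  have had : a ≠ d := one _ _ (by decide)
  have hbc : b ≠ c' := one _ _ (by decide)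
  have hbd : b ≠ d := one _ _ (by decide)
  have hcd : c' ≠ d := one _ _ (by decide)
  obtain ⟨e₁, he₁⟩ := hall a b c' hab hac hbc
  obtain ⟨e₂, he₂⟩ := hall b c' d hbc hbd hcd
  obtain ⟨e, he⟩ : ∃ e : k, L (swap a b * swap c' d) = e • 1 := by
    rcases hL.mul _ _ (sign_c3 hab hbc) (sign_c3 hbc hcd) with e | e <;>
      rw [← ss_eq_c3_mul, he₁, he₂, smul_mul_smul_comm, one_mul] at e
    · exact ⟨_, e⟩
    · exact ⟨-(e₁ * e₂), by rw [e, neg_smul]⟩
  have hk := hL.klein a b c' d hab hac had hbc hbd hcd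
  obtain ⟨v, hv⟩ := exists_ne (0 : V)
  have := LinearMap.congr_fun hk v
  rw [he] at this
  simp only [Module.End.mul_apply, LinearMap.smul_apply, Module.End.one_apply, LinearMap.neg_apply, map_smul] at this
  have h0 : (2 : k) • e • L (swap a c' * swap b d) v = 0 := by
    rw [two_smul]; exact eq_neg_iff_add_eq_zero.1 this
  have h1 := (smul_eq_zero.1 ((smul_eq_zero.1 h0).resolve_left h2))
  rcases h1 with h1 | h1
  · exact hv (hL.injective (sign_ss hab hcd) (by rw [he, h1, zero_smul]; simp))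
  · exact hv (hL.injective (sign_ss hac hbd) (h1.trans (map_zero _).symm))

end CfsgLib.KnownC.AltSec
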