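import Cfsg.Agent.Lib.Clifford.AltCover
import Cfsg.Agent.Lib.Clifford.AltSchur
import Cfsg.Agent.Lib.KnownC.AltSec.SpinBasic

/-!
A perfect double cover of the alternating group gives anticommuting lifts of the four group.
-/

set_option autoImplicit false

namespace CfsgLib.KnownC.AltSec

open Equiv Equiv.Perm
open CfsgLib.Clifford.AltCover
open scoped commutatorElement

universe u

theorem pairLift_anti {n : ℕ} {a b c d : Fin n} (hab : a ≠ b) (hac : a ≠ c) (had : a ≠ d) (hbc : b ≠ c)
    (hbd : b ≠ d) (hcd : c ≠ d) :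
    pairLift n hab hcd * pairLift n hac hbd = zed n * (pairLift n hac hbd * pairLift n hab hcd) := by
  set A := pairLift n hab hcd with hA
  set B := pairLift n hac hbd with hB
  have hσa : (swap a b * swap c d) a = b := by
    simp [Perm.mul_apply, swap_apply_def, hac, had]
  have hσb : (swap a b * swap c d) b = a := by
    simp [Perm.mul_apply, swap_apply_def, hbc, hbd, hab.symm]
  have hσc : (swap a b * swap c d) c = d := by
    simp [Perm.mul_apply, swap_apply_def, had.symm, hbd.symm]
  have hσd : (swap a b * swap c d) d = c := by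
    simp [Perm.mul_apply, swap_apply_def, hac.symm, hbc.symm, hcd.symm]
  have hanti : CliffordAlgebra.ι (Q n) (root n b d) * CliffordAlgebra.ι (Q n) (root n a c) =
      -(CliffordAlgebra.ι (Q n) (root n a c) * CliffordAlgebra.ι (Q n) (root n b d)) := by
    rw [CliffordAlgebra.ι_mul_ι_comm, polar_Q, sum_root_mul]
    simp [root, hab.symm, hbc, had.symm, hcd.symm]
  have hu : (A * B).1.2 = -(B * A).1.2 := by
    refine Units.ext ?_
    have hA3 := A.2.2.2
    simp only [Subgroup.coe_mul, Prod.snd_mul, Units.val_mul, Units.val_neg]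
    set u := (A.1.2 : CliffordAlgebra (Q n)) with hu
    show u * (CliffordAlgebra.ι (Q n) (root n a c) * CliffordAlgebra.ι (Q n) (root n b d)) =
      -(CliffordAlgebra.ι (Q n) (root n a c) * CliffordAlgebra.ι (Q n) (root n b d) * u)
    rw [← mul_assoc, hA3, mul_assoc, hA3, ← mul_assoc, perm_root, perm_root]
    show CliffordAlgebra.ι (Q n) (root n ((swap a b * swap c d) a) ((swap a b * swap c d) c)) *
      CliffordAlgebra.ι (Q n) (root n ((swap a b * swap c d) b) ((swap a b * swap c d) d)) * u = _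
    rw [hσa, hσb, hσc, hσd, hanti, neg_mul]
  refine Subtype.ext (Prod.ext ?_ ?_)
  · show A.1.1 * B.1.1 = 1 * (B.1.1 * A.1.1)
    rw [one_mul]
    refine Subtype.ext ?_
    show swap a b * swap c d * (swap a c * swap b d) = swap a c * swap b d * (swap a b * swap c d)
    rw [← mul_assoc (swap a b * swap c d), mul_swap_eq_swap_mul (swap a b * swap c d), hσa, hσc,
      mul_assoc (swap b d), mul_swap_eq_swap_mul (swap a b * swap c d), hσb, hσd, ← mul_assoc (swap b d),
      mul_swap_eq_swap_mul (swap b d), swap_apply_of_ne_of_ne hab had, swap_apply_of_ne_of_ne hbc.symm hcd]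
  · refine hu.trans (Units.ext ?_)
    simp [zed]

/-- A central double cover with perfect total group anticommutes on the four group. -/
theorem cover_klein {r : ℕ} (hr : r = 5 ∨ 8 ≤ r) {H : Type u} [Group H] [Finite H] (π : H →* Perm (Fin r))
    (hπ : π.range = alternatingGroup (Fin r)) (hperf : commutator H = ⊤) (hker : π.ker ≤ Subgroup.center H)
    (hcard : Nat.card π.ker = 2) {z : H} (hz : π z = 1) (hz1 : z ≠ 1) {A B : H} {a b c d : Fin r} (hab : a ≠ b)
    (hac : a ≠ c) (had : a ≠ d) (hbc : b ≠ c) (hbd : b ≠ d) (hcd : c ≠ d) (hA : π A = swap a b * swap c d)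
    (hB : π B = swap a c * swap b d) : A * B = z * (B * A) := by
  classical
  have hr5 : 5 ≤ r := by omega
  let π₀ : cover r →* Perm (Fin r) := (alternatingGroup (Fin r)).subtype.comp (proj r)
  have hπ₀ : ∀ g, π₀ g = 1 ↔ g = 1 ∨ g = zed r := fun g => by
    refine ⟨fun h => eq_one_or_zed r (Subtype.ext h), ?_⟩
    rintro (rfl | rfl)
    · exact map_one _
    · rfl
  have hrange₀ : π₀.range = alternatingGroup (Fin r) := by
    rw [MonoidHom.range_comp, MonoidHom.range_eq_top.2 (proj_surjective r), ← MonoidHom.range_eq_map,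
      Subgroup.range_subtype]
  have hmem₀ : ∀ p, p ∈ alternatingGroup (Fin r) ↔ p ∈ π₀.range := fun p => by rw [hrange₀]
  have hker₀ : (proj r).ker = Subgroup.zpowers (zed r) := by
    refine le_antisymm (fun g hg => ?_) (Subgroup.zpowers_le.mpr rfl)
    rcases eq_one_or_zed r hg with rfl | rfl
    · exact one_mem _
    · exact Subgroup.mem_zpowers _
  haveI : Finite (proj r).ker := by
    rw [hker₀]
    exact Nat.finite_of_card_ne_zero (by rw [Nat.card_zpowers, orderOf_zed]; norm_num)
  haveI : Finite (cover r ⧸ (proj r).ker) :=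
    Finite.of_equiv _ (QuotientGroup.quotientKerEquivOfSurjective _ (proj_surjective r)).symm.toEquiv
  haveI : Finite (cover r) := Finite.of_subgroup_quotient (proj r).ker
  have halt : ⁅alternatingGroup (Fin r), alternatingGroup (Fin r)⁆ = alternatingGroup (Fin r) := by
    have := commutator_alternatingGroup_eq_top (α := Fin r) (by simpa using hr5)
    rw [← Subgroup.map_subtype_commutator, this, ← MonoidHom.range_eq_map, Subgroup.range_subtype]
  -- the fibre product
  let P : Subgroup (cover r × H) :=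
    (π₀.comp (MonoidHom.fst _ _)).eqLocus (π.comp (MonoidHom.snd _ _))
  have hP : ∀ x, x ∈ P ↔ π₀ x.1 = π x.2 := fun x => Iff.rfl
  let D : Subgroup (cover r × H) := ⁅P, P⁆
  have hDP : D ≤ P := by
    rw [Subgroup.commutator_le]
    intro x hx y hy
    exact mul_mem (mul_mem (mul_mem hx hy) (inv_mem hx)) (inv_mem hy)
  let σ : D →* Perm (Fin r) := (π₀.comp (MonoidHom.fst _ _)).comp D.subtype
  have hPmap : Subgroup.map (π₀.comp (MonoidHom.fst _ _)) P = alternatingGroup (Fin r) := by
    refine le_antisymm ?_ fun p hp => ?_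
    · rintro _ ⟨x, -, rfl⟩
      exact (hmem₀ _).2 ⟨x.1, rfl⟩
    · obtain ⟨g, hg⟩ : p ∈ π₀.range := (hmem₀ p).1 hp
      obtain ⟨h, hh⟩ : p ∈ π.range := hπ ▸ hp
      exact ⟨(g, h), (hP _).2 (hg.trans hh.symm), hg⟩
  have hσ : σ.range = alternatingGroup (Fin r) := by
    rw [MonoidHom.range_comp, Subgroup.range_subtype]
    show Subgroup.map _ ⁅P, P⁆ = _
    rw [Subgroup.map_commutator, hPmap, halt]
  have hcen : ∀ x : cover r × H, π₀ x.1 = 1 → π x.2 = 1 → x ∈ Subgroup.center (cover r × H) := by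
    intro x h1 h2
    rw [Subgroup.mem_center_iff]
    intro y
    refine Prod.ext ?_ ?_
    · have hk : x.1 ∈ Subgroup.center (cover r) := by
        rcases (hπ₀ _).1 h1 with h | h <;> rw [h]
        · exact one_mem _
        · exact zed_central r
      exact Subgroup.mem_center_iff.1 hk y.1
    · exact Subgroup.mem_center_iff.1 (hker h2) y.2
  have hσc : σ.ker ≤ Subgroup.center D := by
    intro x hx
    have h1 : π₀ x.1.1 = 1 := hx
    have hc := hcen x.1 h1 (((hP _).1 (hDP x.2)).symm.trans h1)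
    rw [Subgroup.mem_center_iff]
    exact fun y => Subtype.ext (Subgroup.mem_center_iff.1 hc y.1)
  -- perfectness
  have hdec : ∀ x ∈ P, ∃ d ∈ D, ∃ z ∈ Subgroup.center (cover r × H), x = d * z := by
    intro x hx
    obtain ⟨d, hd⟩ : π₀ x.1 ∈ σ.range := by rw [hσ]; exact (hmem₀ _).2 ⟨_, rfl⟩
    have hd' : π₀ d.1.1 = π₀ x.1 := hd
    refine ⟨d.1, d.2, d.1⁻¹ * x, hcen _ ?_ ?_, (mul_inv_cancel_left _ _).symm⟩
    · show π₀ (d.1.1⁻¹ * x.1) = 1
      rw [map_mul, map_inv, hd', inv_mul_cancel]
    · show π (d.1.2⁻¹ * x.2) = 1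
      rw [map_mul, map_inv, ← (hP _).1 (hDP d.2), ← (hP _).1 hx, hd', inv_mul_cancel]
  have hDD : ⁅D, D⁆ = D := by
    refine le_antisymm (Subgroup.commutator_mono hDP hDP) ?_
    rw [Subgroup.commutator_le]
    intro x hx y hy
    obtain ⟨d, hd, s, hs, rfl⟩ := hdec x hx
    obtain ⟨e, he, t, ht, rfl⟩ := hdec y hy
    have : ⁅d * s, e * t⁆ = ⁅d, e⁆ := by
      rw [commutatorElement_def, commutatorElement_def, mul_inv_rev, mul_inv_rev]
      have h1 : ∀ w, w * s = s * w := Subgroup.mem_center_iff.1 hs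
      have h2 : ∀ w, w * t = t * w := Subgroup.mem_center_iff.1 ht
      calc d * s * (e * t) * (s⁻¹ * d⁻¹) * (t⁻¹ * e⁻¹) = d * (s * (e * t)) * s⁻¹ * d⁻¹ * (t⁻¹ * e⁻¹) := by group
        _ = d * ((e * t) * s) * s⁻¹ * d⁻¹ * (t⁻¹ * e⁻¹) := by rw [h1 (e * t)]
        _ = d * e * (t * d⁻¹) * t⁻¹ * e⁻¹ := by group
        _ = d * e * (d⁻¹ * t) * t⁻¹ * e⁻¹ := by rw [h2 d⁻¹]
        _ = _ := by group
    rw [this]
    exact Subgroup.commutator_mem_commutator hd he
  have hperfD : commutator D = ⊤ := by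
    rw [eq_top_iff]
    intro x _
    have h : x.1 ∈ Subgroup.map D.subtype (commutator D) := by
      rw [Subgroup.map_subtype_commutator, hDD]; exact x.2
    obtain ⟨y, hy, hyx⟩ := h
    rwa [← Subtype.ext (a1 := y) (a2 := x) hyx]
  have hD2 : Nat.card σ.ker ≤ 2 :=
    CfsgLib.Clifford.AltSchur.card_ker_le σ hσ hσc (r - 2) (by omega) hr (by rw [hperfD]; exact le_top)
  -- the two projections are bijective
  let p₁ : D →* cover r := (MonoidHom.fst _ _).comp D.subtype
  let p₂ : D →* H := (MonoidHom.snd _ _).comp D.subtype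
  have hcov : commutator (cover r) = ⊤ := by
    rw [eq_top_iff]
    intro g _
    obtain ⟨h, hh, hg⟩ : π₀ g ∈ Subgroup.map π₀ (commutator (cover r)) := by
      rw [commutator_def, Subgroup.map_commutator, ← MonoidHom.range_eq_map, hrange₀, halt]
      exact (hmem₀ _).2 ⟨g, rfl⟩
    have h1 : π₀ (h⁻¹ * g) = 1 := by rw [map_mul, map_inv, hg, inv_mul_cancel]
    have h2 : h⁻¹ * g ∈ commutator (cover r) := by
      rcases (hπ₀ _).1 h1 with e | e <;> rw [e]
      · exact one_mem _
      · exact zed_mem_commutator r (by omega)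
    simpa using mul_mem hh h2
  have hs₁ : Function.Surjective p₁ := by
    rw [← MonoidHom.range_eq_top, MonoidHom.range_comp, Subgroup.range_subtype]
    show Subgroup.map _ ⁅P, P⁆ = ⊤
    rw [Subgroup.map_commutator, ← hcov, commutator_def]
    congr 1 <;>
    · refine eq_top_iff.2 fun g _ => ?_
      obtain ⟨h, hh⟩ : π₀ g ∈ π.range := by rw [hπ]; exact (hmem₀ _).2 ⟨g, rfl⟩
      exact ⟨(g, h), (hP _).2 hh.symm, rfl⟩
  have hs₂ : Function.Surjective p₂ := by
    rw [← MonoidHom.range_eq_top, MonoidHom.range_comp, Subgroup.range_subtype]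
    show Subgroup.map _ ⁅P, P⁆ = ⊤
    rw [Subgroup.map_commutator, ← hperf, commutator_def]
    congr 1 <;>
    · refine eq_top_iff.2 fun h _ => ?_
      obtain ⟨g, hg⟩ : π h ∈ π₀.range := (hmem₀ _).1 (hπ.le ⟨h, rfl⟩)
      exact ⟨(g, h), (hP _).2 hg, rfl⟩
  have hcardπ : Nat.card H = Nat.card π.ker * Nat.card π.range := by
    rw [← Nat.card_congr (QuotientGroup.quotientKerEquivRange π).toEquiv, mul_comm,
      ← Subgroup.card_eq_card_quotient_mul_card_subgroup]
  have hk₀ : Nat.card π₀.ker = 2 := by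
    rw [show π₀.ker = Subgroup.zpowers (zed r) by
      rw [← hker₀]
      ext g
      exact ⟨fun h => Subtype.ext h, fun h => congrArg Subtype.val h⟩,
      Nat.card_zpowers, orderOf_zed]
  have hcardD : Nat.card D ≤ 2 * Nat.card (alternatingGroup (Fin r)) := by
    rw [Subgroup.card_eq_card_quotient_mul_card_subgroup σ.ker,
      Nat.card_congr (QuotientGroup.quotientKerEquivRange σ).toEquiv, hσ, mul_comm]
    exact Nat.mul_le_mul_right _ hD2
  have hcardC : Nat.card (cover r) = 2 * Nat.card (alternatingGroup (Fin r)) := by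
    rw [Subgroup.card_eq_card_quotient_mul_card_subgroup π₀.ker,
      Nat.card_congr (QuotientGroup.quotientKerEquivRange π₀).toEquiv, hk₀, hrange₀, mul_comm]
  have hcardH : Nat.card H = 2 * Nat.card (alternatingGroup (Fin r)) := by
    rw [hcardπ, hπ, hcard]
  haveI : Fintype D := Fintype.ofFinite _
  haveI : Fintype (cover r) := Fintype.ofFinite _
  haveI : Fintype H := Fintype.ofFinite _
  have hi₁ : Function.Injective p₁ := by
    have := Fintype.card_le_of_surjective p₁ hs₁
    refine ((Fintype.bijective_iff_surjective_and_card p₁).2 ⟨hs₁, ?_⟩).1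
    simp only [Nat.card_eq_fintype_card] at hcardD hcardC
    omega
  have hi₂ : Function.Injective p₂ := by
    have := Fintype.card_le_of_surjective p₂ hs₂
    refine ((Fintype.bijective_iff_surjective_and_card p₂).2 ⟨hs₂, ?_⟩).1
    simp only [Nat.card_eq_fintype_card] at hcardD hcardH
    omega
  let e := MulEquiv.ofBijective p₁ ⟨hi₁, hs₁⟩
  let φ : cover r →* H := p₂.comp e.symm.toMonoidHom
  have hφπ : ∀ g, π (φ g) = π₀ g := fun g => by
    have := (hP _).1 (hDP (e.symm g).2)
    rw [show (e.symm g).1.1 = g from e.apply_symm_apply g] at this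
    exact this.symm
  have hφinj : Function.Injective φ := hi₂.comp e.symm.injective
  have hker2 : ∀ g, π g = 1 → g = 1 ∨ g = z := fun g hg => by
    by_contra hno
    push Not at hno
    haveI : Fintype π.ker := Fintype.ofFinite _
    have h3 : ({⟨1, π.ker.one_mem⟩, ⟨z, hz⟩, ⟨g, hg⟩} : Finset π.ker).card = 3 :=
      Finset.card_eq_three.2 ⟨_, _, _, fun h => hz1 (congrArg Subtype.val h).symm,
        fun h => hno.1 (congrArg Subtype.val h).symm, fun h => hno.2 (congrArg Subtype.val h).symm, rfl⟩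
    have := Finset.card_le_univ ({⟨1, π.ker.one_mem⟩, ⟨z, hz⟩, ⟨g, hg⟩} : Finset π.ker)
    rw [h3, ← Nat.card_eq_fintype_card, hcard] at this
    omega
  have hzed : φ (zed r) = z := by
    rcases hker2 _ (by rw [hφπ]; exact (hπ₀ _).2 (Or.inr rfl)) with h | h
    · exact absurd (hφinj (h.trans (map_one φ).symm)) (fun e => by
        have := orderOf_zed r; rw [e, orderOf_one] at this; omega)
    · exact h
  have hlift : ∀ X : H, ∀ g, π₀ g = π X → ∃ k, π k = 1 ∧ X = φ g * k := fun X g hg =>
    ⟨(φ g)⁻¹ * X, by rw [map_mul, map_inv, hφπ, hg, inv_mul_cancel], (mul_inv_cancel_left _ _).symm⟩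
  obtain ⟨k, hk, rfl⟩ := hlift A (pairLift r hab hcd) (hA ▸ rfl)
  obtain ⟨l, hl, rfl⟩ := hlift B (pairLift r hac hbd) (hB ▸ rfl)
  have hkc : ∀ y, y * k = k * y := Subgroup.mem_center_iff.1 (hker hk)
  have hlc : ∀ y, y * l = l * y := Subgroup.mem_center_iff.1 (hker hl)
  set X := φ (pairLift r hab hcd)
  set Y := φ (pairLift r hac hbd)
  have hXY : X * Y = z * (Y * X) := by
    simp only [X, Y]
    rw [← map_mul, pairLift_anti hab hac had hbc hbd hcd, map_mul, map_mul, hzed]
  calc X * k * (Y * l) = (X * Y) * (k * l) := by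
        rw [mul_assoc, ← mul_assoc k, ← hkc Y, mul_assoc Y, ← mul_assoc]
    _ = z * (Y * X) * (k * l) := by rw [hXY]
    _ = z * (Y * l * (X * k)) := by
        rw [mul_assoc z, mul_assoc Y l, ← mul_assoc l X, ← hlc X, mul_assoc X l, hlc k, ← mul_assoc Y X,
          mul_assoc Y X]

end CfsgLib.KnownC.AltSec
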