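import Cfsg.Agent.Lib.KnownC.AltSec.Perms

/-!
An equivariant alternating family of vectors on pairs spans an image of the sum-zero permutation module.
-/

set_option autoImplicit false

namespace CfsgLib.KnownC.AltSec

open Equiv Equiv.Perm Module

variable {α : Type*} [Fintype α] [DecidableEq α] {k : Type*} [Field k] {V : Type*} [AddCommGroup V] [Module k V]

/-- A vector fixed by everything, attached to pairs equivariantly, is zero. -/
theorem cocycle_eq_zero {R : Perm α → Module.End k V} (hR : IsRep R) {v : α → α → V}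
    (hcard : 4 ≤ Fintype.card α)
    (heq : ∀ σ, sign σ = 1 → ∀ a b, a ≠ b → R σ (v a b) = v (σ a) (σ b))
    (hanti : ∀ a b, a ≠ b → v b a = -v a b)
    (hco : ∀ a b c, a ≠ b → a ≠ c → b ≠ c → v a b + v b c + v c a = 0)
    {a b : α} (hab : a ≠ b) (hfix : FixedOff R ∅ (v a b)) : v a b = 0 := by
  have hall : ∀ σ : Perm α, sign σ = 1 → v (σ a) (σ b) = v a b := fun σ hσ => by
    rw [← heq σ hσ a b hab]; exact hfix.apply_eq hR hσ (by simp)
  have hconst : ∀ x y, x ≠ y → v x y = v a b := by
    intro x y hxy
    obtain ⟨σ, hσ, hm⟩ := exists_even_map ![a, b] ![x, y]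
      (by intro i j; fin_cases i <;> fin_cases j <;> simp [hab, hab.symm])
      (by intro i j; fin_cases i <;> fin_cases j <;> simp [hxy, hxy.symm]) (by omega)
    have h0 : σ a = x := hm 0
    have h1 : σ b = y := hm 1
    rw [← h0, ← h1]; exact hall σ hσ
  obtain ⟨f, -, hf⟩ := exists_outside ({a, b} : Finset α) (j := 1)
    (by have := Finset.card_le_two (a := a) (b := b); omega)
  have hc := hf 0
  simp only [Finset.mem_insert, Finset.mem_singleton, not_or] at hc
  have h2 : v a b = -v a b := (hconst b a hab.symm).symm.trans (hanti a b hab)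
  have h3 := hco a b (f 0) hab (Ne.symm hc.1) (Ne.symm hc.2)
  rw [hconst _ _ (Ne.symm hc.2), hconst _ _ hc.1] at h3
  have h22 : v a b + v a b = 0 := eq_neg_iff_add_eq_zero.1 h2
  rwa [h22, zero_add] at h3

/-- The dimension bound. -/
theorem endgame [FiniteDimensional k V] (p : ℕ) [CharP k p] {R : Perm α → Module.End k V} (hR : IsRep R)
    {v : α → α → V} (hcard : 6 ≤ Fintype.card α)
    (heq : ∀ σ, sign σ = 1 → ∀ a b, a ≠ b → R σ (v a b) = v (σ a) (σ b))
    (hanti : ∀ a b, a ≠ b → v b a = -v a b)
    (hco : ∀ a b c, a ≠ b → a ≠ c → b ≠ c → v a b + v b c + v c a = 0)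
    (hne : ∃ a b, a ≠ b ∧ v a b ≠ 0) :
    Fintype.card α - 1 - (if p ∣ Fintype.card α then 1 else 0) ≤ finrank k V := by
  classical
  obtain ⟨o, o', hoo, hne⟩ := hne
  have hfix : ∀ a b, a ≠ b → FixedOff R {a, b} (v a b) := by
    intro a b hab x y z hx hy hz hxy hxz hyz
    simp only [Finset.mem_insert, Finset.mem_singleton, not_or] at hx hy hz
    rw [heq _ (sign_c3 hxy hyz) a b hab, c3_other (Ne.symm hx.1) (Ne.symm hy.1) (Ne.symm hz.1),
      c3_other (Ne.symm hx.2) (Ne.symm hy.2) (Ne.symm hz.2)]
  let f : α → V := fun x => if x = o then 0 else v x o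
  have hdiff : ∀ a b, a ≠ b → v a b = f a - f b := by
    intro a b hab
    simp only [f]
    split_ifs with ha hb hb
    · exact absurd (ha.trans hb.symm) hab
    · subst ha; rw [zero_sub, ← hanti b a hab.symm]
    · subst hb; rw [sub_zero]
    · have h := hco a b o hab ha hb
      rw [hanti a o ha] at h
      rw [eq_comm, sub_eq_iff_eq_add, eq_comm]
      rw [← sub_eq_add_neg, sub_eq_zero] at h
      exact h
  let Φ : (α → k) →ₗ[k] V :=
    { toFun := fun c => ∑ x, c x • f x
      map_add' := fun c c' => by simp [add_smul, Finset.sum_add_distrib]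
      map_smul' := fun r c => by simp [Finset.smul_sum, smul_smul] }
  let tot : (α → k) →ₗ[k] k :=
    { toFun := fun c => ∑ x, c x
      map_add' := fun c c' => by simp [Finset.sum_add_distrib]
      map_smul' := fun r c => by simp [Finset.mul_sum] }
  have hequiv : ∀ σ, sign σ = 1 → ∀ c : α → k, tot c = 0 → R σ (Φ c) = Φ fun x => c (σ⁻¹ x) := by
    intro σ hσ c hc
    have hf : ∀ x, R σ (f x) = f (σ x) - f (σ o) := fun x => by
      by_cases hx : x = o
      · subst hx; simp [f]
      · rw [show f x = v x o from if_neg hx, heq σ hσ x o hx, hdiff _ _ (σ.injective.ne hx)]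
    show R σ (∑ x, c x • f x) = ∑ x, c (σ⁻¹ x) • f x
    rw [← Equiv.sum_comp σ (fun x => c (σ⁻¹ x) • f x), map_sum]
    simp only [map_smul, hf, smul_sub, Finset.sum_sub_distrib, ← Finset.sum_smul,
      Equiv.Perm.inv_def, Equiv.symm_apply_apply]
    rw [show ∑ x, c x = 0 from hc, zero_smul, sub_zero]
  have hker : ∀ c, tot c = 0 → Φ c = 0 → ∀ a b, c a = c b := by
    intro c hc hΦ a b
    by_contra hne'
    have hab : a ≠ b := fun h => hne' (h ▸ rfl)
    obtain ⟨g, hg, hgout⟩ := exists_outside ({a, b} : Finset α) (j := 4)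
      (by rw [Finset.card_pair hab]; omega)
    simp only [Finset.mem_insert, Finset.mem_singleton, not_or] at hgout
    set d := g 0
    set e := g 1
    have hde : d ≠ e := hg.ne (by decide)
    have hda : d ≠ a := (hgout 0).1
    have hdb : d ≠ b := (hgout 0).2
    have hea : e ≠ a := (hgout 1).1
    have heb : e ≠ b := (hgout 1).2
    have hh : sign (swap a b * swap d e) = 1 := by
      rw [map_mul, sign_swap hab, sign_swap hde]; rfl
    set c' : α → k := c - fun x => c ((swap a b * swap d e)⁻¹ x) with hc'
    have hΦ' : Φ c' = 0 := by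
      rw [hc', map_sub, ← hequiv _ hh c hc, hΦ, map_zero, sub_zero]
    have hc'' : c' = (c a - c b) • (Pi.single a 1 - Pi.single b 1) +
        (c d - c e) • (Pi.single d 1 - Pi.single e 1) := by
      funext x
      simp only [hc', mul_inv_rev, swap_inv, Perm.mul_apply, Pi.sub_apply, Pi.add_apply, Pi.smul_apply,
        smul_eq_mul]
      by_cases h1 : x = a
      · rw [h1, swap_apply_left, swap_apply_of_ne_of_ne (Ne.symm hdb) (Ne.symm heb)]
        simp [hab, hda.symm, hea.symm]
      by_cases h2 : x = b
      · rw [h2, swap_apply_right, swap_apply_of_ne_of_ne (Ne.symm hda) (Ne.symm hea)]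
        simp [hab.symm, hdb.symm, heb.symm]
      by_cases h3 : x = d
      · rw [h3, swap_apply_of_ne_of_ne hda hdb, swap_apply_left]
        simp [hda, hdb, hde]
      by_cases h4 : x = e
      · rw [h4, swap_apply_of_ne_of_ne hea heb, swap_apply_right]
        simp [hea, heb, hde.symm]
      simp [h1, h2, h3, h4, swap_apply_of_ne_of_ne h1 h2, swap_apply_of_ne_of_ne h3 h4]
    have hval : ∀ x y, x ≠ y → Φ (Pi.single x 1 - Pi.single y 1) = v x y := by
      intro x y hxy
      show ∑ z, (Pi.single x (1 : k) - Pi.single y 1 : α → k) z • f z = v x y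
      simp [sub_smul, Finset.sum_sub_distrib, Pi.single_apply, ite_smul, hdiff x y hxy]
    rw [hc'', map_add, map_smul, map_smul, hval a b hab, hval d e hde] at hΦ'
    have hsub : ∀ τ, sign τ = 1 → τ a = a → τ b = b → τ d = g 2 → τ e = g 3 →
        (c d - c e) • (v d e - v (g 2) (g 3)) = 0 := by
      intro τ hτ ha hb hd he
      have := congrArg (R τ) hΦ'
      rw [map_add, map_smul, map_smul, heq τ hτ a b hab, heq τ hτ d e hde, ha, hb, hd, he, map_zero] at this
      have h2 := hΦ'
      rw [← this] at h2
      rw [smul_sub, sub_eq_zero]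
      exact add_left_cancel h2
    obtain ⟨τ, hτ, hm⟩ := exists_even_map ![a, b, d, e] ![a, b, g 2, g 3]
      (by
        intro i j; fin_cases i <;> fin_cases j <;>
          simp [hab, hab.symm, hde, hde.symm, d, e, (hgout 0).1, (hgout 0).2, (hgout 1).1, (hgout 1).2,
            Ne.symm (hgout 0).1, Ne.symm (hgout 0).2, Ne.symm (hgout 1).1, Ne.symm (hgout 1).2,
            hg.ne (show (0 : Fin 4) ≠ 1 by decide), hg.ne (show (1 : Fin 4) ≠ 0 by decide)])
      (by
        intro i j; fin_cases i <;> fin_cases j <;>
          simp [hab, hab.symm, (hgout 2).1, (hgout 2).2, (hgout 3).1, (hgout 3).2,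
            Ne.symm (hgout 2).1, Ne.symm (hgout 2).2, Ne.symm (hgout 3).1, Ne.symm (hgout 3).2,
            hg.ne (show (2 : Fin 4) ≠ 3 by decide), hg.ne (show (3 : Fin 4) ≠ 2 by decide)])
      (by omega)
    have hz := hsub τ hτ (hm 0) (hm 1) (hm 2) (hm 3)
    have hvde : c d - c e = 0 := by
      by_contra hne2
      have heq2 : v d e = v (g 2) (g 3) := sub_eq_zero.1 ((smul_eq_zero.1 hz).resolve_left hne2)
      have hfix2 : FixedOff R {g 2, g 3} (v d e) := heq2 ▸ hfix (g 2) (g 3) (hg.ne (by decide))
      have hj := (hfix d e hde).join hR hfix2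
        (by have := Finset.card_union_le ({d, e} : Finset α) {g 2, g 3}
            have h1 := Finset.card_le_two (a := d) (b := e)
            have h2 := Finset.card_le_two (a := g 2) (b := g 3)
            omega)
      rw [show ({d, e} : Finset α) ∩ {g 2, g 3} = ∅ by
        ext x
        simp only [Finset.mem_inter, Finset.mem_insert, Finset.mem_singleton, Finset.notMem_empty, iff_false]
        rintro ⟨rfl | rfl, h | h⟩ <;> exact absurd (hg h) (by decide)] at hj
      have h0 := cocycle_eq_zero hR (by omega) heq hanti hco hde hj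
      obtain ⟨τ', hτ', hm'⟩ := exists_even_map ![d, e] ![o, o']
        (by intro i j; fin_cases i <;> fin_cases j <;> simp [hde, hde.symm])
        (by intro i j; fin_cases i <;> fin_cases j <;> simp [hoo, hoo.symm]) (by omega)
      have := heq τ' hτ' d e hde
      rw [h0, map_zero, show τ' d = o from hm' 0, show τ' e = o' from hm' 1] at this
      exact hne this.symm
    rw [hvde, zero_smul, add_zero, smul_eq_zero] at hΦ'
    have h0 := hΦ'.resolve_left (sub_ne_zero.2 hne')
    obtain ⟨τ', hτ', hm'⟩ := exists_even_map ![a, b] ![o, o']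
      (by intro i j; fin_cases i <;> fin_cases j <;> simp [hab, hab.symm])
      (by intro i j; fin_cases i <;> fin_cases j <;> simp [hoo, hoo.symm]) (by omega)
    have := heq τ' hτ' a b hab
    rw [h0, map_zero, show τ' a = o from hm' 0, show τ' b = o' from hm' 1] at this
    exact hne this.symm
  set Ψ : LinearMap.ker tot →ₗ[k] V := Φ.comp (LinearMap.ker tot).subtype with hΨ
  have hsurj : Function.Surjective tot := fun r => ⟨Pi.single o r, by simp [tot]⟩
  have hdim : finrank k (LinearMap.ker tot) = Fintype.card α - 1 := by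
    have := LinearMap.finrank_range_add_finrank_ker tot
    rw [LinearMap.range_eq_top.2 hsurj, finrank_top, Module.finrank_self, Module.finrank_fintype_fun_eq_card] at this
    omega
  have hrn := LinearMap.finrank_range_add_finrank_ker Ψ
  have hle := Submodule.finrank_le (LinearMap.range Ψ)
  suffices finrank k (LinearMap.ker Ψ) ≤ if p ∣ Fintype.card α then 1 else 0 by omega
  by_cases hp : p ∣ Fintype.card α
  · rw [if_pos hp]
    let ev : LinearMap.ker Ψ →ₗ[k] k :=
      { toFun := fun c => (c.1.1 : α → k) o, map_add' := fun _ _ => rfl, map_smul' := fun _ _ => rfl }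
    have hinj : Function.Injective ev := by
      rw [injective_iff_map_eq_zero]
      intro c hc
      refine Subtype.ext (Subtype.ext (funext fun x => ?_))
      exact (hker c.1.1 c.1.2 c.2 x o).trans hc
    exact le_of_le_of_eq (LinearMap.finrank_le_finrank_of_injective hinj) (Module.finrank_self k)
  · rw [if_neg hp]
    suffices LinearMap.ker Ψ = ⊥ by rw [this, finrank_bot]
    rw [Submodule.eq_bot_iff]
    intro c hc
    refine Subtype.ext (funext fun x => ?_)
    have hconst : ∀ y, (c.1 : α → k) y = c.1 x := fun y => hker c.1 c.2 hc y x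
    have hsum : ∑ y, (c.1 : α → k) y = 0 := c.2
    rw [Finset.sum_congr rfl (fun y _ => hconst y), Finset.sum_const, Finset.card_univ, nsmul_eq_mul,
      mul_eq_zero, CharP.cast_eq_zero_iff k p] at hsum
    exact hsum.resolve_left hp

end CfsgLib.KnownC.AltSec
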