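import Mathlib

/-!
Normal subgroups of a minimal preimage of an alternating group in a linear group.
-/

set_option autoImplicit false

namespace CfsgLib.KnownC.AltSec

open Module
open scoped commutatorElement

universe u v w

/-- A finite group onto the even permutations with no proper subgroup onto them. -/
structure MinCover {G : Type u} [Group G] {r : ℕ} (φ : G →* Equiv.Perm (Fin r)) : Prop where
  range_eq : φ.range = alternatingGroup (Fin r)
  le_deg : 9 ≤ r
  min : ∀ M : Subgroup G, M.map φ = alternatingGroup (Fin r) → M = ⊤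

variable {G : Type u} [Group G] {r : ℕ} {φ : G →* Equiv.Perm (Fin r)}

theorem MinCover.eq_top_of_sup (h : MinCover φ) {M : Subgroup G} (hM : M ⊔ φ.ker = ⊤) : M = ⊤ := by
  refine h.min M ?_
  rw [← h.range_eq, MonoidHom.range_eq_map, ← hM, Subgroup.map_sup,
    show φ.ker.map φ = ⊥ from (Subgroup.map_eq_bot_iff _).2 le_rfl, sup_bot_eq]

theorem MinCover.perfect (h : MinCover φ) : commutator G = ⊤ := by
  refine h.min _ ?_
  rw [commutator_def, Subgroup.map_commutator, ← MonoidHom.range_eq_map, h.range_eq,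
    ← Subgroup.map_subtype_commutator,
    commutator_alternatingGroup_eq_top (α := Fin r) (by simpa using (le_trans (by norm_num) h.le_deg : 5 ≤ r)),
    ← MonoidHom.range_eq_map, Subgroup.range_subtype]

theorem MinCover.le_ker (h : MinCover φ) {N : Subgroup G} [N.Normal] (hN : N ≠ ⊤) : N ≤ φ.ker := by
  haveI : IsSimpleGroup (alternatingGroup (Fin r)) :=
    alternatingGroup.isSimpleGroup (by simpa using (le_trans (by norm_num) h.le_deg : 5 ≤ r))
  let ψ : G →* alternatingGroup (Fin r) := φ.codRestrict _ fun g => h.range_eq.le ⟨g, rfl⟩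
  have hψ : Function.Surjective ψ := fun s => by
    obtain ⟨g, hg⟩ := h.range_eq.ge s.2
    exact ⟨g, Subtype.ext hg⟩
  haveI : (N.map ψ).Normal := Subgroup.Normal.map inferInstance ψ hψ
  rcases Subgroup.Normal.eq_bot_or_eq_top (H := N.map ψ) inferInstance with hb | hb
  · intro g hg
    have : ψ g ∈ N.map ψ := ⟨g, hg, rfl⟩
    rw [hb, Subgroup.mem_bot] at this
    exact congrArg Subtype.val this
  · refine absurd (h.eq_top_of_sup ?_) hN
    refine eq_top_iff.2 fun g _ => ?_
    obtain ⟨m, hm, hmg⟩ : ψ g ∈ N.map ψ := by rw [hb]; exact Subgroup.mem_top _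
    have : m⁻¹ * g ∈ φ.ker := by
      rw [MonoidHom.mem_ker, map_mul, map_inv, show φ m = φ g from congrArg Subtype.val hmg, inv_mul_cancel]
    simpa using Subgroup.mul_mem_sup hm this

theorem MinCover.index_ge [Finite G] (h : MinCover φ) {S : Subgroup G} (hS : S ≠ ⊤) : r ≤ S.index := by
  classical
  by_contra hlt
  push Not at hlt
  let σ := MulAction.toPermHom G (G ⧸ S)
  have hσ : σ.ker ≠ ⊤ := by
    rw [← Subgroup.normalCore_eq_ker]
    exact fun e => hS (eq_top_iff.2 (e ▸ S.normalCore_le))
  have h1 : φ.ker.index ∣ σ.ker.index := Subgroup.index_dvd_of_le (h.le_ker hσ)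
  rw [Subgroup.index_ker, Subgroup.index_ker, h.range_eq] at h1
  haveI : Nontrivial (Fin r) := Fin.nontrivial_iff_two_le.2 (le_trans (by norm_num) h.le_deg)
  have h2 : Nat.card σ.range ≤ S.index.factorial := by
    have := Nat.card_le_card_of_injective σ.range.subtype σ.range.subtype_injective
    rwa [Nat.card_perm, ← Subgroup.index] at this
  have h3 : Nat.card σ.range ≠ 0 := Nat.card_ne_zero.2 ⟨inferInstance, inferInstance⟩
  have h4 : 2 * Nat.card (alternatingGroup (Fin r)) = r.factorial := by
    rw [two_mul_nat_card_alternatingGroup, Nat.card_perm, Nat.card_fin]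
  have h5 : S.index.factorial ≤ (r - 1).factorial := Nat.factorial_le (by omega)
  have h6 := Nat.le_of_dvd (Nat.pos_of_ne_zero h3) h1
  have h7 : r * (r - 1).factorial = r.factorial := Nat.mul_factorial_pred (by have := h.le_deg; omega)
  have h8 : 3 * (r - 1).factorial ≤ r * (r - 1).factorial :=
    Nat.mul_le_mul_right _ (by have := h.le_deg; omega)
  have := (r - 1).factorial_pos
  omega

variable {k : Type w} [Field k] {V : Type v} [AddCommGroup V] [Module k V]

/-- Common eigenvectors with different characters are independent. -/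
theorem eigen_indep {ι : Type*} {κ : Type*} (f : ι → Module.End k V) (χ : κ → ι → k) (hχ : Function.Injective χ)
    (v : κ → V) (hv : ∀ q, v q ≠ 0) (hf : ∀ q i, f i (v q) = χ q i • v q) : LinearIndependent k v := by
  classical
  rw [linearIndependent_iff']
  intro s
  induction s using Finset.induction_on with
  | empty => simp
  | insert a s ha ih =>
    intro c hc
    rw [Finset.sum_insert ha] at hc
    have hs : ∀ q ∈ s, c q = 0 := by
      intro q hq
      have hqa : q ≠ a := fun e => ha (e ▸ hq)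
      obtain ⟨i, hi⟩ := Function.ne_iff.1 (hχ.ne hqa)
      have h := congrArg (fun x => f i x - χ a i • x) hc
      simp only [map_add, map_sum, map_smul, hf, map_zero, smul_zero, sub_self, smul_add, Finset.smul_sum,
        smul_comm (χ a i) (c _), add_sub_add_left_eq_sub, ← Finset.sum_sub_distrib, ← smul_sub, ← sub_smul,
        smul_smul] at h
      have := ih (fun q => c q * (χ q i - χ a i)) (by simpa only [mul_sub] using h) q hq
      exact (mul_eq_zero.1 this).resolve_right (sub_ne_zero.2 hi)
    intro q hq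
    rcases Finset.mem_insert.1 hq with e | hq'
    · rw [e]
      rw [Finset.sum_eq_zero (fun j hj => by rw [hs j hj, zero_smul]), add_zero] at hc
      exact (smul_eq_zero.1 hc).resolve_right (hv a)
    · exact hs q hq'

/-- An irreducible action. -/
def Irred (ρ : G →* Module.End k V) : Prop :=
  ∀ W : Submodule k V, (∀ g, ∀ x ∈ W, ρ g x ∈ W) → W = ⊥ ∨ W = ⊤

theorem scalar_of_commute [IsAlgClosed k] [FiniteDimensional k V] [Nontrivial V] {ρ : G →* Module.End k V}
    (hirr : Irred ρ) (T : Module.End k V) (hT : ∀ g, Commute (ρ g) T) : ∃ c : k, T = c • 1 := by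
  obtain ⟨c, hc⟩ := Module.End.exists_eigenvalue T
  refine ⟨c, ?_⟩
  rcases hirr (Module.End.eigenspace T c) (fun g x hx => by
    rw [Module.End.mem_eigenspace_iff] at hx ⊢
    rw [← Module.End.mul_apply, ← (hT g).eq, Module.End.mul_apply, hx, map_smul]) with h | h
  · exact absurd h hc
  · refine LinearMap.ext fun x => ?_
    have : x ∈ Module.End.eigenspace T c := h ▸ Submodule.mem_top
    simpa [Module.End.mem_eigenspace_iff] using this

theorem rho_inv_apply (ρ : G →* Module.End k V) (g : G) (x : V) : ρ g⁻¹ (ρ g x) = x := by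
  rw [← Module.End.mul_apply, ← map_mul, inv_mul_cancel, map_one, Module.End.one_apply]

theorem mem_center_of_scalar {ρ : G →* Module.End k V} (hinj : Function.Injective ρ) {a : G}
    (ha : ∃ c : k, ρ a = c • 1) : a ∈ Subgroup.center G := by
  obtain ⟨c, hc⟩ := ha
  refine Subgroup.mem_center_iff.2 fun g => hinj ?_
  rw [map_mul, map_mul, hc, mul_smul_comm, smul_mul_assoc, mul_one, one_mul]

/-- Abelian normal subgroups of small degree act by scalars. -/
theorem MinCover.abelian_scalar [Finite G] [IsAlgClosed k] [FiniteDimensional k V] [Nontrivial V] (h : MinCover φ)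
    {ρ : G →* Module.End k V} (hirr : Irred ρ) (hn : finrank k V < r) {A : Subgroup G} [A.Normal]
    (hA : ∀ a ∈ A, ∀ b ∈ A, a * b = b * a) : ∀ a ∈ A, ∃ c : k, ρ a = c • 1 := by
  classical
  letI : MulAction G (A → k) :=
    { smul := fun g χ a => χ (MulAut.conjNormal g⁻¹ a)
      one_smul := fun χ => funext fun a => by
        show χ (MulAut.conjNormal (1 : G)⁻¹ a) = χ a
        rw [inv_one, map_one, MulAut.one_apply]
      mul_smul := fun g g' χ => funext fun a => by
        show χ (MulAut.conjNormal (g * g')⁻¹ a) = χ (MulAut.conjNormal g'⁻¹ (MulAut.conjNormal g⁻¹ a))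
        rw [mul_inv_rev, map_mul, MulAut.mul_apply] }
  let E : (A → k) → Submodule k V := fun χ => ⨅ a : A, Module.End.eigenspace (ρ a) (χ a)
  have hmem : ∀ χ x, x ∈ E χ ↔ ∀ a : A, ρ a x = χ a • x := fun χ x => by
    simp [E, Submodule.mem_iInf, Module.End.mem_eigenspace_iff]
  obtain ⟨χ, hχ⟩ : ∃ χ, E χ ≠ ⊥ := by
    let 𝒲 : Set (Submodule k V) := {W | W ≠ ⊥ ∧ ∀ a : A, ∀ x ∈ W, ρ a x ∈ W}
    obtain ⟨W, ⟨hW0, hW⟩, hmin⟩ := wellFounded_lt.has_min 𝒲 ⟨⊤, top_ne_bot, fun _ _ _ => Submodule.mem_top⟩
    have hsc : ∀ a : A, ∃ c : k, ∀ x ∈ W, ρ a x = c • x := by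
      intro a
      haveI : Nontrivial W := Submodule.nontrivial_iff_ne_bot.2 hW0
      obtain ⟨c, hc⟩ := Module.End.exists_eigenvalue ((ρ a).restrict (hW a))
      refine ⟨c, fun x hx => ?_⟩
      let W' := W ⊓ Module.End.eigenspace (ρ a) c
      have hW' : W' ∈ 𝒲 := by
        refine ⟨?_, fun b y hy => ⟨hW b y hy.1, ?_⟩⟩
        · obtain ⟨y, hy, hy0⟩ := Submodule.exists_mem_ne_zero_of_ne_bot hc
          rw [Submodule.ne_bot_iff]
          refine ⟨y, ⟨y.2, ?_⟩, fun e => hy0 (Subtype.ext e)⟩
          rw [Module.End.mem_eigenspace_iff] at hy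
          exact Module.End.mem_eigenspace_iff.2 (congrArg Subtype.val hy)
        · have hy2 := Module.End.mem_eigenspace_iff.1 hy.2
          refine Module.End.mem_eigenspace_iff.2 ?_
          rw [← Module.End.mul_apply, ← map_mul, hA _ a.2 _ b.2, map_mul, Module.End.mul_apply, hy2, map_smul]
      have hle : W ≤ W' := le_of_eq (le_antisymm inf_le_left
        (not_lt_iff_le_imp_ge.1 (hmin W' hW') inf_le_left)).symm
      exact Module.End.mem_eigenspace_iff.1 (hle hx).2
    choose c hc using hsc
    obtain ⟨x, hx, hx0⟩ := Submodule.exists_mem_ne_zero_of_ne_bot hW0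
    exact ⟨c, (Submodule.ne_bot_iff _).2 ⟨x, (hmem _ _).2 fun a => hc a x hx, hx0⟩⟩
  have hmove : ∀ (g : G) χ x, x ∈ E χ → ρ g x ∈ E (g • χ) := by
    intro g χ x hx
    rw [hmem] at hx ⊢
    intro a
    have := hx (MulAut.conjNormal g⁻¹ a)
    rw [MulAut.conjNormal_apply, inv_inv, map_mul, map_mul, Module.End.mul_apply, Module.End.mul_apply] at this
    have h2 := congrArg (ρ g) this
    rw [map_smul, ← Module.End.mul_apply (ρ g) (ρ g⁻¹), ← map_mul, mul_inv_cancel, map_one,
      Module.End.one_apply] at h2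
    exact h2
  have hS : MulAction.stabilizer G χ = ⊤ := by
    by_contra hS
    refine absurd (h.index_ge hS) (not_le.2 (lt_of_le_of_lt ?_ hn))
    have hne : ∀ q : G ⧸ MulAction.stabilizer G χ, E (q.out • χ) ≠ ⊥ := fun q => by
      obtain ⟨x, hx, hx0⟩ := Submodule.exists_mem_ne_zero_of_ne_bot hχ
      exact (Submodule.ne_bot_iff _).2 ⟨ρ q.out x, hmove _ _ _ hx, fun e => hx0 (by
        rw [← rho_inv_apply ρ q.out x, e, map_zero])⟩
    choose v hv hv0 using fun q => Submodule.exists_mem_ne_zero_of_ne_bot (hne q)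
    have hinj : Function.Injective fun q : G ⧸ MulAction.stabilizer G χ => q.out • χ := fun q q' e => by
      rw [← q.out_eq', ← q'.out_eq', QuotientGroup.eq, MulAction.mem_stabilizer_iff, mul_smul]
      exact inv_smul_eq_iff.2 e.symm
    have hli := eigen_indep (fun a : A => ρ a) _ hinj v hv0 (fun q a => (hmem _ _).1 (hv q) a)
    haveI : Fintype (G ⧸ MulAction.stabilizer G χ) := Fintype.ofFinite _
    rw [Subgroup.index, Nat.card_eq_fintype_card]
    exact hli.fintype_card_le_finrank
  have hfix : ∀ g : G, g • χ = χ := fun g =>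
    MulAction.mem_stabilizer_iff.1 (by rw [hS]; exact Subgroup.mem_top g)
  rcases hirr (E χ) (fun g x hx => by simpa only [hfix g] using hmove g χ x hx) with hb | hb
  · exact absurd hb hχ
  intro a ha
  exact ⟨χ ⟨a, ha⟩, LinearMap.ext fun x => by
    simpa using (hmem χ x).1 (hb ▸ Submodule.mem_top) ⟨a, ha⟩⟩

/-- A group acting on a finite elementary abelian group, in matrices. -/
theorem exists_matrix_action_add {M : Type*} [AddCommGroup M] [Finite M] (l : ℕ) [Fact l.Prime] [Module (ZMod l) M]
    (θ : G → (M →+ M)) (h1 : ∀ q, θ 1 q = q) (hm : ∀ g g' q, θ (g * g') q = θ g (θ g' q)) :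
    ∃ (D : ℕ) (ψ : G →* Matrix (Fin D) (Fin D) (ZMod l)),
      Nat.card M = l ^ D ∧ ∀ g, ψ g = 1 → ∀ q, θ g q = q := by
  haveI : Module.Finite (ZMod l) M := Module.Finite.of_finite
  let θ' : G →* Module.End (ZMod l) M :=
    { toFun := fun g => AddMonoidHom.toZModLinearMap l (θ g)
      map_one' := LinearMap.ext fun q => h1 q
      map_mul' := fun g g' => LinearMap.ext fun q => hm g g' q }
  let b := Module.finBasis (ZMod l) M
  refine ⟨_, (LinearMap.toMatrixAlgEquiv b).toRingEquiv.toMonoidHom.comp θ', ?_, fun g hg q => ?_⟩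
  · have h := Module.natCard_eq_pow_finrank (K := ZMod l) (V := M)
    rw [Nat.card_zmod] at h
    exact h
  · have e : θ' g = 1 := (LinearMap.toMatrixAlgEquiv b).injective (hg.trans (map_one _).symm)
    exact congrArg (fun f : Module.End (ZMod l) M => f q) e

/-- A group acting on a finite elementary abelian multiplicative group, in matrices. -/
theorem exists_matrix_action {Q : Type*} [CommGroup Q] [Finite Q] (l : ℕ) [Fact l.Prime] (he : ∀ q : Q, q ^ l = 1)
    (θ : G → (Q →* Q)) (h1 : ∀ q, θ 1 q = q) (hm : ∀ g g' q, θ (g * g') q = θ g (θ g' q)) :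
    ∃ (D : ℕ) (ψ : G →* Matrix (Fin D) (Fin D) (ZMod l)),
      Nat.card Q = l ^ D ∧ ∀ g, ψ g = 1 → ∀ q, θ g q = q :=
  @exists_matrix_action_add G _ (Additive Q) _ (Finite.of_equiv Q Additive.ofMul) l _
    (AddCommGroup.zmodModule fun x => he (Additive.toMul x)) (fun g => MonoidHom.toAdditive (θ g)) h1 hm

theorem MinCover.exists_layer [Finite G] [IsAlgClosed k] [FiniteDimensional k V] [Nontrivial V] (h : MinCover φ)
    {ρ : G →* Module.End k V} (hinj : Function.Injective ρ) (hirr : Irred ρ) (hn : finrank k V < r)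
    (hK : ¬ φ.ker ≤ Subgroup.center G) :
    ∃ (l D : ℕ), l.Prime ∧ l ^ D ≤ finrank k V * finrank k V ∧
      ∃ ψ : G →* Matrix (Fin D) (Fin D) (ZMod l), ∀ g, ψ g = 1 → φ g = 1 := by
  classical
  set K := φ.ker with hKdef
  obtain ⟨l, hl, P, hPn, hPl, hPK, hP⟩ : ∃ l, l.Prime ∧ ∃ P : Subgroup G, P.Normal ∧ IsPGroup l P ∧ P ≤ K ∧
      ¬ P ≤ Subgroup.center G := by
    by_contra hno
    push Not at hno
    refine hK ?_
    have hall : ∀ q : ℕ, q.Prime → ∀ P : Sylow q K, (P : Subgroup K) ≤ (Subgroup.center G).subgroupOf K := by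
      intro q hq P
      haveI := Fact.mk hq
      have hsup := Sylow.normalizer_sup_eq_top P
      have hnor : (P.toSubgroup.map K.subtype).Normal := Subgroup.normalizer_eq_top_iff.1 (h.eq_top_of_sup hsup)
      have := hno q hq _ hnor (P.2.map _) (Subgroup.map_subtype_le _)
      exact fun x hx => this ⟨x, hx, rfl⟩
    have hdvd : Nat.card K ∣ Nat.card ((Subgroup.center G).subgroupOf K) := by
      rw [← Nat.factorization_le_iff_dvd Nat.card_pos.ne' Nat.card_pos.ne']
      intro q
      by_cases hq : q.Prime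
      · haveI := Fact.mk hq
        obtain ⟨P⟩ : Nonempty (Sylow q K) := inferInstance
        refine (Nat.Prime.pow_dvd_iff_le_factorization hq Nat.card_pos.ne').1 ?_
        exact P.card_eq_multiplicity ▸ Subgroup.card_dvd_of_le (hall q hq P)
      · simp [Nat.factorization_eq_zero_of_not_prime _ hq]
    exact Subgroup.subgroupOf_eq_top.1 (Subgroup.eq_top_of_le_card _ (Nat.le_of_dvd Nat.card_pos hdvd))
  haveI := Fact.mk hl
  obtain ⟨R, ⟨hRn, hRP, hRZ⟩, hmin⟩ := wellFounded_lt.has_min
    {R : Subgroup G | R.Normal ∧ R ≤ P ∧ ¬ R ≤ Subgroup.center G} ⟨P, hPn, le_rfl, hP⟩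
  haveI := hRn
  have hsmall : ∀ N : Subgroup G, N.Normal → N < R → N ≤ Subgroup.center G := fun N hN hlt => by
    by_contra hc
    exact hmin N ⟨hN, hlt.le.trans hRP, hc⟩ hlt
  have hRl : IsPGroup l R := hPl.to_le hRP
  haveI : Group.IsNilpotent R := hRl.isNilpotent
  haveI : Nontrivial R := R.nontrivial_iff_ne_bot.2 fun e => hRZ (e ▸ bot_le)
  have hcomm : ⁅R, R⁆ ≤ Subgroup.center G := by
    refine hsmall _ inferInstance (lt_of_le_of_ne (Subgroup.commutator_le_self R) ?_)
    intro e
    refine (IsSolvable.commutator_lt_top_of_nontrivial R).ne ?_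
    apply Subgroup.map_injective R.subtype_injective
    rw [Subgroup.map_subtype_commutator, e, ← MonoidHom.range_eq_map, Subgroup.range_subtype]
  have hcm : ∀ x ∈ R, ∀ y ∈ R, ⁅x, y⁆ ∈ Subgroup.center G := fun x hx y hy =>
    hcomm (Subgroup.commutator_mem_commutator hx hy)
  let Z := (Subgroup.center G).subgroupOf R
  have hQ : ∀ a b : R ⧸ Z, a * b = b * a := by
    intro a b
    induction a using QuotientGroup.induction_on with | _ x =>
    induction b using QuotientGroup.induction_on with | _ y =>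
    rw [← QuotientGroup.mk_mul, ← QuotientGroup.mk_mul, QuotientGroup.eq, Subgroup.mem_subgroupOf]
    have := hcm _ (inv_mem y.2) _ (inv_mem x.2)
    simpa [commutatorElement_def, mul_assoc] using this
  letI : CommGroup (R ⧸ Z) := { (inferInstance : Group (R ⧸ Z)) with mul_comm := hQ }
  haveI hZc : ∀ g : G, ∀ x : R, x ∈ Z → MulAut.conjNormal g x ∈ Z := by
    intro g x hx
    rw [Subgroup.mem_subgroupOf] at hx ⊢
    rwa [MulAut.conjNormal_apply, Subgroup.mem_center_iff.1 hx g, mul_inv_cancel_right]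
  let θ : G → (R ⧸ Z →* R ⧸ Z) := fun g => QuotientGroup.map Z Z (MulAut.conjNormal (H := R) g).toMonoidHom fun x hx => hZc g x hx
  have hθ : ∀ g x, θ g (QuotientGroup.mk x) = QuotientGroup.mk (MulAut.conjNormal g x) := fun g x => rfl
  -- exponent
  let F : R ⧸ Z →* R ⧸ Z := powMonoidHom l
  have hFl : ∀ x, F x = 1 := by
    let T : Subgroup G := ((F.range).comap (QuotientGroup.mk' Z)).map R.subtype
    have hTn : T.Normal := by
      refine ⟨fun t ht g => ?_⟩
      obtain ⟨x, ⟨y, hy⟩, rfl⟩ := ht
      refine ⟨MulAut.conjNormal g x, ⟨θ g y, ?_⟩, rfl⟩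
      show θ g y ^ l = QuotientGroup.mk (MulAut.conjNormal g x)
      rw [← map_pow, show y ^ l = QuotientGroup.mk x from hy, hθ]
    have hTle : T ≤ Subgroup.center G := by
      refine hsmall T hTn (lt_of_le_of_ne (Subgroup.map_subtype_le _) fun e => ?_)
      have htop : F.range = ⊤ := by
        apply Subgroup.comap_injective (QuotientGroup.mk'_surjective Z)
        apply Subgroup.map_injective R.subtype_injective
        rw [Subgroup.comap_top, ← MonoidHom.range_eq_map, Subgroup.range_subtype]
        exact e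
      have hne : Nontrivial (R ⧸ Z) := QuotientGroup.nontrivial_iff.2 fun e => hRZ (Subgroup.subgroupOf_eq_top.1 e)
      have hpQ : IsPGroup l (R ⧸ Z) := hRl.to_quotient Z
      obtain ⟨m, hm⟩ := IsPGroup.iff_card.1 hpQ
      have hm0 : m ≠ 0 := by
        rintro rfl
        have := Finite.one_lt_card (α := R ⧸ Z)
        rw [hm] at this
        simp at this
      obtain ⟨x, hx⟩ := exists_prime_orderOf_dvd_card' l (hm ▸ dvd_pow_self l hm0)
      have hFi : Function.Injective F := Finite.injective_iff_surjective.2 (MonoidHom.range_eq_top.1 htop)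
      have : x = 1 := hFi (by show x ^ l = (1 : R ⧸ Z) ^ l; rw [one_pow, ← hx, pow_orderOf_eq_one])
      rw [this, orderOf_one] at hx
      exact hl.ne_one hx.symm
    intro q
    induction q using QuotientGroup.induction_on with | _ x =>
    show (QuotientGroup.mk x : R ⧸ Z) ^ l = 1
    rw [← QuotientGroup.mk_pow, QuotientGroup.eq_one_iff, Subgroup.mem_subgroupOf]
    exact hTle ⟨x ^ l, ⟨QuotientGroup.mk x, rfl⟩, rfl⟩
  obtain ⟨D, ψ, hcard, hψ⟩ := exists_matrix_action l hFl θ
    (fun q => QuotientGroup.induction_on q fun x => by rw [hθ, map_one, MulAut.one_apply])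
    (fun g g' q => QuotientGroup.induction_on q fun x => by rw [hθ, hθ, hθ, map_mul, MulAut.mul_apply])
  refine ⟨l, D, hl, ?_, ψ, fun g hg => ?_⟩
  · -- independence
    have hsc : ∀ c ∈ Subgroup.center G, ∃ s : k, ρ c = s • 1 := fun c hc => scalar_of_commute hirr _ fun g => by
      rw [commute_iff_eq, ← map_mul, ← map_mul, Subgroup.mem_center_iff.1 hc g]
    choose s hs using hsc
    let χ : (R ⧸ Z) → R → k := fun q y => s _ (hcm y y.2 q.out q.out.2)
    let T : R → Module.End k (Module.End k V) := fun y =>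
      (LinearMap.mulLeft k (ρ y)).comp (LinearMap.mulRight k (ρ (y : G)⁻¹))
    have heig : ∀ q y, T y (ρ (q.out : R)) = χ q y • ρ (q.out : R) := fun q y => by
      show ρ y * (ρ (q.out : R) * ρ (y : G)⁻¹) = _
      rw [← map_mul, ← map_mul, ← mul_assoc,
        show (y : G) * ((q.out : R) : G) * (y : G)⁻¹ = ⁅(y : G), ((q.out : R) : G)⁆ * ((q.out : R) : G) by
          rw [commutatorElement_def]; group,
        map_mul, hs _ (hcm y y.2 q.out q.out.2), smul_mul_assoc, one_mul]
    have hinjχ : Function.Injective χ := by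
      intro q q' e
      rw [← q.out_eq', ← q'.out_eq', QuotientGroup.eq, Subgroup.mem_subgroupOf]
      set d : G := ((q.out⁻¹ * q'.out : R) : G)
      have hd : ∀ y : R, Commute (y : G) d := by
        intro y
        have e' := congrFun e y
        have h1 : ⁅(y : G), ((q.out : R) : G)⁆ = ⁅(y : G), ((q'.out : R) : G)⁆ := hinj (by
          rw [hs _ (hcm y y.2 q.out q.out.2), hs _ (hcm y y.2 q'.out q'.out.2)]
          exact congrArg (fun z : k => z • (1 : Module.End k V)) e')
        have hz := Subgroup.mem_center_iff.1 (hcm y y.2 q.out q.out.2)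
        have hy : ∀ x : G, (y : G) * x = ⁅(y : G), x⁆ * x * y := fun x => by rw [commutatorElement_def]; group
        show (y : G) * (((q.out : R) : G)⁻¹ * ((q'.out : R) : G)) = ((q.out : R) : G)⁻¹ * ((q'.out : R) : G) * y
        calc (y : G) * (((q.out : R) : G)⁻¹ * ((q'.out : R) : G)) = ((q.out : R) : G)⁻¹ * (((q.out : R) : G) * y) * ((q.out : R) : G)⁻¹ * ((q'.out : R) : G) := by group
          _ = ((q.out : R) : G)⁻¹ * (⁅(y : G), ((q.out : R) : G)⁆⁻¹ * y * ((q.out : R) : G)) * ((q.out : R) : G)⁻¹ * ((q'.out : R) : G) := by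
              rw [commutatorElement_def]; group
          _ = (((q.out : R) : G)⁻¹ * ⁅(y : G), ((q.out : R) : G)⁆⁻¹) * (y * ((q'.out : R) : G)) := by group
          _ = (⁅(y : G), ((q.out : R) : G)⁆⁻¹ * ((q.out : R) : G)⁻¹) * (⁅(y : G), ((q'.out : R) : G)⁆ * ((q'.out : R) : G) * y) := by
              rw [← hy, Subgroup.mem_center_iff.1 (inv_mem (hcm y y.2 q.out q.out.2)) _]
          _ = ⁅(y : G), ((q.out : R) : G)⁆⁻¹ * (((q.out : R) : G)⁻¹ * ⁅(y : G), ((q.out : R) : G)⁆) * ((q'.out : R) : G) * y := by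
              rw [← h1]; group
          _ = _ := by rw [hz]; group
      let C : Subgroup G := R ⊓ Subgroup.centralizer (R : Set G)
      haveI : C.Normal := inferInstance
      have hdC : d ∈ C := ⟨(q.out⁻¹ * q'.out : R).2, fun x hx => (hd ⟨x, hx⟩).eq⟩
      exact mem_center_of_scalar hinj (h.abelian_scalar hirr hn (A := C) (fun a ha b hb => hb.2 a ha.1) d hdC)
    have hne : ∀ q : R ⧸ Z, ρ (q.out : R) ≠ 0 := fun q e => by
      obtain ⟨x, hx⟩ := exists_ne (0 : V)
      exact hx (by rw [← rho_inv_apply ρ (q.out : R) x, e, LinearMap.zero_apply, map_zero])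
    have hli := eigen_indep T χ hinjχ _ hne heig
    haveI : Fintype (R ⧸ Z) := Fintype.ofFinite _
    have := hli.fintype_card_le_finrank
    rw [← Nat.card_eq_fintype_card, hcard, Module.finrank_linearMap] at this
    exact this
  · have hker : ψ.ker ≠ ⊤ := by
      intro e
      refine hRZ ?_
      have h1 : ⁅(⊤ : Subgroup G), R⁆ ≤ Subgroup.center G := by
        rw [Subgroup.commutator_le]
        intro g _ x hx
        have hg1 : ψ g = 1 := MonoidHom.mem_ker.1 (e ▸ Subgroup.mem_top g)
        have := hψ g hg1 (QuotientGroup.mk ⟨x, hx⟩)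
        rw [hθ] at this
        rw [← div_eq_one, ← QuotientGroup.mk_div, QuotientGroup.eq_one_iff, Subgroup.mem_subgroupOf] at this
        simpa [commutatorElement_def, div_eq_mul_inv] using this
      have h2 : ⁅⁅(⊤ : Subgroup G), R⁆, (⊤ : Subgroup G)⁆ = ⊥ := by
        rw [Subgroup.commutator_eq_bot_iff_le_centralizer]
        exact h1.trans (Subgroup.center_le_centralizer _)
      have h3 := Subgroup.commutator_commutator_eq_bot_of_rotate (H₁ := (⊤ : Subgroup G)) (H₂ := ⊤) (H₃ := R)
        h2 (by rw [Subgroup.commutator_comm R ⊤]; exact h2)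
      rw [← commutator_def, h.perfect, Subgroup.commutator_eq_bot_iff_le_centralizer] at h3
      intro x hx
      exact Subgroup.mem_center_iff.2 fun g => ((Subgroup.mem_centralizer_iff.1 (h3 (Subgroup.mem_top g))) x hx).symm
    exact MonoidHom.mem_ker.1 (h.le_ker hker (MonoidHom.mem_ker.2 hg))

end CfsgLib.KnownC.AltSec
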