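import Cfsg.Agent.Lib.KnownC.AltSec.Common
import Cfsg.Agent.Lib.KnownC.AltSec.Endgame

/-!
The degree of a nontrivial representation of the alternating group in characteristic not two.
-/

set_option autoImplicit false
set_option linter.unusedSectionVars false

namespace CfsgLib.KnownC.AltSec

open Equiv Equiv.Perm Module

section Basic

variable {α : Type*} [Fintype α] [DecidableEq α] {k : Type*} [Field k] {V : Type*} [AddCommGroup V] [Module k V]

/-- Four distinct points. -/
def Dist4 (a b c d : α) : Prop := a ≠ b ∧ a ≠ c ∧ a ≠ d ∧ b ≠ c ∧ b ≠ d ∧ c ≠ d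

theorem Dist4.map {a b c d : α} (h : Dist4 a b c d) (g : Perm α) : Dist4 (g a) (g b) (g c) (g d) :=
  ⟨g.injective.ne h.1, g.injective.ne h.2.1, g.injective.ne h.2.2.1, g.injective.ne h.2.2.2.1,
    g.injective.ne h.2.2.2.2.1, g.injective.ne h.2.2.2.2.2⟩

/-- Fixed by `(ab)(cd)`, negated by `(ac)(bd)`. -/
noncomputable def Esp (R : Perm α → Module.End k V) (a b c d : α) : Submodule k V :=
  LinearMap.ker (R (swap a b * swap c d) - 1) ⊓ LinearMap.ker (R (swap a c * swap b d) + 1)

/-- Negated by `(ab)(de)`. -/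
noncomputable def Msp (R : Perm α → Module.End k V) (a b d e : α) : Submodule k V :=
  LinearMap.ker (R (swap a b * swap d e) + 1)

variable {R : Perm α → Module.End k V}

theorem mem_Msp {a b d e : α} {v : V} : v ∈ Msp R a b d e ↔ R (swap a b * swap d e) v = -v := by
  rw [Msp, LinearMap.mem_ker, LinearMap.add_apply, Module.End.one_apply, add_eq_zero_iff_eq_neg]

theorem mem_Esp {a b c d : α} {v : V} :
    v ∈ Esp R a b c d ↔ R (swap a b * swap c d) v = v ∧ R (swap a c * swap b d) v = -v := by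
  rw [Esp, Submodule.mem_inf, LinearMap.mem_ker, LinearMap.mem_ker, LinearMap.sub_apply, LinearMap.add_apply,
    Module.End.one_apply, sub_eq_zero, add_eq_zero_iff_eq_neg]

theorem klein_mul {a b c d : α} (h : Dist4 a b c d) :
    swap a b * swap c d * (swap a c * swap b d) = swap a d * swap b c := by
  obtain ⟨h1, h2, h3, h4, h5, h6⟩ := h
  refine Equiv.ext fun w => ?_
  simp only [Perm.mul_apply, swap_apply_def]
  split_ifs <;> simp_all

theorem klein_comm {a b c d : α} (h : Dist4 a b c d) :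
    Commute (swap a b * swap c d) (swap a c * swap b d) := by
  obtain ⟨h1, h2, h3, h4, h5, h6⟩ := h
  refine Equiv.ext fun w => ?_
  simp only [Perm.mul_apply, swap_apply_def]
  split_ifs <;> simp_all

theorem Esp_third (hR : IsRep R) {a b c d : α} (h : Dist4 a b c d) {v : V} (hv : v ∈ Esp R a b c d) :
    R (swap a d * swap b c) v = -v := by
  obtain ⟨h1, h2⟩ := mem_Esp.1 hv
  rw [← klein_mul h, hR.2 _ _ (sign_ss h.1 h.2.2.2.2.2) (sign_ss h.2.1 h.2.2.2.2.1), Module.End.mul_apply, h2,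
    map_neg, h1]

theorem Esp_map (hR : IsRep R) {a b c d : α} (h : Dist4 a b c d) {g : Perm α} (hg : sign g = 1) {v : V}
    (hv : v ∈ Esp R a b c d) : R g v ∈ Esp R (g a) (g b) (g c) (g d) := by
  obtain ⟨h1, h2⟩ := mem_Esp.1 hv
  rw [mem_Esp, ← ss_conj, ← ss_conj, hR.conj_apply hg (sign_ss h.1 h.2.2.2.2.2),
    hR.conj_apply hg (sign_ss h.2.1 h.2.2.2.2.1), h1, h2, map_neg]
  exact ⟨rfl, rfl⟩

theorem finrank_Esp_map [FiniteDimensional k V] (hR : IsRep R) {a b c d : α} (h : Dist4 a b c d) {g : Perm α}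
    (hg : sign g = 1) : finrank k (Esp R (g a) (g b) (g c) (g d)) = finrank k (Esp R a b c d) := by
  have hle : ∀ (a b c d : α), Dist4 a b c d → ∀ g : Perm α, sign g = 1 →
      finrank k (Esp R a b c d) ≤ finrank k (Esp R (g a) (g b) (g c) (g d)) := by
    intro a b c d h g hg
    refine LinearMap.finrank_le_finrank_of_injective (f := (R g).restrict fun v hv => Esp_map hR h hg hv) ?_
    exact fun x y hxy => Subtype.ext (hR.injective hg (congrArg Subtype.val hxy))
  refine le_antisymm ?_ (hle a b c d h g hg)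
  have := hle _ _ _ _ (h.map g) g⁻¹ (by rw [map_inv, hg, inv_one])
  have e : ∀ x, g⁻¹ (g x) = x := fun x => by rw [← Perm.mul_apply, inv_mul_cancel, Perm.one_apply]
  rwa [e, e, e, e] at this

theorem Esp_disjoint (hR : IsRep R) (h2 : (2 : k) ≠ 0) {a b c d : α} (h : Dist4 a b c d) :
    ∀ u ∈ Esp R a b c d, ∀ u' ∈ Esp R a c d b, ∀ u'' ∈ Esp R a d b c, u + u' + u'' = 0 →
      u = 0 ∧ u' = 0 ∧ u'' = 0 := by
  intro u hu u' hu' u'' hu'' hsum
  obtain ⟨h1, h2', h3, h4, h5, h6⟩ := h
  have hd' : Dist4 a c d b := ⟨h2', h3, h1, h6, h4.symm, h5.symm⟩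
  have hd'' : Dist4 a d b c := ⟨h3, h1, h2', h5.symm, h6.symm, h4⟩
  have key : ∀ {σ : Perm α} {x y z : V}, x + y + z = 0 → R σ x = x → R σ y = -y → R σ z = -z → x = 0 := by
    intro σ x y z hs hx hy hz
    have := congrArg (R σ) hs
    rw [map_add, map_add, hx, hy, hz, map_zero] at this
    have h0 : (2 : k) • x = 0 := by
      rw [two_smul]
      linear_combination (norm := abel) hs + this
    exact (smul_eq_zero.1 h0).resolve_left h2
  have e1 : swap a b * swap c d = swap a b * swap d c := by rw [swap_comm c d]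
  refine ⟨key (σ := swap a b * swap c d) hsum (mem_Esp.1 hu).1 ?_ ?_,
    key (σ := swap a c * swap d b) (x := u') (y := u'') (z := u) (by rw [← hsum]; abel) (mem_Esp.1 hu').1 ?_ ?_,
    key (σ := swap a d * swap b c) (x := u'') (y := u) (z := u') (by rw [← hsum]; abel) (mem_Esp.1 hu'').1 ?_ ?_⟩
  · have := Esp_third hR hd' hu'
    exact this
  · rw [e1]; exact (mem_Esp.1 hu'').2
  · have := Esp_third hR hd'' hu''
    exact this
  · rw [swap_comm d b]; exact (mem_Esp.1 hu).2
  · exact Esp_third hR ⟨h1, h2', h3, h4, h5, h6⟩ hu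
  · rw [swap_comm b c]; exact (mem_Esp.1 hu').2

theorem three_le_finrank [FiniteDimensional k V] (hR : IsRep R) (h2 : (2 : k) ≠ 0) {a b c d : α} (h : Dist4 a b c d) :
    3 * finrank k (Esp R a b c d) ≤ finrank k V := by
  have h' := h
  obtain ⟨h1, h2', h3, h4, h5, h6⟩ := h'
  have := finrank_three_le (W := ⊤) (A := Esp R a b c d) (B := Esp R a c d b) (C := Esp R a d b c) le_top le_top le_top
    (Esp_disjoint hR h2 h)
  rw [finrank_top] at this
  have e1 := finrank_Esp_map hR h (sign_c3 h4 h6)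
  have hd' : Dist4 a c d b := ⟨h2', h3, h1, h6, h4.symm, h5.symm⟩
  have e2 := finrank_Esp_map hR hd' (sign_c3 h4 h6)
  rw [c3_other h1 h2' h3, c3_fst h4 h5, c3_snd h5 h6, c3_thd] at e1 e2
  omega

theorem Esp_ne_bot (hR : IsRep R) (h2 : (2 : k) ≠ 0) (hcard : 8 ≤ Fintype.card α) (hnt : Nontriv R)
    {a b c d : α} (h : Dist4 a b c d) : Esp R a b c d ≠ ⊥ := by
  intro hbot
  have hz : ∀ {a' b' c' d' : α}, Dist4 a' b' c' d' → ∀ v ∈ Esp R a' b' c' d', v = 0 := by
    intro a' b' c' d' hd v hv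
    obtain ⟨g, hg, hm⟩ := exists_even_map ![a', b', c', d'] ![a, b, c, d]
      (by
        obtain ⟨e1, e2, e3, e4, e5, e6⟩ := hd
        intro i j; fin_cases i <;> fin_cases j <;>
          simp [e1, e2, e3, e4, e5, e6, e1.symm, e2.symm, e3.symm, e4.symm, e5.symm, e6.symm])
      (by
        obtain ⟨e1, e2, e3, e4, e5, e6⟩ := h
        intro i j; fin_cases i <;> fin_cases j <;>
          simp [e1, e2, e3, e4, e5, e6, e1.symm, e2.symm, e3.symm, e4.symm, e5.symm, e6.symm]) (by omega)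
    have := Esp_map hR hd hg hv
    rw [show g a' = a from hm 0, show g b' = b from hm 1, show g c' = c from hm 2, show g d' = d from hm 3,
      hbot, Submodule.mem_bot] at this
    exact hR.injective hg (this.trans (map_zero _).symm)
  have hss : ∀ {a' b' c' d' : α}, Dist4 a' b' c' d' → R (swap a' c' * swap b' d') = 1 := by
    intro a' b' c' d' hd
    obtain ⟨e1, e2, e3, e4, e5, e6⟩ := hd
    refine LinearMap.ext fun v => ?_
    set s := swap a' c' * swap b' d'
    set u := v - R s v with hu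
    have hsu : R s u = -u := by
      rw [hu, map_sub, hR.ss_apply_sq e2 e5 e1 e3 e4.symm e6, neg_sub]
    set s₀ := swap a' b' * swap c' d'
    have hcomm : Commute s₀ s := klein_comm ⟨e1, e2, e3, e4, e5, e6⟩
    have hp : u + R s₀ u = 0 := by
      refine hz ⟨e1, e2, e3, e4, e5, e6⟩ _ (mem_Esp.2 ⟨?_, ?_⟩)
      · rw [map_add, hR.ss_apply_sq e1 e6 e2 e3 e4 e5, add_comm]
      · rw [map_add, hR.comm_apply (sign_ss e2 e5) (sign_ss e1 e6) hcomm.symm, hsu, map_neg, neg_add]
    have hm : u - R s₀ u = 0 := by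
      have hd' : Dist4 a' d' c' b' := ⟨e3, e2, e1, e6.symm, e5.symm, e4.symm⟩
      refine hz hd' _ (mem_Esp.2 ⟨?_, ?_⟩)
      · have hu0 : R s₀ u = -u := eq_neg_of_add_eq_zero_right hp
        rw [swap_comm c' b', ← klein_mul ⟨e1, e2, e3, e4, e5, e6⟩, hu0, sub_neg_eq_add,
          hR.2 _ _ (sign_ss e1 e6) (sign_ss e2 e5), Module.End.mul_apply, map_add, map_add, hsu, map_neg, hu0,
          neg_neg]
      · rw [swap_comm d' b', map_sub, hR.comm_apply (sign_ss e2 e5) (sign_ss e1 e6) hcomm.symm, hsu, map_neg]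
        abel
    have h0 : (2 : k) • u = 0 := by rw [two_smul]; linear_combination (norm := abel) hp + hm
    have := (smul_eq_zero.1 h0).resolve_left h2
    rw [hu, sub_eq_zero] at this
    rw [← this, Module.End.one_apply]
  obtain ⟨x, y, z, hxy, hxz, hyz, hne⟩ := hnt.exists_c3 hR
  obtain ⟨o, ho, hout⟩ := exists_outside ({x, y, z} : Finset α) (j := 2)
    (by have := Finset.card_le_three (a := x) (b := y) (c := z); omega)
  simp only [Finset.mem_insert, Finset.mem_singleton, not_or] at hout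
  obtain ⟨h0x, h0y, h0z⟩ : o 0 ≠ x ∧ o 0 ≠ y ∧ o 0 ≠ z := hout 0
  obtain ⟨h1x, h1y, h1z⟩ : o 1 ≠ x ∧ o 1 ≠ y ∧ o 1 ≠ z := hout 1
  have hoo : o 0 ≠ o 1 := ho.ne (by decide)
  refine hne ?_
  rw [c3_eq_ss_mul h0x.symm h1x.symm h0y.symm h1y.symm h0z.symm h1z.symm, hR.2 _ _ (sign_ss hxy hoo) (sign_ss hyz hoo),
    hss (a' := x) (b' := o 0) (c' := y) (d' := o 1) ⟨h0x.symm, hxy, h1x.symm, h0y, hoo, h1y.symm⟩,
    hss (a' := y) (b' := o 0) (c' := z) (d' := o 1) ⟨h0y.symm, hyz, h1y.symm, h0z, hoo, h1z.symm⟩, one_mul]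

theorem finrank_split [FiniteDimensional k V] (h2 : (2 : k) ≠ 0) (P Q : Module.End k V)
    (hcomm : ∀ v, P (Q v) = Q (P v)) (hQ : ∀ v, Q (Q v) = v) :
    finrank k (LinearMap.ker (P + 1)) = finrank k (LinearMap.ker (P + 1) ⊓ LinearMap.ker (Q + 1) : Submodule k V) +
      finrank k (LinearMap.ker (P + 1) ⊓ LinearMap.ker (Q - 1) : Submodule k V) := by
  set A := LinearMap.ker (P + 1) ⊓ LinearMap.ker (Q + 1) with hA
  set B := LinearMap.ker (P + 1) ⊓ LinearMap.ker (Q - 1) with hB
  have hinf : A ⊓ B = ⊥ := by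
    rw [Submodule.eq_bot_iff]
    intro v hv
    simp only [hA, hB, Submodule.mem_inf, LinearMap.mem_ker, LinearMap.add_apply, LinearMap.sub_apply,
      Module.End.one_apply] at hv
    have h0 : (2 : k) • v = 0 := by rw [two_smul]; linear_combination (norm := abel) hv.1.2 - hv.2.2
    exact (smul_eq_zero.1 h0).resolve_left h2
  have hsup : A ⊔ B = LinearMap.ker (P + 1) := by
    refine le_antisymm (sup_le inf_le_left inf_le_left) fun v hv => ?_
    rw [LinearMap.mem_ker, LinearMap.add_apply, Module.End.one_apply] at hv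
    have hPQ : P (Q v) + Q v = 0 := by rw [hcomm, ← map_add, hv, map_zero]
    refine Submodule.mem_sup.2 ⟨(2 : k)⁻¹ • (v - Q v), ?_, (2 : k)⁻¹ • (v + Q v), ?_, ?_⟩
    · simp only [hA, Submodule.mem_inf, LinearMap.mem_ker, LinearMap.add_apply, Module.End.one_apply, map_smul,
        map_sub, hQ, ← smul_add, smul_eq_zero]
      exact ⟨Or.inr (by linear_combination (norm := abel) hv - hPQ), Or.inr (by abel)⟩
    · simp only [hB, Submodule.mem_inf, LinearMap.mem_ker, LinearMap.add_apply, LinearMap.sub_apply,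
        Module.End.one_apply, map_smul, map_add, hQ, ← smul_add, ← smul_sub, smul_eq_zero]
      exact ⟨Or.inr (by linear_combination (norm := abel) hv + hPQ), Or.inr (by abel)⟩
    · rw [← smul_add, show v - Q v + (v + Q v) = (2 : k) • v by rw [two_smul]; abel, inv_smul_smul₀ h2]
  have := Submodule.finrank_sup_add_finrank_inf_eq A B
  rw [hsup, hinf, finrank_bot] at this
  omega

theorem inj_tuple3 {a b c : α} (h1 : a ≠ b) (h2 : a ≠ c) (h3 : b ≠ c) : Function.Injective ![a, b, c] := by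
  intro i j; fin_cases i <;> fin_cases j <;> simp [h1, h2, h3, h1.symm, h2.symm, h3.symm]

theorem inj_tuple2 {a b : α} (h1 : a ≠ b) : Function.Injective ![a, b] := by
  intro i j; fin_cases i <;> fin_cases j <;> simp [h1, h1.symm]

theorem inj_tuple4 {a b c d : α} (h : Dist4 a b c d) : Function.Injective ![a, b, c, d] := by
  obtain ⟨e1, e2, e3, e4, e5, e6⟩ := h
  intro i j; fin_cases i <;> fin_cases j <;>
    simp [e1, e2, e3, e4, e5, e6, e1.symm, e2.symm, e3.symm, e4.symm, e5.symm, e6.symm]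

/-- The case where the block spaces are lines with trivial complement action. -/
theorem odd_pipeline [FiniteDimensional k V] (p : ℕ) [CharP k p] (hR : IsRep R) (h2 : (2 : k) ≠ 0)
    (hcard : 9 ≤ Fintype.card α)
    (hB : ∀ a b c d, Dist4 a b c d → ∀ v ∈ Esp R a b c d, FixedOff R {a, b, c, d} v)
    (hd : ∀ a b c d : α, Dist4 a b c d → finrank k (Esp R a b c d) = 1) :
    Fintype.card α - 1 - (if p ∣ Fintype.card α then 1 else 0) ≤ finrank k V := by
  classical
  have hMdec : ∀ a b d e, Dist4 a b d e → Msp R a b d e = Esp R a d b e ⊔ Esp R a e b d ∧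
      finrank k (Msp R a b d e) = 2 := by
    intro a b d e h
    obtain ⟨e1, e2, e3, e4, e5, e6⟩ := h
    have h' : Dist4 a d b e := ⟨e2, e1, e3, e4.symm, e6, e5⟩
    have h'' : Dist4 a e b d := ⟨e3, e1, e2, e5.symm, e6.symm, e4⟩
    have hsplit := finrank_split h2 (R (swap a b * swap d e)) (R (swap a d * swap b e))
      (fun v => hR.comm_apply (sign_ss e1 e6) (sign_ss e2 e5) (klein_comm ⟨e1, e2, e3, e4, e5, e6⟩) v)
      (hR.ss_apply_sq e2 e5 e1 e3 e4.symm e6)
    have hA : LinearMap.ker (R (swap a b * swap d e) + 1) ⊓ LinearMap.ker (R (swap a d * swap b e) + 1) =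
        Esp R a e b d := by
      refine le_antisymm (fun v hv => ?_) fun v hv => ?_
      · simp only [Submodule.mem_inf, LinearMap.mem_ker, LinearMap.add_apply, Module.End.one_apply,
          add_eq_zero_iff_eq_neg] at hv
        rw [mem_Esp, swap_comm e d, ← klein_mul ⟨e1, e2, e3, e4, e5, e6⟩, hR.2 _ _ (sign_ss e1 e6) (sign_ss e2 e5),
          Module.End.mul_apply, hv.2, map_neg, hv.1, neg_neg]
        exact ⟨rfl, rfl⟩
      · simp only [Submodule.mem_inf, LinearMap.mem_ker, LinearMap.add_apply, Module.End.one_apply,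
          add_eq_zero_iff_eq_neg]
        have h1 := (mem_Esp.1 hv).2
        rw [swap_comm e d] at h1
        have h3 := Esp_third hR h'' hv
        rw [swap_comm e b] at h3
        exact ⟨h1, h3⟩
    have hB' : LinearMap.ker (R (swap a b * swap d e) + 1) ⊓ LinearMap.ker (R (swap a d * swap b e) - 1) =
        Esp R a d b e := by rw [inf_comm]; rfl
    rw [hA, hB', hd _ _ _ _ h', hd _ _ _ _ h''] at hsplit
    refine ⟨(Submodule.eq_of_le_of_finrank_le (sup_le (hB' ▸ inf_le_left) (hA ▸ inf_le_left)) ?_).symm, hsplit⟩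
    have hinf : Esp R a d b e ⊓ Esp R a e b d = ⊥ := by
      rw [Submodule.eq_bot_iff]
      rintro v ⟨hv1, hv2⟩
      have e1' := (mem_Esp.1 hv1).1
      have e2' := Esp_third hR h'' hv2
      rw [swap_comm e b, e1'] at e2'
      have h0 : (2 : k) • v = 0 := by rw [two_smul]; exact eq_neg_iff_add_eq_zero.1 e2'
      exact (smul_eq_zero.1 h0).resolve_left h2
    have := Submodule.finrank_sup_add_finrank_inf_eq (Esp R a d b e) (Esp R a e b d)
    rw [hinf, finrank_bot, hd _ _ _ _ h', hd _ _ _ _ h''] at this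
    show finrank k (Msp R a b d e) ≤ _
    rw [show finrank k (Msp R a b d e) = 2 from hsplit]
    omega
  have hMfix : ∀ a b d e, Dist4 a b d e → ∀ v ∈ Msp R a b d e, FixedOff R {a, b, d, e} v := by
    intro a b d e h v hv
    obtain ⟨e1, e2, e3, e4, e5, e6⟩ := h
    rw [(hMdec a b d e ⟨e1, e2, e3, e4, e5, e6⟩).1, Submodule.mem_sup] at hv
    obtain ⟨u, hu, u', hu', rfl⟩ := hv
    have f1 := hB _ _ _ _ ⟨e2, e1, e3, e4.symm, e6, e5⟩ u hu
    have f2 := hB _ _ _ _ ⟨e3, e1, e2, e5.symm, e6.symm, e4⟩ u' hu'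
    rw [show ({a, d, b, e} : Finset α) = {a, b, d, e} by ext; simp; tauto] at f1
    rw [show ({a, e, b, d} : Finset α) = {a, b, d, e} by ext; simp; tauto] at f2
    intro x y z hx hy hz h1 h2' h3
    rw [map_add, f1 x y z hx hy hz h1 h2' h3, f2 x y z hx hy hz h1 h2' h3]
  have hMmap : ∀ a b d e, Dist4 a b d e → ∀ g : Perm α, sign g = 1 → ∀ v ∈ Msp R a b d e,
      R g v ∈ Msp R (g a) (g b) (g d) (g e) := by
    intro a b d e h g hg v hv
    rw [mem_Msp] at hv ⊢
    rw [← ss_conj, hR.conj_apply hg (sign_ss h.1 h.2.2.2.2.2), hv, map_neg]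
  -- six base points
  obtain ⟨o, ho, -⟩ := exists_outside (∅ : Finset α) (j := 6) (by simp; omega)
  have hne : ∀ i j : Fin 6, i ≠ j → o i ≠ o j := fun i j h => ho.ne h
  set a := o 0
  set b := o 1
  set d := o 2
  set e := o 3
  set f := o 4
  set g := o 5
  have hM : Dist4 a b d e := ⟨hne _ _ (by decide), hne _ _ (by decide), hne _ _ (by decide), hne _ _ (by decide),
    hne _ _ (by decide), hne _ _ (by decide)⟩
  have hM' : Dist4 a b f g := ⟨hne _ _ (by decide), hne _ _ (by decide), hne _ _ (by decide), hne _ _ (by decide),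
    hne _ _ (by decide), hne _ _ (by decide)⟩
  have hM'' : Dist4 d e f g := ⟨hne _ _ (by decide), hne _ _ (by decide), hne _ _ (by decide), hne _ _ (by decide),
    hne _ _ (by decide), hne _ _ (by decide)⟩
  have hprod : swap a b * swap d e * (swap a b * swap f g) = swap d e * swap f g := by
    have hc : swap d e * swap a b = swap a b * swap d e := by
      rw [Equiv.mul_swap_eq_swap_mul, swap_apply_of_ne_of_ne hM.2.1 hM.2.2.1,
        swap_apply_of_ne_of_ne hM.2.2.2.1 hM.2.2.2.2.1]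
    rw [mul_assoc, ← mul_assoc (swap d e), hc, ← mul_assoc, ← mul_assoc, swap_mul_self, one_mul]
  have hcomm : ∀ v, R (swap a b * swap d e) (R (swap a b * swap f g) v) =
      R (swap a b * swap f g) (R (swap a b * swap d e) v) := by
    refine fun v => hR.comm_apply (sign_ss hM.1 hM.2.2.2.2.2) (sign_ss hM.1 hM'.2.2.2.2.2) ?_ v
    rw [Commute, SemiconjBy, ← mul_inv_eq_iff_eq_mul, ss_conj]
    rw [Perm.mul_apply, Perm.mul_apply, Perm.mul_apply, Perm.mul_apply,
      swap_apply_of_ne_of_ne hM.2.1 hM.2.2.1, swap_apply_left,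
      swap_apply_of_ne_of_ne hM.2.2.2.1 hM.2.2.2.2.1, swap_apply_right,
      swap_apply_of_ne_of_ne hM''.2.1.symm hM''.2.2.2.1.symm,
      swap_apply_of_ne_of_ne hM'.2.1.symm hM'.2.2.2.1.symm,
      swap_apply_of_ne_of_ne hM''.2.2.1.symm hM''.2.2.2.2.1.symm,
      swap_apply_of_ne_of_ne hM'.2.2.1.symm hM'.2.2.2.2.1.symm, swap_comm b a]
  have hP2 : ∀ v, R (swap a b * swap d e) (R (swap a b * swap d e) v) = v :=
    hR.ss_apply_sq hM.1 hM.2.2.2.2.2 hM.2.1 hM.2.2.1 hM.2.2.2.1 hM.2.2.2.2.1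
  have hQ2 : ∀ v, R (swap a b * swap f g) (R (swap a b * swap f g) v) = v :=
    hR.ss_apply_sq hM.1 hM'.2.2.2.2.2 hM'.2.1 hM'.2.2.1 hM'.2.2.2.1 hM'.2.2.2.2.1
  set P := R (swap a b * swap d e) with hPdef
  set Q := R (swap a b * swap f g) with hQdef
  have hPQ : R (swap d e * swap f g) = P * Q := by
    rw [← hprod, hR.2 _ _ (sign_ss hM.1 hM.2.2.2.2.2) (sign_ss hM.1 hM'.2.2.2.2.2)]
  have s1 := finrank_split h2 P Q hcomm hQ2
  have s2 := finrank_split h2 Q P (fun v => (hcomm v).symm) hP2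
  have s3 := finrank_split h2 (P * Q) Q (fun v => by
    show P (Q (Q v)) = Q (P (Q v))
    rw [hcomm (Q v)]) hQ2
  have i1 : LinearMap.ker (P * Q + 1) ⊓ LinearMap.ker (Q + 1) = LinearMap.ker (Q + 1) ⊓ LinearMap.ker (P - 1) := by
    ext v
    simp only [Submodule.mem_inf, LinearMap.mem_ker, LinearMap.add_apply, LinearMap.sub_apply, Module.End.one_apply,
      Module.End.mul_apply, add_eq_zero_iff_eq_neg, sub_eq_zero]
    constructor
    · rintro ⟨h1, h3⟩; rw [h3, map_neg, neg_inj] at h1; exact ⟨h3, h1⟩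
    · rintro ⟨h3, h1⟩; exact ⟨by rw [h3, map_neg, h1], h3⟩
  have i2 : LinearMap.ker (P * Q + 1) ⊓ LinearMap.ker (Q - 1) = LinearMap.ker (P + 1) ⊓ LinearMap.ker (Q - 1) := by
    ext v
    simp only [Submodule.mem_inf, LinearMap.mem_ker, LinearMap.add_apply, LinearMap.sub_apply, Module.End.one_apply,
      Module.End.mul_apply, add_eq_zero_iff_eq_neg, sub_eq_zero]
    constructor
    · rintro ⟨h1, h3⟩; rw [h3] at h1; exact ⟨h1, h3⟩
    · rintro ⟨h1, h3⟩; exact ⟨by rw [h3, h1], h3⟩
  rw [i1, i2] at s3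
  have t1 : finrank k (LinearMap.ker (P + 1)) = 2 := (hMdec a b d e hM).2
  have t2 : finrank k (LinearMap.ker (Q + 1)) = 2 := (hMdec a b f g hM').2
  have t3 : finrank k (LinearMap.ker (P * Q + 1)) = 2 := by rw [← hPQ]; exact (hMdec d e f g hM'').2
  have hi : finrank k (LinearMap.ker (P + 1) ⊓ LinearMap.ker (Q + 1) : Submodule k V) = 1 := by
    rw [inf_comm (LinearMap.ker (Q + 1)) (LinearMap.ker (P + 1))] at s2
    omega
  obtain ⟨w, hw, hw0⟩ : ∃ w ∈ LinearMap.ker (P + 1) ⊓ LinearMap.ker (Q + 1), w ≠ 0 := by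
    refine Submodule.exists_mem_ne_zero_of_ne_bot fun h => ?_
    rw [h, finrank_bot] at hi
    exact zero_ne_one hi
  have hwab : FixedOff R {a, b} w := by
    have h := (hMfix a b d e hM w hw.1).join hR (hMfix a b f g hM' w hw.2) (by
      refine le_trans (Nat.add_le_add_right ((Finset.card_le_card (show ({a, b, d, e} : Finset α) ∪ {a, b, f, g} ⊆
        {a, b, d, e, f, g} by intro x; simp; tauto)).trans Finset.card_le_six) 2) ?_
      omega)
    rw [show ({a, b, d, e} : Finset α) ∩ {a, b, f, g} = {a, b} by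
      ext x
      simp only [Finset.mem_inter, Finset.mem_insert, Finset.mem_singleton]
      obtain ⟨q1, q2, q3, q4, q5, q6⟩ := hM''
      constructor
      · rintro ⟨h | h | h | h, h' | h' | h' | h'⟩ <;> subst h <;> simp_all
      · rintro (h | h) <;> exact ⟨by tauto, by tauto⟩] at h
    exact h
  have hget : ∀ x y, x ≠ y → ∃ σ : Perm α, sign σ = 1 ∧ σ a = x ∧ σ b = y := fun x y hxy => by
    obtain ⟨σ, hσ, hm⟩ := exists_even_map ![a, b] ![x, y] (inj_tuple2 hM.1) (inj_tuple2 hxy) (by omega)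
    exact ⟨σ, hσ, hm 0, hm 1⟩
  let v : α → α → V := fun x y => if h : x ≠ y then R (hget x y h).choose w else 0
  have hv : ∀ σ : Perm α, sign σ = 1 → v (σ a) (σ b) = R σ w := by
    intro σ hσ
    have hne' : σ a ≠ σ b := σ.injective.ne hM.1
    simp only [v, dif_pos hne']
    obtain ⟨hτ, hτa, hτb⟩ := (hget _ _ hne').choose_spec
    set τ := (hget _ _ hne').choose
    have hσ' : sign (τ⁻¹ * σ) = 1 := by rw [map_mul, map_inv, hτ, hσ, inv_one, one_mul]
    have hfix : R (τ⁻¹ * σ) w = w := hwab.apply_eq hR hσ' fun x hx => by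
      simp only [Finset.mem_insert, Finset.mem_singleton] at hx
      rcases hx with rfl | rfl
      · rw [Perm.mul_apply, ← hτa, ← Perm.mul_apply, inv_mul_cancel, Perm.one_apply]
      · rw [Perm.mul_apply, ← hτb, ← Perm.mul_apply, inv_mul_cancel, Perm.one_apply]
    conv_lhs => rw [← hfix]
    rw [← Module.End.mul_apply, ← hR.2 _ _ hτ hσ', mul_inv_cancel_left]
  have heq : ∀ σ, sign σ = 1 → ∀ x y, x ≠ y → R σ (v x y) = v (σ x) (σ y) := by
    intro σ hσ x y hxy
    obtain ⟨τ, hτ, rfl, rfl⟩ := hget x y hxy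
    rw [hv τ hτ, ← Module.End.mul_apply, ← hR.2 _ _ hσ hτ, ← hv _ (by rw [map_mul, hσ, hτ, one_mul]),
      Perm.mul_apply, Perm.mul_apply]
  have hvM : ∀ x y s t, Dist4 x y s t → v x y ∈ Msp R x y s t := by
    intro x y s t h
    obtain ⟨τ, hτ, hm⟩ := exists_even_map ![a, b, d, e] ![x, y, s, t] (inj_tuple4 hM) (inj_tuple4 h) (by omega)
    have := hMmap a b d e hM τ hτ w hw.1
    rw [show τ a = x from hm 0, show τ b = y from hm 1, show τ d = s from hm 2, show τ e = t from hm 3] at this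
    rw [show x = τ a from (hm 0).symm, show y = τ b from (hm 1).symm, hv τ hτ]
    rwa [show τ a = x from hm 0, show τ b = y from hm 1]
  have hvfix : ∀ x y, x ≠ y → FixedOff R {x, y} (v x y) := by
    intro x y hxy
    obtain ⟨τ, hτ, rfl, rfl⟩ := hget x y hxy
    rw [hv τ hτ]
    have := hwab.image hR hτ
    rwa [Finset.image_insert, Finset.image_singleton] at this
  have hanti : ∀ x y, x ≠ y → v y x = -v x y := by
    intro x y hxy
    obtain ⟨q, hq, hqo₀⟩ := exists_outside ({x, y} : Finset α) (j := 2) (by rw [Finset.card_pair hxy]; omega)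
    have hqo : ∀ i, q i ≠ x ∧ q i ≠ y := fun i => by simpa using hqo₀ i
    have hq01 : q 0 ≠ q 1 := hq.ne (by decide)
    have hd4 : Dist4 x y (q 0) (q 1) :=
      ⟨hxy, (hqo 0).1.symm, (hqo 1).1.symm, (hqo 0).2.symm, (hqo 1).2.symm, hq01⟩
    rw [← mem_Msp.1 (hvM x y _ _ hd4), heq _ (sign_ss hxy hq01) x y hxy, Perm.mul_apply, Perm.mul_apply,
      swap_apply_of_ne_of_ne (hqo 0).1.symm (hqo 1).1.symm, swap_apply_left,
      swap_apply_of_ne_of_ne (hqo 0).2.symm (hqo 1).2.symm, swap_apply_right]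
  have hnz : ∀ x y, x ≠ y → v x y ≠ 0 := by
    intro x y hxy h0
    obtain ⟨τ, hτ, rfl, rfl⟩ := hget x y hxy
    rw [hv τ hτ] at h0
    exact hw0 (hR.injective hτ (h0.trans (map_zero _).symm))
  have hnofix : ∀ x y, x ≠ y → ¬ FixedOff R ∅ (v x y) := by
    intro x y hxy h
    obtain ⟨q, hq, hqo₀⟩ := exists_outside ({x, y} : Finset α) (j := 2) (by rw [Finset.card_pair hxy]; omega)
    have hqo : ∀ i, q i ≠ x ∧ q i ≠ y := fun i => by simpa using hqo₀ i
    have hq01 : q 0 ≠ q 1 := hq.ne (by decide)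
    have hd4 : Dist4 x y (q 0) (q 1) :=
      ⟨hxy, (hqo 0).1.symm, (hqo 1).1.symm, (hqo 0).2.symm, (hqo 1).2.symm, hq01⟩
    have e := mem_Msp.1 (hvM x y _ _ hd4)
    rw [fixed_all_of_c3 hR h (sign_ss hxy hq01)] at e
    have h0 : (2 : k) • v x y = 0 := by rw [two_smul]; exact eq_neg_iff_add_eq_zero.1 e
    exact hnz x y hxy ((smul_eq_zero.1 h0).resolve_left h2)
  refine endgame p hR (by omega) heq hanti ?_ ⟨a, b, hM.1, hnz a b hM.1⟩
  intro x y z hxy hxz hyz
  set u := v x y + v y z + v z x with hu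
  obtain ⟨q, hq, hqo₀⟩ := exists_outside ({x, y, z} : Finset α) (j := 4)
    (by have := Finset.card_le_three (a := x) (b := y) (c := z); omega)
  have hqo : ∀ i, q i ≠ x ∧ q i ≠ y ∧ q i ≠ z := fun i => by simpa using hqo₀ i
  have hqne : ∀ i j : Fin 4, i ≠ j → q i ≠ q j := fun i j h => hq.ne h
  have hufix : FixedOff R {x, y, z} u := by
    have f1 := (hvfix x y hxy).mono (T := {x, y, z}) (by intro i; simp; tauto)
    have f2 := (hvfix y z hyz).mono (T := {x, y, z}) (by intro i; simp; tauto)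
    have f3 := (hvfix z x hxz.symm).mono (T := {x, y, z}) (by intro i; simp; tauto)
    intro i j l hi hj hl h1 h2' h3
    rw [hu, map_add, map_add, f1 i j l hi hj hl h1 h2' h3, f2 i j l hi hj hl h1 h2' h3, f3 i j l hi hj hl h1 h2' h3]
  -- an element of the first span
  have hcase : ∀ x y z : α, x ≠ y → x ≠ z → y ≠ z → ∀ u, FixedOff R {x, y, z} u →
      R (swap x y * swap (q 0) (q 1)) u = -u → (∀ i, q i ≠ x ∧ q i ≠ y ∧ q i ≠ z) → ∃ c : k, u = c • v x y := by
    intro x y z hxy hxz hyz u hufix hneg hqo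
    have hd4 : Dist4 x y (q 0) (q 1) :=
      ⟨hxy, (hqo 0).1.symm, (hqo 1).1.symm, (hqo 0).2.1.symm, (hqo 1).2.1.symm, hqne _ _ (by decide)⟩
    have hd4' : Dist4 (q 0) (q 1) x y :=
      ⟨hqne _ _ (by decide), (hqo 0).1, (hqo 0).2.1, (hqo 1).1, (hqo 1).2.1, hxy⟩
    have hA : v x y ∈ Msp R x y (q 0) (q 1) := hvM _ _ _ _ hd4
    have hB' : v (q 0) (q 1) ∈ Msp R x y (q 0) (q 1) := by
      have := hvM _ _ _ _ hd4'
      rw [mem_Msp] at this ⊢
      rwa [show swap x y * swap (q 0) (q 1) = swap (q 0) (q 1) * swap x y by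
        rw [Equiv.mul_swap_eq_swap_mul (swap (q 0) (q 1)) x y, swap_apply_of_ne_of_ne (hqo 0).1.symm (hqo 1).1.symm,
          swap_apply_of_ne_of_ne (hqo 0).2.1.symm (hqo 1).2.1.symm]]
    have hind : LinearIndependent k ![v x y, v (q 0) (q 1)] := by
      rw [LinearIndependent.pair_iff' (hnz x y hxy)]
      intro c hc
      refine hnofix (q 0) (q 1) hd4'.1 ?_
      have f1 : FixedOff R {x, y} (v (q 0) (q 1)) := by
        intro i j l hi hj hl h1 h2' h3
        rw [← hc, map_smul, hvfix x y hxy i j l hi hj hl h1 h2' h3]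
      have := f1.join hR (hvfix _ _ hd4'.1) (by
        have := Finset.card_union_le ({x, y} : Finset α) {q 0, q 1}
        have h1 := Finset.card_le_two (a := x) (b := y)
        have h3 := Finset.card_le_two (a := q 0) (b := q 1)
        omega)
      rwa [show ({x, y} : Finset α) ∩ {q 0, q 1} = ∅ by
        ext i; simp only [Finset.mem_inter, Finset.mem_insert, Finset.mem_singleton, Finset.notMem_empty, iff_false]
        rintro ⟨h | h, h' | h'⟩ <;> subst h
        exacts [(hqo 0).1 h'.symm, (hqo 1).1 h'.symm, (hqo 0).2.1 h'.symm, (hqo 1).2.1 h'.symm]] at this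
    have hspan : Msp R x y (q 0) (q 1) = Submodule.span k (Set.range ![v x y, v (q 0) (q 1)]) := by
      refine (Submodule.eq_of_le_of_finrank_le (Submodule.span_le.2 ?_) ?_).symm
      · rintro _ ⟨i, rfl⟩; fin_cases i
        exacts [hA, hB']
      · rw [(hMdec _ _ _ _ hd4).2, finrank_span_eq_card hind, Fintype.card_fin]
    have humem : u ∈ Submodule.span k (Set.range ![v x y, v (q 0) (q 1)]) := hspan ▸ mem_Msp.2 hneg
    obtain ⟨c, hc⟩ := Submodule.mem_span_range_iff_exists_fun k |>.1 humem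
    rw [Fin.sum_univ_two] at hc
    refine ⟨c 0, ?_⟩
    by_cases hc1 : c 1 = 0
    · rw [← hc, hc1]; simp
    exfalso
    obtain ⟨τ, hτ, hm⟩ := exists_even_map ![x, y, z, q 0, q 1] ![x, y, z, q 2, q 3]
      (by intro i j; fin_cases i <;> fin_cases j <;>
        simp [hxy, hxz, hyz, hxy.symm, hxz.symm, hyz.symm, hqo, fun i => (hqo i).1.symm, fun i => (hqo i).2.1.symm,
          fun i => (hqo i).2.2.symm, hqne 0 1 (by decide), hqne 1 0 (by decide)])
      (by intro i j; fin_cases i <;> fin_cases j <;>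
        simp [hxy, hxz, hyz, hxy.symm, hxz.symm, hyz.symm, hqo, fun i => (hqo i).1.symm, fun i => (hqo i).2.1.symm,
          fun i => (hqo i).2.2.symm, hqne 2 3 (by decide), hqne 3 2 (by decide)])
      (by omega)
    have hτu : R τ u = u := hufix.apply_eq hR hτ fun i hi => by
      simp only [Finset.mem_insert, Finset.mem_singleton] at hi
      rcases hi with rfl | rfl | rfl
      exacts [hm 0, hm 1, hm 2]
    simp only [Matrix.cons_val_zero, Matrix.cons_val_one] at hc
    have := congrArg (R τ) hc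
    rw [hτu, map_add, map_smul, map_smul, heq τ hτ _ _ hxy, heq τ hτ _ _ hd4'.1, show τ x = x from hm 0,
      show τ y = y from hm 1, show τ (q 0) = q 2 from hm 3, show τ (q 1) = q 3 from hm 4, ← hc, add_right_inj] at this
    have e : v (q 2) (q 3) = v (q 0) (q 1) := smul_right_injective _ hc1 this
    refine hnofix (q 0) (q 1) hd4'.1 ?_
    have f2 : FixedOff R {q 2, q 3} (v (q 0) (q 1)) := e ▸ hvfix (q 2) (q 3) (hqne 2 3 (by decide))
    have := (hvfix _ _ hd4'.1).join hR f2 (by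
      have := Finset.card_union_le ({q 0, q 1} : Finset α) {q 2, q 3}
      have h1 := Finset.card_le_two (a := q 0) (b := q 1)
      have h3 := Finset.card_le_two (a := q 2) (b := q 3)
      omega)
    rwa [show ({q 0, q 1} : Finset α) ∩ {q 2, q 3} = ∅ by
      ext i; simp only [Finset.mem_inter, Finset.mem_insert, Finset.mem_singleton, Finset.notMem_empty, iff_false]
      rintro ⟨h | h, h' | h'⟩ <;> subst h <;> exact absurd (hq h') (by decide)] at this
  have hneg : ∀ x y z : α, x ≠ y → x ≠ z → y ≠ z → (∀ i, q i ≠ x ∧ q i ≠ y ∧ q i ≠ z) →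
      R (swap x y * swap (q 0) (q 1)) (v x y + v y z + v z x) = -(v x y + v y z + v z x) := by
    intro x y z hxy hxz hyz hqo
    have hs := sign_ss hxy (hqne 0 1 (by decide))
    rw [map_add, map_add, heq _ hs _ _ hxy, heq _ hs _ _ hyz, heq _ hs _ _ hxz.symm]
    have ex : (swap x y * swap (q 0) (q 1)) x = y := by
      rw [Perm.mul_apply, swap_apply_of_ne_of_ne (hqo 0).1.symm (hqo 1).1.symm, swap_apply_left]
    have ey : (swap x y * swap (q 0) (q 1)) y = x := by
      rw [Perm.mul_apply, swap_apply_of_ne_of_ne (hqo 0).2.1.symm (hqo 1).2.1.symm, swap_apply_right]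
    have ez : (swap x y * swap (q 0) (q 1)) z = z := by
      rw [Perm.mul_apply, swap_apply_of_ne_of_ne (hqo 0).2.2.symm (hqo 1).2.2.symm,
        swap_apply_of_ne_of_ne hxz.symm hyz.symm]
    rw [ex, ey, ez, hanti x y hxy, hanti z x hxz.symm, hanti y z hyz]
    abel
  have hqo' : ∀ i, q i ≠ y ∧ q i ≠ z ∧ q i ≠ x := fun i => ⟨(hqo i).2.1, (hqo i).2.2, (hqo i).1⟩
  obtain ⟨c₁, hc₁⟩ := hcase x y z hxy hxz hyz u hufix (hneg x y z hxy hxz hyz hqo) hqo
  obtain ⟨c₂, hc₂⟩ := hcase y z x hyz hxy.symm hxz.symm u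
    (by rwa [show ({y, z, x} : Finset α) = {x, y, z} by ext; simp; tauto])
    (by rw [show u = v y z + v z x + v x y by rw [hu]; abel]; exact hneg y z x hyz hxy.symm hxz.symm hqo') hqo'
  by_contra hu0
  have hu0' : u ≠ 0 := hu0
  have f1 : FixedOff R {x, y} u := by
    intro i j l hi hj hl h1 h2' h3
    rw [hc₁, map_smul, hvfix x y hxy i j l hi hj hl h1 h2' h3]
  have f2 : FixedOff R {y, z} u := by
    intro i j l hi hj hl h1 h2' h3
    rw [hc₂, map_smul, hvfix y z hyz i j l hi hj hl h1 h2' h3]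
  have hs := sign_ss hxy (hqne 0 1 (by decide))
  have f12 := f1.join hR f2 (by
    have := Finset.card_union_le ({x, y} : Finset α) {y, z}
    have h1 := Finset.card_le_two (a := x) (b := y)
    have h3 := Finset.card_le_two (a := y) (b := z)
    omega)
  rw [show ({x, y} : Finset α) ∩ {y, z} = {y} by
    ext i; simp only [Finset.mem_inter, Finset.mem_insert, Finset.mem_singleton]
    constructor
    · rintro ⟨h | h, h' | h'⟩ <;> first | assumption | exact absurd (h.symm.trans h') hxy | exact absurd (h.symm.trans h') hxz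
    · rintro rfl; exact ⟨Or.inr rfl, Or.inl rfl⟩] at f12
  have f3 := f12.image hR hs
  rw [Finset.image_singleton, Perm.mul_apply, swap_apply_of_ne_of_ne (hqo 0).2.1.symm (hqo 1).2.1.symm,
    swap_apply_right, hneg x y z hxy hxz hyz hqo] at f3
  have f4 : FixedOff R {x} u := by
    intro i j l hi hj hl h1 h2' h3
    have := f3 i j l hi hj hl h1 h2' h3
    rwa [map_neg, neg_inj] at this
  have f5 := f4.join hR f12 (by
    have := Finset.card_union_le ({x} : Finset α) {y}
    simp only [Finset.card_singleton] at this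
    omega)
  rw [show ({x} : Finset α) ∩ {y} = ∅ by simp [hxy.symm]] at f5
  refine hnofix x y hxy fun i j l hi hj hl h1 h2' h3 => ?_
  have := f5 i j l hi hj hl h1 h2' h3
  rw [hc₁, map_smul] at this
  exact smul_right_injective _ (fun h => hu0' (by rw [hc₁, h, zero_smul])) this

end Basic

end CfsgLib.KnownC.AltSec
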