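import Cfsg.Agent.Lib.KnownC.AltSec.LinOdd

/-!
The induction for the degree bound in characteristic not two.
-/

set_option autoImplicit false

namespace CfsgLib.KnownC.AltSec

open Equiv Equiv.Perm Module

universe u v w

theorem odd_main {k : Type w} [Field k] (p : ℕ) [CharP k p] (h2 : (2 : k) ≠ 0) :
    ∀ (r : ℕ) (α : Type u) [Fintype α] [DecidableEq α] (V : Type v) [AddCommGroup V] [Module k V]
      [FiniteDimensional k V] (R : Perm α → Module.End k V), Fintype.card α = r → IsRep R → Nontriv R → 8 ≤ r →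
        r - 2 ≤ finrank k V ∧ (9 ≤ r → r - 1 - (if p ∣ r then 1 else 0) ≤ finrank k V) := by
  intro r
  induction r using Nat.strong_induction_on with
  | _ r ih =>
  intro α _ _ V _ _ _ R hcard hR hnt hr
  by_cases hA : ∃ f : Fin 8 → α, Function.Injective f ∧ ∃ v ∈ Esp R (f 0) (f 1) (f 2) (f 3),
      R (swap (f 4) (f 5) * swap (f 6) (f 7)) v ≠ v
  · obtain ⟨f, hf, v, hv, hsv⟩ := hA
    have fne : ∀ i j, i ≠ j → f i ≠ f j := fun i j h => hf.ne h
    have hb : Dist4 (f 0) (f 1) (f 2) (f 3) := ⟨fne _ _ (by decide), fne _ _ (by decide), fne _ _ (by decide),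
      fne _ _ (by decide), fne _ _ (by decide), fne _ _ (by decide)⟩
    -- permutations of the last four preserve the first space
    have hkeep : ∀ σ : Perm α, sign σ = 1 → σ (f 0) = f 0 → σ (f 1) = f 1 → σ (f 2) = f 2 → σ (f 3) = f 3 →
        ∀ u ∈ Esp R (f 0) (f 1) (f 2) (f 3), R σ u ∈ Esp R (f 0) (f 1) (f 2) (f 3) := by
      intro σ hσ h0 h1 h2' h3 u hu
      have := Esp_map hR hb hσ hu
      rwa [h0, h1, h2', h3] at this
    have hfix : ∀ a b c d : Fin 8, a ∉ ({0, 1, 2, 3} : Finset (Fin 8)) → b ∉ ({0, 1, 2, 3} : Finset (Fin 8)) →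
        c ∉ ({0, 1, 2, 3} : Finset (Fin 8)) → d ∉ ({0, 1, 2, 3} : Finset (Fin 8)) →
        ∀ j ∈ ({0, 1, 2, 3} : Finset (Fin 8)), (swap (f a) (f b) * swap (f c) (f d)) (f j) = f j := by
      intro a b c d ha hb' hc hd j hj
      rw [Perm.mul_apply, swap_apply_of_ne_of_ne (fne _ _ (ne_of_mem_of_not_mem hj hc)) (fne _ _ (ne_of_mem_of_not_mem hj hd)),
        swap_apply_of_ne_of_ne (fne _ _ (ne_of_mem_of_not_mem hj ha)) (fne _ _ (ne_of_mem_of_not_mem hj hb'))]
    set s := swap (f 4) (f 5) * swap (f 6) (f 7) with hs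
    set s' := swap (f 4) (f 6) * swap (f 5) (f 7) with hs'
    have h47 : Dist4 (f 4) (f 5) (f 6) (f 7) := ⟨fne _ _ (by decide), fne _ _ (by decide), fne _ _ (by decide),
      fne _ _ (by decide), fne _ _ (by decide), fne _ _ (by decide)⟩
    have hss : sign s = 1 := sign_ss h47.1 h47.2.2.2.2.2
    have hss' : sign s' = 1 := sign_ss h47.2.1 h47.2.2.2.2.1
    have hskeep : ∀ u ∈ Esp R (f 0) (f 1) (f 2) (f 3), R s u ∈ Esp R (f 0) (f 1) (f 2) (f 3) :=
      hkeep s hss (hfix 4 5 6 7 (by decide) (by decide) (by decide) (by decide) 0 (by decide))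
        (hfix 4 5 6 7 (by decide) (by decide) (by decide) (by decide) 1 (by decide))
        (hfix 4 5 6 7 (by decide) (by decide) (by decide) (by decide) 2 (by decide))
        (hfix 4 5 6 7 (by decide) (by decide) (by decide) (by decide) 3 (by decide))
    have hs'keep : ∀ u ∈ Esp R (f 0) (f 1) (f 2) (f 3), R s' u ∈ Esp R (f 0) (f 1) (f 2) (f 3) :=
      hkeep s' hss' (hfix 4 6 5 7 (by decide) (by decide) (by decide) (by decide) 0 (by decide))
        (hfix 4 6 5 7 (by decide) (by decide) (by decide) (by decide) 1 (by decide))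
        (hfix 4 6 5 7 (by decide) (by decide) (by decide) (by decide) 2 (by decide))
        (hfix 4 6 5 7 (by decide) (by decide) (by decide) (by decide) 3 (by decide))
    set E := Esp R (f 0) (f 1) (f 2) (f 3) with hE
    obtain ⟨e₀, e₁, e₂, e₃, hed, hesub, w, hwE, hwe, hw0⟩ : ∃ e₀ e₁ e₂ e₃ : α, Dist4 e₀ e₁ e₂ e₃ ∧
        (∀ x ∈ ({e₀, e₁, e₂, e₃} : Finset α), ∃ j : Fin 8, 4 ≤ j.val ∧ f j = x) ∧
        ∃ w, w ∈ E ∧ w ∈ Esp R e₀ e₁ e₂ e₃ ∧ w ≠ 0 := by
      set x := v - R s v with hx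
      have hxE : x ∈ E := E.sub_mem hv (hskeep v hv)
      have hsx : R s x = -x := by
        rw [hx, map_sub, hR.ss_apply_sq h47.1 h47.2.2.2.2.2 h47.2.1 h47.2.2.1 h47.2.2.2.1 h47.2.2.2.2.1, neg_sub]
      have hx0 : x ≠ 0 := fun h => hsv (sub_eq_zero.1 h).symm
      have hs's : R s (R s' x) = -(R s' x) := by
        rw [hR.comm_apply hss hss' (klein_comm h47), hsx, map_neg]
      have hs'2 : R s' (R s' x) = x :=
        hR.ss_apply_sq h47.2.1 h47.2.2.2.2.1 h47.1 h47.2.2.1 h47.2.2.2.1.symm h47.2.2.2.2.2 x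
      by_cases hp : x + R s' x = 0
      · have hs'x : R s' x = -x := eq_neg_of_add_eq_zero_right hp
        refine ⟨f 4, f 7, f 5, f 6, ⟨fne _ _ (by decide), fne _ _ (by decide), fne _ _ (by decide),
          fne _ _ (by decide), fne _ _ (by decide), fne _ _ (by decide)⟩, ?_, x, hxE, ?_, hx0⟩
        · intro y hy
          simp only [Finset.mem_insert, Finset.mem_singleton] at hy
          rcases hy with rfl | rfl | rfl | rfl <;> exact ⟨_, by decide, rfl⟩
        · rw [mem_Esp, show swap (f 4) (f 5) * swap (f 7) (f 6) = s by rw [hs, swap_comm (f 7)],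
            ← klein_mul h47, ← hs, ← hs', hR.2 _ _ hss hss', Module.End.mul_apply, hs'x, map_neg, hsx, neg_neg]
          exact ⟨rfl, rfl⟩
      · refine ⟨f 4, f 6, f 5, f 7, ⟨fne _ _ (by decide), fne _ _ (by decide), fne _ _ (by decide),
          fne _ _ (by decide), fne _ _ (by decide), fne _ _ (by decide)⟩, ?_, x + R s' x,
          E.add_mem hxE (hs'keep x hxE), ?_, hp⟩
        · intro y hy
          simp only [Finset.mem_insert, Finset.mem_singleton] at hy
          rcases hy with rfl | rfl | rfl | rfl <;> exact ⟨_, by decide, rfl⟩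
        · rw [mem_Esp, ← hs, ← hs', map_add, map_add, hsx, hs's, hs'2, add_comm (R s' x), ← neg_add]
          exact ⟨rfl, rfl⟩
    have hne4 : ∀ x ∈ ({e₀, e₁, e₂, e₃} : Finset α), f 0 ≠ x ∧ f 1 ≠ x ∧ f 2 ≠ x ∧ f 3 ≠ x := fun x hx => by
      obtain ⟨j, hj, rfl⟩ := hesub x hx
      exact ⟨fne _ _ (Fin.ne_of_val_ne (by simp; omega)), fne _ _ (Fin.ne_of_val_ne (by simp; omega)),
        fne _ _ (Fin.ne_of_val_ne (by simp; omega)), fne _ _ (Fin.ne_of_val_ne (by simp; omega))⟩
    obtain ⟨q1, q2, q3, q4, q5, q6⟩ := hed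
    have ht := sign_c3 q4 q6
    set t := c3 e₁ e₂ e₃
    have htkeep : ∀ u ∈ E, R t u ∈ E := hkeep t ht
      (c3_other (hne4 e₁ (by simp)).1 (hne4 e₂ (by simp)).1 (hne4 e₃ (by simp)).1)
      (c3_other (hne4 e₁ (by simp)).2.1 (hne4 e₂ (by simp)).2.1 (hne4 e₃ (by simp)).2.1)
      (c3_other (hne4 e₁ (by simp)).2.2.1 (hne4 e₂ (by simp)).2.2.1 (hne4 e₃ (by simp)).2.2.1)
      (c3_other (hne4 e₁ (by simp)).2.2.2 (hne4 e₂ (by simp)).2.2.2 (hne4 e₃ (by simp)).2.2.2)
    have hw1 : R t w ∈ Esp R e₀ e₂ e₃ e₁ := by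
      have := Esp_map hR ⟨q1, q2, q3, q4, q5, q6⟩ ht hwe
      rwa [c3_other q1 q2 q3, c3_fst q4 q5, c3_snd q5 q6, c3_thd] at this
    have hw2 : R t (R t w) ∈ Esp R e₀ e₃ e₁ e₂ := by
      have := Esp_map hR ⟨q2, q3, q1, q6, q4.symm, q5.symm⟩ ht hw1
      rwa [c3_other q1 q2 q3, c3_fst q4 q5, c3_snd q5 q6, c3_thd] at this
    let A := E ⊓ Esp R e₀ e₁ e₂ e₃
    let B := E ⊓ Esp R e₀ e₂ e₃ e₁
    let C := E ⊓ Esp R e₀ e₃ e₁ e₂
    have hpos : ∀ (S : Submodule k V) (x : V), x ∈ S → x ≠ 0 → 1 ≤ finrank k S := fun S x hx hx0 => by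
      rw [Nat.one_le_iff_ne_zero, Ne, Submodule.finrank_eq_zero]
      rintro rfl
      exact hx0 ((Submodule.mem_bot k).1 hx)
    have pA : 1 ≤ finrank k A := hpos A w ⟨hwE, hwe⟩ hw0
    have pB : 1 ≤ finrank k B := hpos B _ ⟨htkeep _ hwE, hw1⟩ fun h => hw0 (hR.injective ht (h.trans (map_zero _).symm))
    have pC : 1 ≤ finrank k C := hpos C _ ⟨htkeep _ (htkeep _ hwE), hw2⟩ fun h =>
      hw0 (hR.injective ht ((hR.injective ht (h.trans (map_zero _).symm)).trans (map_zero _).symm))
    have hdis : ∀ a ∈ A, ∀ b ∈ B, ∀ c ∈ C, a + b + c = 0 → a = 0 ∧ b = 0 ∧ c = 0 := fun a ha b hb c hc h =>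
      Esp_disjoint hR h2 ⟨q1, q2, q3, q4, q5, q6⟩ a ha.2 b hb.2 c hc.2 h
    have h3 := finrank_three_le (W := E) (A := A) (B := B) (C := C) inf_le_left inf_le_left inf_le_left hdis
    have h9 := three_le_finrank hR h2 hb
    rw [← hE] at h9
    rcases Nat.lt_or_ge r 12 with hr12 | hr12
    · refine ⟨by omega, fun hr9 => ?_⟩
      by_contra hlt
      obtain rfl : r = 11 := by split_ifs at hlt <;> omega
      have hd : finrank k E = 3 ∧ finrank k V = 9 := by split_ifs at hlt <;> omega
      have hone : finrank k A = 1 := by omega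
      -- three further points
      obtain ⟨o, ho, hoout⟩ := exists_outside (Finset.univ.image f) (j := 3)
        (by rw [Finset.card_image_of_injective _ hf, Finset.card_univ, Fintype.card_fin, hcard])
      simp only [Finset.mem_image, Finset.mem_univ, true_and, not_exists] at hoout
      have hox : o 0 ≠ o 1 := ho.ne (by decide)
      have hoy : o 0 ≠ o 2 := ho.ne (by decide)
      have hoz : o 1 ≠ o 2 := ho.ne (by decide)
      set T := R (c3 (o 0) (o 1) (o 2)) with hT
      have hTs := sign_c3 hox hoz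
      have hTf : ∀ j, c3 (o 0) (o 1) (o 2) (f j) = f j := fun j => c3_other (hoout 0 j) (hoout 1 j) (hoout 2 j)
      have hTE : ∀ u ∈ E, T u ∈ E := hkeep _ hTs (hTf 0) (hTf 1) (hTf 2) (hTf 3)
      have hef : ∀ x ∈ ({e₀, e₁, e₂, e₃} : Finset α), c3 (o 0) (o 1) (o 2) x = x := by
        intro x hx
        obtain ⟨j, -, rfl⟩ := hesub x hx
        exact hTf j
      have hTA : T w ∈ A := ⟨hTE w hwE, by
        have := Esp_map hR ⟨q1, q2, q3, q4, q5, q6⟩ hTs hwe
        rwa [hef e₀ (by simp), hef e₁ (by simp), hef e₂ (by simp), hef e₃ (by simp)] at this⟩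
      have hspanA : ∀ x ∈ A, ∃ c : k, c • w = x := fun x hx => by
        obtain ⟨c, hc⟩ := (finrank_eq_one_iff_of_nonzero' (⟨w, ⟨hwE, hwe⟩⟩ : A) (fun h => hw0 (congrArg Subtype.val h))).1
          hone ⟨x, hx⟩
        exact ⟨c, congrArg Subtype.val hc⟩
      obtain ⟨a, ha⟩ := hspanA _ hTA
      have hTt : ∀ u, T (R t u) = R t (T u) := hR.comm_apply hTs ht (by
        rw [Commute, SemiconjBy, ← mul_inv_eq_iff_eq_mul, c3_conj, hef e₁ (by simp), hef e₂ (by simp), hef e₃ (by simp)])
      let K : Submodule k V := LinearMap.ker (T - a • (1 : Module.End k V))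
      have hK : ∀ x, x ∈ K ↔ T x = a • x := fun x => by
        rw [LinearMap.mem_ker, LinearMap.sub_apply, LinearMap.smul_apply, Module.End.one_apply, sub_eq_zero]
      have hKt : ∀ x ∈ K, R t x ∈ K := fun x hx => by rw [hK, hTt, (hK x).1 hx, map_smul]
      have hwK : w ∈ K := (hK w).2 ha.symm
      have hline : ∀ (S : Submodule k V) (y : V), y ∈ S → y ≠ 0 → y ∈ K → finrank k S = 1 → S ≤ K := by
        intro S y hy hy0 hyK h1 x hx
        obtain ⟨c, hc⟩ := (finrank_eq_one_iff_of_nonzero' (⟨y, hy⟩ : S) (fun h => hy0 (congrArg Subtype.val h))).1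
          h1 ⟨x, hx⟩
        rw [← show c • y = x from congrArg Subtype.val hc]
        exact K.smul_mem c hyK
      have hw1' : R t w ≠ 0 := fun h => hw0 (hR.injective ht (h.trans (map_zero _).symm))
      have hw2' : R t (R t w) ≠ 0 := fun h => hw1' (hR.injective ht (h.trans (map_zero _).symm))
      have hAK := hline A w ⟨hwE, hwe⟩ hw0 hwK hone
      have hBK := hline B _ ⟨htkeep _ hwE, hw1⟩ hw1' (hKt w hwK) (by omega)
      have hCK := hline C _ ⟨htkeep _ (htkeep _ hwE), hw2⟩ hw2' (hKt _ (hKt w hwK)) (by omega)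
      have hEK : E ≤ K := by
        have h3' := finrank_three_le (W := E ⊓ K) (A := A) (B := B) (C := C) (le_inf inf_le_left hAK)
          (le_inf inf_le_left hBK) (le_inf inf_le_left hCK) hdis
        have := Submodule.eq_of_le_of_finrank_le (inf_le_left : E ⊓ K ≤ E) (by omega)
        rw [← this]; exact inf_le_right
      obtain ⟨b1, b2, b3, b4, b5, b6⟩ := hb
      have ht' := sign_c3 b4 b6
      set t' := c3 (f 1) (f 2) (f 3)
      have hTt' : ∀ u, T (R t' u) = R t' (T u) := hR.comm_apply hTs ht' (by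
        rw [Commute, SemiconjBy, ← mul_inv_eq_iff_eq_mul, c3_conj, hTf 1, hTf 2, hTf 3])
      have hKt' : ∀ x ∈ K, R t' x ∈ K := fun x hx => by rw [hK, hTt', (hK x).1 hx, map_smul]
      have hd' : Dist4 (f 0) (f 2) (f 3) (f 1) := ⟨b2, b3, b1, b6, b4.symm, b5.symm⟩
      have hd'' : Dist4 (f 0) (f 3) (f 1) (f 2) := ⟨b3, b1, b2, b5.symm, b6.symm, b4⟩
      have hE1 : Esp R (f 0) (f 2) (f 3) (f 1) ≤ K := by
        intro x hx
        have hs1 : sign t'⁻¹ = 1 := by rw [map_inv, ht', inv_one]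
        have := Esp_map hR hd' hs1 hx
        rw [c3_inv b4 b5 b6, c3_other b2 b1 b3, c3_fst b4.symm b6, c3_thd, c3_snd b6 b5] at this
        rw [← hR.apply_inv ht' x]
        refine hKt' _ (hEK ?_)
        rwa [c3_inv b4 b5 b6]
      have hE2 : Esp R (f 0) (f 3) (f 1) (f 2) ≤ K := by
        intro x hx
        have hs1 : sign t'⁻¹ = 1 := by rw [map_inv, ht', inv_one]
        have := Esp_map hR hd'' hs1 hx
        rw [c3_inv b4 b5 b6, c3_other b2 b1 b3, c3_fst b4.symm b6, c3_thd, c3_snd b6 b5] at this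
        rw [← hR.apply_inv ht' x]
        refine hKt' _ (hE1 ?_)
        rwa [c3_inv b4 b5 b6]
      have hK9 := finrank_three_le (W := K) (A := E) (B := Esp R (f 0) (f 2) (f 3) (f 1))
        (C := Esp R (f 0) (f 3) (f 1) (f 2)) hEK hE1 hE2 (Esp_disjoint hR h2 ⟨b1, b2, b3, b4, b5, b6⟩)
      have e1 := finrank_Esp_map hR ⟨b1, b2, b3, b4, b5, b6⟩ ht'
      have e2 := finrank_Esp_map hR hd' ht'
      rw [c3_other b1 b2 b3, c3_fst b4 b5, c3_snd b5 b6, c3_thd, ← hE] at e1
      rw [c3_other b1 b2 b3, c3_fst b4 b5, c3_snd b5 b6, c3_thd] at e2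
      have htop : K = ⊤ := Submodule.eq_top_of_finrank_eq (by
        have := Submodule.finrank_le K
        omega)
      have hall : ∀ x y z : α, x ≠ y → x ≠ z → y ≠ z → ∀ u, R (c3 x y z) u = a • u := by
        intro x y z hxy hxz hyz u
        obtain ⟨g, hg, hm⟩ := exists_even_map ![o 0, o 1, o 2] ![x, y, z] (inj_tuple3 hox hoy hoz)
          (inj_tuple3 hxy hxz hyz) (by omega)
        rw [show x = g (o 0) from (hm 0).symm, show y = g (o 1) from (hm 1).symm, show z = g (o 2) from (hm 2).symm,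
          ← c3_conj]
        conv_lhs => rw [← hR.apply_inv hg u]
        rw [hR.conj_apply hg hTs, show T (R g⁻¹ u) = a • R g⁻¹ u from (hK _).1 (htop ▸ Submodule.mem_top), map_smul,
          hR.apply_inv hg]
      have ha2 : a * a = 1 := by
        have := hR.inv_apply (sign_c3 hox hoz) w
        rw [c3_inv hox hoy hoz, hall _ _ _ hox hoy hoz, map_smul, hall _ _ _ hox.symm hoz hoy, smul_smul] at this
        have h0 : (a * a - 1) • w = 0 := by rw [sub_smul, one_smul, this, sub_self]
        exact sub_eq_zero.1 ((smul_eq_zero.1 h0).resolve_right hw0)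
      have ha3 : a * a * a = 1 := by
        have := hR.c3_apply_cube hox hoy hoz w
        rw [hall _ _ _ hox hoy hoz, hall _ _ _ hox hoy hoz, hall _ _ _ hox hoy hoz, smul_smul, smul_smul] at this
        have h0 : (a * a * a - 1) • w = 0 := by rw [sub_smul, one_smul, this, sub_self]
        exact sub_eq_zero.1 ((smul_eq_zero.1 h0).resolve_right hw0)
      have ha1 : a = 1 := by rwa [ha2, one_mul] at ha3
      obtain ⟨x, y, z, hxy, hxz, hyz, hne⟩ := hnt.exists_c3 hR
      exact hne (LinearMap.ext fun u => by rw [hall x y z hxy hxz hyz, ha1, one_smul]; rfl)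
    · have hnt' : Nontriv (restr (offRep R {f 0, f 1, f 2, f 3}) E) := by
        have hsupp : ∀ x : α, s x ≠ x → x ∉ ({f 0, f 1, f 2, f 3} : Finset α) := by
          intro x hx hmem
          simp only [Finset.mem_insert, Finset.mem_singleton] at hmem
          rcases hmem with rfl | rfl | rfl | rfl
          exacts [hx (hfix 4 5 6 7 (by decide) (by decide) (by decide) (by decide) 0 (by decide)),
            hx (hfix 4 5 6 7 (by decide) (by decide) (by decide) (by decide) 1 (by decide)),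
            hx (hfix 4 5 6 7 (by decide) (by decide) (by decide) (by decide) 2 (by decide)),
            hx (hfix 4 5 6 7 (by decide) (by decide) (by decide) (by decide) 3 (by decide))]
        have hpres : ∀ x, s x ∉ ({f 0, f 1, f 2, f 3} : Finset α) ↔ x ∉ ({f 0, f 1, f 2, f 3} : Finset α) := by
          intro x
          by_cases hx : s x = x
          · rw [hx]
          · exact iff_of_true (hsupp _ fun h => hx (s.injective h)) (hsupp x hx)
        refine ⟨s.subtypePerm hpres, ?_, fun h => hsv ?_⟩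
        · rw [← sign_ofSubtype, ofSubtype_subtypePerm _ hsupp, hss]
        · have := congrArg Subtype.val (LinearMap.congr_fun h ⟨v, hv⟩)
          rw [restr_apply, offRep, ofSubtype_subtypePerm _ hsupp] at this
          · exact this
          · intro u hu
            rw [offRep, ofSubtype_subtypePerm _ hsupp]
            exact hskeep u hu
      have hinv : ∀ σ, sign σ = 1 → ∀ u ∈ E, offRep R {f 0, f 1, f 2, f 3} σ u ∈ E := fun σ hσ u hu =>
        hkeep _ (by rw [sign_ofSubtype]; exact hσ) (ofSubtype_fix _ σ (by simp)) (ofSubtype_fix _ σ (by simp))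
          (ofSubtype_fix _ σ (by simp)) (ofSubtype_fix _ σ (by simp)) u hu
      have hc4 : ({f 0, f 1, f 2, f 3} : Finset α).card = 4 := by
        rw [Finset.card_insert_of_notMem (by simp [hf.eq_iff]), Finset.card_insert_of_notMem (by simp [hf.eq_iff]),
          Finset.card_pair (fne _ _ (by decide))]
      have hih := (ih (r - 4) (by omega) (Off ({f 0, f 1, f 2, f 3} : Finset α)) E _
        (by rw [card_off, hc4, hcard]) ((hR.offRep _).restr hinv) hnt' (by omega)).1
      refine ⟨by omega, fun _ => ?_⟩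
      split_ifs <;> omega
  · push Not at hA
    have h8 : ∀ a b c d e g h' i : α, Dist4 a b c d → Dist4 e g h' i →
        (∀ x ∈ ({e, g, h', i} : Finset α), x ∉ ({a, b, c, d} : Finset α)) →
        ∀ v ∈ Esp R a b c d, R (swap e g * swap h' i) v = v := by
      intro a b c d e g h' i hd hd' hout v hv
      obtain ⟨a1, a2, a3, a4, a5, a6⟩ := hd
      obtain ⟨b1, b2, b3, b4, b5, b6⟩ := hd'
      have c1 := hout e (by simp)
      have c2 := hout g (by simp)
      have c3' := hout h' (by simp)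
      have c4 := hout i (by simp)
      simp only [Finset.mem_insert, Finset.mem_singleton, not_or] at c1 c2 c3' c4
      obtain ⟨c11, c12, c13, c14⟩ := c1
      obtain ⟨c21, c22, c23, c24⟩ := c2
      obtain ⟨c31, c32, c33, c34⟩ := c3'
      obtain ⟨c41, c42, c43, c44⟩ := c4
      exact hA ![a, b, c, d, e, g, h', i] (by
        intro x y; fin_cases x <;> fin_cases y <;>
          simp [a1, a2, a3, a4, a5, a6, b1, b2, b3, b4, b5, b6, c11, c12, c13, c14, c21, c22, c23, c24, c31, c32,
            c33, c34, c41, c42, c43, c44, Ne.symm a1, Ne.symm a2, Ne.symm a3, Ne.symm a4, Ne.symm a5, Ne.symm a6,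
            Ne.symm b1, Ne.symm b2, Ne.symm b3, Ne.symm b4, Ne.symm b5, Ne.symm b6, Ne.symm c11, Ne.symm c12,
            Ne.symm c13, Ne.symm c14, Ne.symm c21, Ne.symm c22, Ne.symm c23, Ne.symm c24, Ne.symm c31, Ne.symm c32,
            Ne.symm c33, Ne.symm c34, Ne.symm c41, Ne.symm c42, Ne.symm c43, Ne.symm c44]) v hv
    -- disjoint blocks
    set q := r / 4 with hq
    let e := Fintype.equivFin α
    let B : Fin q → Fin 4 → α := fun i j => e.symm ⟨4 * i.val + j.val, by omega⟩
    have hBne : ∀ i j i' j', (i ≠ i' ∨ j ≠ j') → B i j ≠ B i' j' := by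
      intro i j i' j' h heq
      have h4 : 4 * i.val + j.val = 4 * i'.val + j'.val := by
        have := congrArg Fin.val (e.symm.injective heq); simpa using this
      rcases h with h | h
      · exact h (Fin.ext (by omega))
      · exact h (Fin.ext (by omega))
    have hBd : ∀ i, Dist4 (B i 0) (B i 1) (B i 2) (B i 3) := fun i =>
      ⟨hBne _ _ _ _ (Or.inr (by decide)), hBne _ _ _ _ (Or.inr (by decide)), hBne _ _ _ _ (Or.inr (by decide)),
        hBne _ _ _ _ (Or.inr (by decide)), hBne _ _ _ _ (Or.inr (by decide)), hBne _ _ _ _ (Or.inr (by decide))⟩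
    obtain ⟨i0, -⟩ : ∃ i : Fin q, True := ⟨⟨0, by omega⟩, trivial⟩
    set d := finrank k (Esp R (B i0 0) (B i0 1) (B i0 2) (B i0 3)) with hd
    have hdim : ∀ a b c d' : α, Dist4 a b c d' → finrank k (Esp R a b c d') = d := by
      intro a b c d' hd4
      obtain ⟨g, hg, hm⟩ := exists_even_map ![B i0 0, B i0 1, B i0 2, B i0 3] ![a, b, c, d'] (inj_tuple4 (hBd i0))
        (inj_tuple4 hd4) (by omega)
      rw [hd, ← finrank_Esp_map hR (hBd i0) hg, show g (B i0 0) = a from hm 0, show g (B i0 1) = b from hm 1,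
        show g (B i0 2) = c from hm 2, show g (B i0 3) = d' from hm 3]
    have hd1 : 1 ≤ d := by
      rw [Nat.one_le_iff_ne_zero, hd, Ne, Submodule.finrank_eq_zero]
      exact Esp_ne_bot hR h2 (by omega) hnt (hBd i0)
    let U : Fin q → Submodule k V := fun i =>
      Esp R (B i 0) (B i 1) (B i 2) (B i 3) ⊔ Esp R (B i 0) (B i 2) (B i 3) (B i 1) ⊔
        Esp R (B i 0) (B i 3) (B i 1) (B i 2)
    let D : Fin q → Module.End k V := fun i =>
      R (swap (B i 0) (B i 1) * swap (B i 2) (B i 3)) + R (swap (B i 0) (B i 2) * swap (B i 3) (B i 1)) +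
        R (swap (B i 0) (B i 3) * swap (B i 1) (B i 2)) - 3 • (1 : Module.End k V)
    have hU3 : ∀ i, 3 * d ≤ finrank k (U i) := by
      intro i
      obtain ⟨a1, a2, a3, a4, a5, a6⟩ := hBd i
      have := finrank_three_le (W := U i) (A := Esp R (B i 0) (B i 1) (B i 2) (B i 3))
        (B := Esp R (B i 0) (B i 2) (B i 3) (B i 1)) (C := Esp R (B i 0) (B i 3) (B i 1) (B i 2))
        (le_sup_left.trans le_sup_left) (le_sup_right.trans le_sup_left) le_sup_right
        (Esp_disjoint hR h2 ⟨a1, a2, a3, a4, a5, a6⟩)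
      rw [hdim _ _ _ _ ⟨a1, a2, a3, a4, a5, a6⟩, hdim _ _ _ _ ⟨a2, a3, a1, a6, a4.symm, a5.symm⟩,
        hdim _ _ _ _ ⟨a3, a1, a2, a5.symm, a6.symm, a4⟩] at this
      omega
    have hkill : ∀ i j, i ≠ j → ∀ u ∈ U j, D i u = 0 := by
      intro i j hij u hu
      obtain ⟨a1, a2, a3, a4, a5, a6⟩ := hBd j
      obtain ⟨b1, b2, b3, b4, b5, b6⟩ := hBd i
      have hout : ∀ (a b c d' : α), ({a, b, c, d'} : Finset α) ⊆ {B j 0, B j 1, B j 2, B j 3} →
          ∀ x ∈ ({B i 0, B i 1, B i 2, B i 3} : Finset α), x ∉ ({a, b, c, d'} : Finset α) := by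
        intro a b c d' hsub x hx hx'
        have := hsub hx'
        simp only [Finset.mem_insert, Finset.mem_singleton] at hx this
        rcases hx with rfl | rfl | rfl | rfl <;> rcases this with h | h | h | h <;>
          exact hBne _ _ _ _ (Or.inl hij) h
      have key : ∀ (a b c d' : α), Dist4 a b c d' → ({a, b, c, d'} : Finset α) ⊆ {B j 0, B j 1, B j 2, B j 3} →
          ∀ x ∈ Esp R a b c d', D i x = 0 := by
        intro a b c d' hd4 hsub x hx
        simp only [D, LinearMap.sub_apply, LinearMap.add_apply, LinearMap.smul_apply, Module.End.one_apply]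
        rw [h8 a b c d' _ _ _ _ hd4 ⟨b1, b2, b3, b4, b5, b6⟩ (hout a b c d' hsub) x hx,
          h8 a b c d' _ _ _ _ hd4 ⟨b2, b3, b1, b6, b4.symm, b5.symm⟩
            (fun y hy => hout a b c d' hsub y (by simp at hy ⊢; tauto)) x hx,
          h8 a b c d' _ _ _ _ hd4 ⟨b3, b1, b2, b5.symm, b6.symm, b4⟩
            (fun y hy => hout a b c d' hsub y (by simp at hy ⊢; tauto)) x hx]
        rw [show (3 : ℕ) • x = x + x + x by rw [succ_nsmul, succ_nsmul, one_nsmul]]
        abel
      obtain ⟨y, hy, z, hz, rfl⟩ := Submodule.mem_sup.1 hu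
      obtain ⟨y1, hy1, y2, hy2, rfl⟩ := Submodule.mem_sup.1 hy
      rw [map_add, map_add, key _ _ _ _ ⟨a1, a2, a3, a4, a5, a6⟩ (by intro x; simp) y1 hy1,
        key _ _ _ _ ⟨a2, a3, a1, a6, a4.symm, a5.symm⟩ (by intro x; simp; tauto) y2 hy2,
        key _ _ _ _ ⟨a3, a1, a2, a5.symm, a6.symm, a4⟩ (by intro x; simp; tauto) z hz]
      simp
    have hinjU : ∀ i, ∀ u ∈ U i, D i u = 0 → u = 0 := by
      intro i u hu h0
      obtain ⟨a1, a2, a3, a4, a5, a6⟩ := hBd i
      have e1 : ∀ x ∈ U i, D i x = -((4 : ℕ) • x) := by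
        intro x hx
        obtain ⟨y, hy, z, hz, rfl⟩ := Submodule.mem_sup.1 hx
        obtain ⟨y1, hy1, y2, hy2, rfl⟩ := Submodule.mem_sup.1 hy
        have d1 : D i y1 = -((4 : ℕ) • y1) := by
          simp only [D, LinearMap.sub_apply, LinearMap.add_apply, LinearMap.smul_apply, Module.End.one_apply]
          rw [(mem_Esp.1 hy1).1, swap_comm (B i 3) (B i 1), (mem_Esp.1 hy1).2,
            Esp_third hR ⟨a1, a2, a3, a4, a5, a6⟩ hy1]
          rw [show (3 : ℕ) • y1 = y1 + y1 + y1 by rw [succ_nsmul, succ_nsmul, one_nsmul],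
            show (4 : ℕ) • y1 = y1 + y1 + y1 + y1 by rw [succ_nsmul, succ_nsmul, succ_nsmul, one_nsmul]]
          abel
        have d2 : D i y2 = -((4 : ℕ) • y2) := by
          simp only [D, LinearMap.sub_apply, LinearMap.add_apply, LinearMap.smul_apply, Module.End.one_apply]
          have h3 := Esp_third hR ⟨a2, a3, a1, a6, a4.symm, a5.symm⟩ hy2
          have h2' := (mem_Esp.1 hy2).2
          rw [swap_comm (B i 2) (B i 1)] at h2'
          rw [(mem_Esp.1 hy2).1, h2', swap_comm (B i 2) (B i 3)] at *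
          rw [h3]
          rw [show (3 : ℕ) • y2 = y2 + y2 + y2 by rw [succ_nsmul, succ_nsmul, one_nsmul],
            show (4 : ℕ) • y2 = y2 + y2 + y2 + y2 by rw [succ_nsmul, succ_nsmul, succ_nsmul, one_nsmul]]
          abel
        have d3 : D i z = -((4 : ℕ) • z) := by
          simp only [D, LinearMap.sub_apply, LinearMap.add_apply, LinearMap.smul_apply, Module.End.one_apply]
          have h3 := Esp_third hR ⟨a3, a1, a2, a5.symm, a6.symm, a4⟩ hz
          have h2' := (mem_Esp.1 hz).2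
          rw [swap_comm (B i 3) (B i 2)] at h2'
          rw [swap_comm (B i 3) (B i 1)] at h3
          rw [h2', swap_comm (B i 3) (B i 1), h3, (mem_Esp.1 hz).1]
          rw [show (3 : ℕ) • z = z + z + z by rw [succ_nsmul, succ_nsmul, one_nsmul],
            show (4 : ℕ) • z = z + z + z + z by rw [succ_nsmul, succ_nsmul, succ_nsmul, one_nsmul]]
          abel
        rw [map_add, map_add, d1, d2, d3, nsmul_add, nsmul_add]
        abel
      rw [e1 u hu, neg_eq_zero, ← Nat.cast_smul_eq_nsmul k, smul_eq_zero] at h0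
      refine h0.resolve_left ?_
      rw [show ((4 : ℕ) : k) = 2 * 2 by push_cast; norm_num]
      exact mul_ne_zero h2 h2
    have hsum := finrank_sum_le U D hU3 hkill hinjU
    rcases Nat.lt_or_ge r 9 with hr9 | hr9
    · obtain rfl : r = 8 := by omega
      refine ⟨?_, fun h => absurd h (by omega)⟩
      have h6 : q * 3 ≤ finrank k V := le_trans (Nat.mul_le_mul_left q (show 3 ≤ 3 * d by omega)) hsum
      omega
    by_cases hd2 : 2 ≤ d
    · have h6 : q * 6 ≤ finrank k V := le_trans (Nat.mul_le_mul_left q (show 6 ≤ 3 * d by omega)) hsum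
      exact ⟨by omega, fun _ => by split_ifs <;> omega⟩
    have hfixB : ∀ a b c d' : α, Dist4 a b c d' → ∀ v ∈ Esp R a b c d', FixedOff R {a, b, c, d'} v := by
      intro a b c d' hd4 v hv x y z hx hy hz hxy hxz hyz
      obtain ⟨o, ho, hout⟩ := exists_outside ({a, b, c, d', x, y, z} : Finset α) (j := 2) (by
        have := Finset.card_le_four (a := a) (b := b) (c := c) (d := d')
        have h2' := Finset.card_union_le ({a, b, c, d'} : Finset α) {x, y, z}
        have h3 := Finset.card_le_three (a := x) (b := y) (c := z)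
        rw [show ({a, b, c, d'} : Finset α) ∪ {x, y, z} = {a, b, c, d', x, y, z} by ext; simp; tauto] at h2'
        omega)
      have hout' : ∀ i, o i ∉ ({a, b, c, d'} : Finset α) ∧ o i ≠ x ∧ o i ≠ y ∧ o i ≠ z := fun i => by
        have := hout i
        simp only [Finset.mem_insert, Finset.mem_singleton, not_or] at this ⊢
        tauto
      have hoo : o 0 ≠ o 1 := ho.ne (by decide)
      obtain ⟨m0, n0x, n0y, n0z⟩ := hout' 0
      obtain ⟨m1, n1x, n1y, n1z⟩ := hout' 1
      rw [c3_eq_ss_mul n0x.symm n1x.symm n0y.symm n1y.symm n0z.symm n1z.symm, hR.2 _ _ (sign_ss hxy hoo) (sign_ss hyz hoo),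
        Module.End.mul_apply,
        h8 a b c d' y z (o 0) (o 1) hd4 ⟨hyz, n0y.symm, n1y.symm, n0z.symm, n1z.symm, hoo⟩ (by
          intro u hu
          simp only [Finset.mem_insert, Finset.mem_singleton] at hu
          rcases hu with rfl | rfl | rfl | rfl <;> assumption) v hv,
        h8 a b c d' x y (o 0) (o 1) hd4 ⟨hxy, n0x.symm, n1x.symm, n0y.symm, n1y.symm, hoo⟩ (by
          intro u hu
          simp only [Finset.mem_insert, Finset.mem_singleton] at hu
          rcases hu with rfl | rfl | rfl | rfl <;> assumption) v hv]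
    have hp := odd_pipeline p hR h2 (by omega) hfixB (fun a b c d' h => by rw [hdim a b c d' h]; omega)
    rw [hcard] at hp
    refine ⟨?_, fun _ => hp⟩
    split_ifs at hp <;> omega

end CfsgLib.KnownC.AltSec
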