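import Cfsg.Agent.Lib.KnownC.AltSec.Common
import Cfsg.Agent.Lib.KnownC.AltSec.Endgame

/-!
Eigenspaces of three cycles in characteristic two.
-/

set_option autoImplicit false
set_option linter.unusedSectionVars false

namespace CfsgLib.KnownC.AltSec

open Equiv Equiv.Perm Module

section Two

variable {α : Type*} [Fintype α] [DecidableEq α] {k : Type*} [Field k] {V : Type*} [AddCommGroup V] [Module k V]

/-- Three distinct points. -/
def Dist3 (a b c : α) : Prop := a ≠ b ∧ a ≠ c ∧ b ≠ c

theorem Dist3.map {a b c : α} (h : Dist3 a b c) (g : Perm α) : Dist3 (g a) (g b) (g c) :=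
  ⟨g.injective.ne h.1, g.injective.ne h.2.1, g.injective.ne h.2.2⟩

theorem Dist3.swap {a b c : α} (h : Dist3 a b c) : Dist3 b a c := ⟨h.1.symm, h.2.2, h.2.1⟩

theorem Dist3.inj {a b c : α} (h : Dist3 a b c) : Function.Injective ![a, b, c] := by
  obtain ⟨h1, h2, h3⟩ := h
  intro i j; fin_cases i <;> fin_cases j <;> simp [h1, h2, h3, h1.symm, h2.symm, h3.symm]

/-- The eigenspace of a three cycle. -/
noncomputable def Wsp (R : Perm α → Module.End k V) (a b c : α) (ω : k) : Submodule k V :=
  LinearMap.ker (R (c3 a b c) - ω • (1 : Module.End k V))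

/-- The part with no fixed vector. -/
noncomputable def Usp (R : Perm α → Module.End k V) (a b c : α) (ω : k) : Submodule k V :=
  Wsp R a b c ω ⊔ Wsp R a b c (ω + 1)

variable {R : Perm α → Module.End k V}

theorem mem_Wsp {a b c : α} {ω : k} {v : V} : v ∈ Wsp R a b c ω ↔ R (c3 a b c) v = ω • v := by
  rw [Wsp, LinearMap.mem_ker, LinearMap.sub_apply, LinearMap.smul_apply, Module.End.one_apply, sub_eq_zero]

theorem Wsp_map (hR : IsRep R) {a b c : α} (h : Dist3 a b c) {g : Perm α} (hg : sign g = 1) {ω : k} {v : V}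
    (hv : v ∈ Wsp R a b c ω) : R g v ∈ Wsp R (g a) (g b) (g c) ω := by
  rw [mem_Wsp, ← c3_conj, hR.conj_apply hg (sign_c3 h.1 h.2.2), mem_Wsp.1 hv, map_smul]

variable {w : k}

theorem omega_mul (h2 : (2 : k) = 0) (hw : w * w + w + 1 = 0) : w * (w + 1) = 1 := by
  linear_combination hw - h2

theorem omega_ne (h2 : (2 : k) = 0) (hw : w * w + w + 1 = 0) :
    w ≠ 0 ∧ w ≠ 1 ∧ w + 1 ≠ 0 ∧ w + 1 ≠ 1 ∧ w + 1 ≠ w := by
  refine ⟨?_, ?_, ?_, ?_, ?_⟩
  · intro h; subst h; simp at hw
  · intro h; subst h; exact one_ne_zero (α := k) (by linear_combination hw - h2)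
  · intro h; exact zero_ne_one (α := k) (by linear_combination (omega_mul h2 hw) - w * h)
  · intro h; have : w = 0 := by linear_combination h
    subst this; simp at hw
  · intro h; exact one_ne_zero (α := k) (by linear_combination h)

theorem omega_succ (h2 : (2 : k) = 0) (hw : w * w + w + 1 = 0) : (w + 1) * (w + 1) + (w + 1) + 1 = 0 := by
  linear_combination hw + (w + 1) * h2

theorem add_one_add_one (h2 : (2 : k) = 0) (x : k) : x + 1 + 1 = x := by linear_combination h2

theorem Wsp_inv (hR : IsRep R) (h2 : (2 : k) = 0) (hw : w * w + w + 1 = 0) {a b c : α} (h : Dist3 a b c) :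
    Wsp R b a c (w + 1) = Wsp R a b c w := by
  have key : ∀ {a b c : α}, Dist3 a b c → ∀ {u : k}, u * u + u + 1 = 0 → Wsp R a b c u ≤ Wsp R b a c (u + 1) := by
    intro a b c h u hu v hv
    rw [mem_Wsp] at hv ⊢
    have := hR.inv_apply (sign_c3 h.1 h.2.2) v
    rw [c3_inv h.1 h.2.1 h.2.2, hv, map_smul] at this
    conv_rhs => rw [← this]
    rw [smul_smul, mul_comm, omega_mul h2 hu, one_smul]
  refine le_antisymm ?_ (key h hw)
  have := key h.swap (omega_succ h2 hw)
  rwa [add_one_add_one h2] at this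

theorem finrank_Wsp_map [FiniteDimensional k V] (hR : IsRep R) {a b c : α} (h : Dist3 a b c) {g : Perm α}
    (hg : sign g = 1) (ω : k) : finrank k (Wsp R (g a) (g b) (g c) ω) = finrank k (Wsp R a b c ω) := by
  have hle : ∀ (a b c : α), Dist3 a b c → ∀ g : Perm α, sign g = 1 →
      finrank k (Wsp R a b c ω) ≤ finrank k (Wsp R (g a) (g b) (g c) ω) := by
    intro a b c h g hg
    refine LinearMap.finrank_le_finrank_of_injective (f := (R g).restrict fun v hv => Wsp_map hR h hg hv) ?_
    exact fun x y hxy => Subtype.ext (hR.injective hg (congrArg Subtype.val hxy))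
  refine le_antisymm ?_ (hle a b c h g hg)
  have := hle _ _ _ (h.map g) g⁻¹ (by rw [map_inv, hg, inv_one])
  have e : ∀ x, g⁻¹ (g x) = x := fun x => by rw [← Perm.mul_apply, inv_mul_cancel, Perm.one_apply]
  rwa [e, e, e] at this

theorem finrank_Wsp_eq [FiniteDimensional k V] (hR : IsRep R) (h2 : (2 : k) = 0) (hw : w * w + w + 1 = 0)
    (hcard : 5 ≤ Fintype.card α) {a b c x y z : α} (h : Dist3 a b c) (h' : Dist3 x y z) :
    finrank k (Wsp R x y z w) = finrank k (Wsp R a b c w) ∧
      finrank k (Wsp R x y z (w + 1)) = finrank k (Wsp R a b c w) := by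
  have key : ∀ {x y z : α}, Dist3 x y z → finrank k (Wsp R x y z w) = finrank k (Wsp R a b c w) := by
    intro x y z h'
    obtain ⟨g, hg, hm⟩ := exists_even_map ![a, b, c] ![x, y, z] h.inj h'.inj (by omega)
    have := finrank_Wsp_map hR h hg w
    rwa [show g a = x from hm 0, show g b = y from hm 1, show g c = z from hm 2] at this
  exact ⟨key h', by rw [Wsp_inv hR h2 hw h'.swap]; exact key h'.swap⟩

/-- The decomposition by a three cycle. -/
theorem decompose (hR : IsRep R) (h2 : (2 : k) = 0) (hw : w * w + w + 1 = 0) {a b c : α} (h : Dist3 a b c) (v : V) :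
    ∃ x y z, R (c3 a b c) x = x ∧ y ∈ Wsp R a b c w ∧ z ∈ Wsp R a b c (w + 1) ∧ v = x + y + z := by
  set T := R (c3 a b c) with hT
  have h3 : T (T (T v)) = v := hR.c3_apply_cube h.1 h.2.1 h.2.2 v
  refine ⟨v + T v + T (T v), v + (w + 1) • T v + w • T (T v), v + w • T v + (w + 1) • T (T v), ?_, ?_, ?_, ?_⟩
  · rw [map_add, map_add, h3]; abel
  · rw [mem_Wsp, ← hT, map_add, map_add, map_smul, map_smul, h3, smul_add, smul_add, smul_smul, smul_smul,
      omega_mul h2 hw, one_smul, show w * w = w + 1 by linear_combination hw - (w + 1) * h2]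
    abel
  · rw [mem_Wsp, ← hT, map_add, map_add, map_smul, map_smul, h3, smul_add, smul_add, smul_smul, smul_smul,
      show (w + 1) * w = 1 by rw [mul_comm]; exact omega_mul h2 hw, one_smul,
      show (w + 1) * (w + 1) = w by linear_combination hw + (0 : k) * h2]
    abel
  · have hz : ∀ u : V, u + u = 0 := fun u => by rw [← two_smul k u, h2, zero_smul]
    match_scalars
    all_goals first | linear_combination -(1 : k) * h2 | linear_combination -(1 + w) * h2

theorem Wsp_disjoint (h2 : (2 : k) = 0) (hw : w * w + w + 1 = 0) {a b c : α} :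
    ∀ x : V, R (c3 a b c) x = x → ∀ y ∈ Wsp R a b c w, ∀ z ∈ Wsp R a b c (w + 1), x + y + z = 0 →
      x = 0 ∧ y = 0 ∧ z = 0 := by
  intro x hx y hy z hz h
  obtain ⟨-, hw1, -, hw3, hw4⟩ := omega_ne h2 hw
  rw [mem_Wsp] at hy hz
  have h' := congrArg (R (c3 a b c)) h
  rw [map_add, map_add, hx, hy, hz, map_zero] at h'
  have h'' := congrArg (R (c3 a b c)) h'
  rw [map_add, map_add, map_smul, map_smul, hx, hy, hz, map_zero, smul_smul, smul_smul] at h''
  have ez : ((w + 1 - 1) * (w + 1 - w)) • z = 0 := by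
    have e : (1 : k) • (x + (w * w) • y + ((w + 1) * (w + 1)) • z) - (1 + w) • (x + w • y + (w + 1) • z) +
        w • (x + y + z) = 0 := by rw [h, h', h'', smul_zero, smul_zero, smul_zero, sub_zero, add_zero]
    linear_combination (norm := module) e
  have ey : ((w - 1) * (w - (w + 1))) • y = 0 := by
    have e : (1 : k) • (x + (w * w) • y + ((w + 1) * (w + 1)) • z) - (1 + (w + 1)) • (x + w • y + (w + 1) • z) +
        (w + 1) • (x + y + z) = 0 := by rw [h, h', h'', smul_zero, smul_zero, smul_zero, sub_zero, add_zero]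
    linear_combination (norm := module) e
  have z0 := (smul_eq_zero.1 ez).resolve_left
    (mul_ne_zero (sub_ne_zero.2 hw3) (sub_ne_zero.2 hw4))
  have y0 := (smul_eq_zero.1 ey).resolve_left
    (mul_ne_zero (sub_ne_zero.2 hw1) (sub_ne_zero.2 hw4.symm))
  subst z0 y0
  exact ⟨by simpa using h, rfl, rfl⟩

theorem Wsp_ne_bot (hR : IsRep R) (h2 : (2 : k) = 0) (hw : w * w + w + 1 = 0) (hcard : 5 ≤ Fintype.card α)
    (hnt : Nontriv R) {a b c : α} (h : Dist3 a b c) : Wsp R a b c w ≠ ⊥ := by
  intro hbot
  obtain ⟨x, y, z, hxy, hxz, hyz, hne⟩ := hnt.exists_c3 hR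
  have h' : Dist3 x y z := ⟨hxy, hxz, hyz⟩
  refine hne (LinearMap.ext fun v => ?_)
  obtain ⟨u, s, s', hu, hs, hs', rfl⟩ := decompose hR h2 hw h' v
  have hz : ∀ {p q r : α}, Dist3 p q r → ∀ v ∈ Wsp R p q r w, v = 0 := by
    intro p q r hd v hv
    obtain ⟨g, hg, hm⟩ := exists_even_map ![p, q, r] ![a, b, c] hd.inj h.inj (by omega)
    have := Wsp_map hR hd hg hv
    rw [show g p = a from hm 0, show g q = b from hm 1, show g r = c from hm 2, hbot, Submodule.mem_bot] at this
    exact hR.injective hg (this.trans (map_zero _).symm)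
  have s0 := hz h' s hs
  rw [Wsp_inv hR h2 hw h'.swap] at hs'
  have s0' := hz h'.swap s' hs'
  subst s0 s0'
  simp [hu]

theorem two_mul_le [FiniteDimensional k V] (hR : IsRep R) (h2 : (2 : k) = 0) (hw : w * w + w + 1 = 0)
    (hcard : 5 ≤ Fintype.card α) {a b c : α} (h : Dist3 a b c) :
    finrank k (LinearMap.ker (R (c3 a b c) - 1) : Submodule k V) + 2 * finrank k (Wsp R a b c w) ≤ finrank k V := by
  have := finrank_three_le (W := ⊤) (A := LinearMap.ker (R (c3 a b c) - 1)) (B := Wsp R a b c w)
    (C := Wsp R a b c (w + 1)) le_top le_top le_top (fun x hx => Wsp_disjoint h2 hw x (by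
      rwa [LinearMap.mem_ker, LinearMap.sub_apply, Module.End.one_apply, sub_eq_zero] at hx))
  rw [finrank_top, (finrank_Wsp_eq hR h2 hw hcard h h).2] at this
  omega

/-- The case where the eigenspaces are lines with trivial complement action. -/
theorem two_pipeline [FiniteDimensional k V] (p : ℕ) [CharP k p] (hR : IsRep R) (h2 : (2 : k) = 0)
    (hw : w * w + w + 1 = 0) (hcard : 9 ≤ Fintype.card α)
    (hB : ∀ a b c, Dist3 a b c → ∀ v ∈ Wsp R a b c w, FixedOff R {a, b, c} v)
    (hd : ∀ a b c : α, Dist3 a b c → finrank k (Wsp R a b c w) = 1) :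
    Fintype.card α - 1 - (if p ∣ Fintype.card α then 1 else 0) ≤ finrank k V := by
  classical
  obtain ⟨-, -, -, -, hw4⟩ := omega_ne h2 hw
  have hadd : ∀ u : V, u + u = 0 := fun u => by rw [← two_smul k u, h2, zero_smul]
  have hUmap : ∀ a b c, Dist3 a b c → ∀ g : Perm α, sign g = 1 → ∀ v ∈ Usp R a b c w,
      R g v ∈ Usp R (g a) (g b) (g c) w := by
    intro a b c h g hg v hv
    obtain ⟨y, hy, z, hz, rfl⟩ := Submodule.mem_sup.1 hv
    rw [map_add]
    exact Submodule.add_mem_sup (Wsp_map hR h hg hy) (Wsp_map hR h hg hz)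
  have hUfix : ∀ a b c, Dist3 a b c → ∀ v ∈ Usp R a b c w, FixedOff R {a, b, c} v := by
    intro a b c h v hv
    obtain ⟨y, hy, z, hz, rfl⟩ := Submodule.mem_sup.1 hv
    rw [Wsp_inv hR h2 hw h.swap] at hz
    have f1 := hB a b c h y hy
    have f2 := hB b a c h.swap z hz
    rw [show ({b, a, c} : Finset α) = {a, b, c} by ext; simp; tauto] at f2
    intro x y' z' hx hy' hz' h1 h2' h3
    rw [map_add, f1 x y' z' hx hy' hz' h1 h2' h3, f2 x y' z' hx hy' hz' h1 h2' h3]
  have hUfree : ∀ a b c, Dist3 a b c → ∀ v ∈ Usp R a b c w, R (c3 a b c) v = v → v = 0 := by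
    intro a b c h v hv hfix
    obtain ⟨y, hy, z, hz, rfl⟩ := Submodule.mem_sup.1 hv
    have := Wsp_disjoint h2 hw (-(y + z)) (by rw [map_neg, hfix]) y hy z hz (by abel)
    simp [this.2.1, this.2.2]
  -- six base points
  obtain ⟨o, ho, -⟩ := exists_outside (∅ : Finset α) (j := 6) (by simp; omega)
  have hne : ∀ i j : Fin 6, i ≠ j → o i ≠ o j := fun i j h => ho.ne h
  set a := o 0
  set b := o 1
  set c := o 2
  set d := o 3
  set e := o 4
  set f := o 5
  have hab : a ≠ b := hne _ _ (by decide)
  have hac : a ≠ c := hne _ _ (by decide)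
  have had : a ≠ d := hne _ _ (by decide)
  have hae : a ≠ e := hne _ _ (by decide)
  have haf : a ≠ f := hne _ _ (by decide)
  have hbc : b ≠ c := hne _ _ (by decide)
  have hbd : b ≠ d := hne _ _ (by decide)
  have hbe : b ≠ e := hne _ _ (by decide)
  have hbf : b ≠ f := hne _ _ (by decide)
  have hcd : c ≠ d := hne _ _ (by decide)
  have hce : c ≠ e := hne _ _ (by decide)
  have hcf : c ≠ f := hne _ _ (by decide)
  have hde : d ≠ e := hne _ _ (by decide)
  have hdf : d ≠ f := hne _ _ (by decide)
  have hef : e ≠ f := hne _ _ (by decide)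
  have habc : Dist3 a b c := ⟨hab, hac, hbc⟩
  have habd : Dist3 a b d := ⟨hab, had, hbd⟩
  set σ := swap a b * swap e f with hσdef
  have hσs : sign σ = 1 := sign_ss hab hef
  have σa : σ a = b := by rw [Perm.mul_apply, swap_apply_of_ne_of_ne hae haf, swap_apply_left]
  have σb : σ b = a := by rw [Perm.mul_apply, swap_apply_of_ne_of_ne hbe hbf, swap_apply_right]
  have σc : σ c = c := by
    rw [Perm.mul_apply, swap_apply_of_ne_of_ne hce hcf, swap_apply_of_ne_of_ne hac.symm hbc.symm]
  have σd : σ d = d := by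
    rw [Perm.mul_apply, swap_apply_of_ne_of_ne hde hdf, swap_apply_of_ne_of_ne had.symm hbd.symm]
  have σe : σ e = f := by
    rw [Perm.mul_apply, swap_apply_left, swap_apply_of_ne_of_ne haf.symm hbf.symm]
  have hσ2 : ∀ v, R σ (R σ v) = v := hR.ss_apply_sq hab hef hae haf hbe hbf
  obtain ⟨y₀, hy₀, hy₀0⟩ : ∃ y ∈ Wsp R a b c w, y ≠ 0 := by
    refine Submodule.exists_mem_ne_zero_of_ne_bot fun h => ?_
    have := hd a b c habc
    rw [h, finrank_bot] at this
    exact zero_ne_one this
  have hσy : R σ y₀ ∈ Wsp R a b c (w + 1) := by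
    have := Wsp_map hR habc hσs hy₀
    rwa [σa, σb, σc, ← Wsp_inv hR h2 hw habc.swap] at this
  set u := y₀ + R σ y₀ with hu
  have huU : u ∈ Usp R a b c w := Submodule.add_mem_sup hy₀ hσy
  have hu0 : u ≠ 0 := fun h => hy₀0 (Wsp_disjoint h2 hw 0 (map_zero _) y₀ hy₀ _ hσy (by rw [zero_add]; exact h)).2.1
  have hσu : R σ u = u := by rw [hu, map_add, hσ2, add_comm]
  have hline : ∀ x ∈ Usp R a b c w, R σ x = x → ∃ l : k, x = l • u := by
    intro x hx hσx
    obtain ⟨y, hy, z, hz, rfl⟩ := Submodule.mem_sup.1 hx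
    obtain ⟨l, hl⟩ := (finrank_eq_one_iff_of_nonzero' (⟨y₀, hy₀⟩ : Wsp R a b c w)
      (fun h => hy₀0 (congrArg Subtype.val h))).1 (hd a b c habc) ⟨y, hy⟩
    have hl' : l • y₀ = y := congrArg Subtype.val hl
    have hσy' : R σ y ∈ Wsp R a b c (w + 1) := by
      rw [← hl', map_smul]; exact Submodule.smul_mem _ l hσy
    have hσz : R σ z ∈ Wsp R a b c w := by
      have := Wsp_map hR habc hσs hz
      rwa [σa, σb, σc, Wsp_inv hR h2 hw habc] at this
    have hsum : (0 : V) + (y - R σ z) + (z - R σ y) = 0 := by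
      rw [map_add] at hσx
      linear_combination (norm := abel) -hσx
    have := (Wsp_disjoint h2 hw 0 (map_zero _) _ (Submodule.sub_mem _ hy hσz) _ (Submodule.sub_mem _ hz hσy') hsum).2.2
    refine ⟨l, ?_⟩
    rw [sub_eq_zero] at this
    rw [hu, smul_add, hl', ← map_smul, hl', this]
  -- the invariant line is fixed off two points
  have huab : FixedOff R {a, b} u := by
    by_cases hint : Usp R a b c w ⊓ Usp R a b d w = ⊥
    · -- the rank of the product is at most two
      set T := R (c3 a b c)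
      set T' := R (c3 a b d)
      set z := c3 a b c * c3 a b d with hz
      have hzs : sign z = 1 := by rw [map_mul, sign_c3 hab hbc, sign_c3 hab hbd, one_mul]
      have hzeq : z = swap a c * swap b d := by
        refine Equiv.ext fun i => ?_
        simp only [hz, c3, Perm.mul_apply, swap_apply_def]
        split_ifs <;> simp_all
      set W := Usp R a b c w ⊔ Usp R a b d w with hW
      have hTU : ∀ {x y z : α}, Dist3 x y z → ∀ v : V, R (c3 x y z) v + v ∈ Usp R x y z w := by
        intro x y z h v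
        obtain ⟨p, q, r, hp, hq, hr, rfl⟩ := decompose hR h2 hw h v
        rw [map_add, map_add, hp, mem_Wsp.1 hq, mem_Wsp.1 hr,
          show p + w • q + (w + 1) • r + (p + q + r) = (p + p) + ((w + 1) • q + ((w + 1 + 1)) • r) by module,
          hadd p, zero_add]
        exact Submodule.add_mem_sup (Submodule.smul_mem _ _ hq) (Submodule.smul_mem _ _ hr)
      have hzW : ∀ v : V, R z v + v ∈ W := by
        intro v
        rw [hz, hR.2 _ _ (sign_c3 hab hbc) (sign_c3 hab hbd), Module.End.mul_apply]
        have h1 := hTU habc (T' v)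
        have h3 := hTU habd v
        have : R (c3 a b c) (T' v) + v = (R (c3 a b c) (T' v) + T' v) + (T' v + v) := by
          rw [add_assoc, ← add_assoc (T' v), hadd, zero_add]
        rw [this]
        exact Submodule.add_mem_sup h1 h3
      have hz2 : ∀ v, R z (R z v) = v := by
        rw [hzeq]; exact hR.ss_apply_sq hac hbd hab had hbc.symm hcd
      let Z : Submodule k V := W ⊓ LinearMap.ker (R z + 1)
      have hZU : Z ⊓ Usp R a b c w = ⊥ := by
        rw [Submodule.eq_bot_iff]
        rintro v ⟨⟨-, hv⟩, hvU⟩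
        rw [SetLike.mem_coe, LinearMap.mem_ker, LinearMap.add_apply, Module.End.one_apply, add_eq_zero_iff_eq_neg,
          neg_eq_of_add_eq_zero_left (hadd v), hz, hR.2 _ _ (sign_c3 hab hbc) (sign_c3 hab hbd),
          Module.End.mul_apply] at hv
        have e : T' v = R (c3 a b c)⁻¹ v := by rw [← hR.inv_apply (sign_c3 hab hbc) (T' v), hv]
        have h1 : T' v + v ∈ Usp R a b c w := by
          rw [e, c3_inv hab hac hbc]
          obtain ⟨p, hp, q, hq, rfl⟩ := Submodule.mem_sup.1 hvU
          refine Submodule.add_mem _ ?_ (Submodule.add_mem_sup hp hq)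
          have hp' := hp
          have hq' := hq
          rw [← Wsp_inv hR h2 hw habc, mem_Wsp] at hp'
          rw [Wsp_inv hR h2 hw habc.swap, mem_Wsp] at hq'
          rw [map_add, hp', hq']
          exact Submodule.add_mem_sup (Submodule.smul_mem _ _ hp) (Submodule.smul_mem _ _ hq)
        have h0 : T' v + v = 0 := (Submodule.eq_bot_iff _).1 hint _ ⟨h1, hTU habd v⟩
        have hTv : T' v = v := by rw [eq_neg_of_add_eq_zero_left h0, neg_eq_of_add_eq_zero_left (hadd v)]
        refine hUfree a b c habc v hvU ?_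
        rw [hTv] at e
        conv_lhs => rw [e]
        exact hR.apply_inv (sign_c3 hab hbc) v
      have hU2 : ∀ x y z, Dist3 x y z → finrank k (Usp R x y z w) = 2 := by
        intro x y z h
        have hinf : Wsp R x y z w ⊓ Wsp R x y z (w + 1) = ⊥ := by
          rw [Submodule.eq_bot_iff]
          rintro v ⟨h1, h3⟩
          exact (Wsp_disjoint h2 hw 0 (map_zero _) v h1 v h3 (by rw [zero_add]; exact hadd v)).2.1
        have := Submodule.finrank_sup_add_finrank_inf_eq (Wsp R x y z w) (Wsp R x y z (w + 1))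
        rw [hinf, finrank_bot, hd x y z h, Wsp_inv hR h2 hw h.swap, hd y x z h.swap] at this
        show finrank k (Usp R x y z w) = 2
        rw [Usp, Wsp_inv hR h2 hw h.swap]
        omega
      have hW4 : finrank k W ≤ 4 := by
        have := Submodule.finrank_sup_add_finrank_inf_eq (Usp R a b c w) (Usp R a b d w)
        rw [hU2 a b c habc, hU2 a b d habd, ← hW] at this
        omega
      have hZ2 : finrank k Z ≤ 2 := by
        have := Submodule.finrank_sup_add_finrank_inf_eq Z (Usp R a b c w)
        rw [hZU, finrank_bot, hU2 a b c habc] at this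
        have := Submodule.finrank_mono (sup_le inf_le_left le_sup_left : Z ⊔ Usp R a b c w ≤ W)
        omega
      -- transport to the commuting involution
      obtain ⟨g, hg, hm⟩ := exists_even_map ![a, c, b, d] ![a, b, e, f]
        (by intro i j; fin_cases i <;> fin_cases j <;>
          simp [hab, hac, had, hbc, hbd, hcd, hab.symm, hac.symm, had.symm, hbc.symm, hbd.symm, hcd.symm])
        (by intro i j; fin_cases i <;> fin_cases j <;>
          simp [hab, hae, haf, hbe, hbf, hef, hab.symm, hae.symm, haf.symm, hbe.symm, hbf.symm, hef.symm])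
        (by omega)
      have ga : g a = a := hm 0
      have gc : g c = b := hm 1
      have gb : g b = e := hm 2
      have gd : g d = f := hm 3
      have hσz : σ = g * z * g⁻¹ := by rw [hzeq, ss_conj, ga, gc, gb, gd]
      have hWfix : ∀ v ∈ W, FixedOff R {a, b, c, d} v := by
        intro v hv
        obtain ⟨p, hp, q, hq, rfl⟩ := Submodule.mem_sup.1 hv
        have f1 := (hUfix a b c habc p hp).mono (T := {a, b, c, d}) (by intro i; simp; tauto)
        have f2 := (hUfix a b d habd q hq).mono (T := {a, b, c, d}) (by intro i; simp; tauto)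
        intro x y' z' hx hy' hz' h1 h2' h3
        rw [map_add, f1 x y' z' hx hy' hz' h1 h2' h3, f2 x y' z' hx hy' hz' h1 h2' h3]
      have hsp : R σ y₀ + y₀ = R g (R z (R g⁻¹ y₀) + R g⁻¹ y₀) := by
        rw [map_add, hR.apply_inv hg, ← hR.conj_apply hg hzs, hR.apply_inv hg, ← hσz]
      have hf2 : FixedOff R {a, b, e, f} u := by
        have h1 := (hWfix _ (hzW (R g⁻¹ y₀))).image hR hg
        rw [← hsp, add_comm, ← hu] at h1
        rw [show ({a, b, e, f} : Finset α) = ({a, b, c, d} : Finset α).image g by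
          rw [Finset.image_insert, Finset.image_insert, Finset.image_insert, Finset.image_singleton, ga, gb, gc, gd]
          ext; simp; tauto]
        exact h1
      have hf1 := (hUfix a b c habc u huU).mono (T := {a, b, c, d}) (by intro i; simp; tauto)
      have := hf1.join hR hf2 (by
        have := Finset.card_le_card (show ({a, b, c, d} : Finset α) ∪ {a, b, e, f} ⊆ {a, b, c, d, e, f} by
          intro i; simp; tauto)
        have := this.trans Finset.card_le_six
        omega)
      rwa [show ({a, b, c, d} : Finset α) ∩ {a, b, e, f} = {a, b} by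
        ext i; simp only [Finset.mem_inter, Finset.mem_insert, Finset.mem_singleton]
        constructor
        · rintro ⟨h | h | h | h, h' | h' | h' | h'⟩ <;> subst h <;> simp_all
        · rintro (h | h) <;> exact ⟨by tauto, by tauto⟩] at this
    · obtain ⟨v, ⟨hv, hv'⟩, hv0⟩ := Submodule.exists_mem_ne_zero_of_ne_bot hint
      have hv1 : R σ v ∈ Usp R a b c w ∧ R σ v ∈ Usp R a b d w := by
        have h1 := hUmap a b c habc σ hσs v hv
        have h3 := hUmap a b d habd σ hσs v hv'
        rw [σa, σb, σc] at h1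
        rw [σa, σb, σd] at h3
        have e : ∀ {x y z : α}, Dist3 x y z → Usp R y x z w = Usp R x y z w := fun {x y z} h => by
          rw [Usp, Usp, Wsp_inv hR h2 hw h, ← Wsp_inv hR h2 hw h.swap, sup_comm]
        rw [e habc] at h1
        rw [e habd] at h3
        exact ⟨h1, h3⟩
      obtain ⟨x, hx, hx', hx0, hσx⟩ : ∃ x, x ∈ Usp R a b c w ∧ x ∈ Usp R a b d w ∧ x ≠ 0 ∧ R σ x = x := by
        by_cases hσv : R σ v = v
        · exact ⟨v, hv, hv', hv0, hσv⟩
        · refine ⟨v + R σ v, add_mem hv hv1.1, add_mem hv' hv1.2, fun h => hσv ?_, ?_⟩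
          · rw [eq_neg_of_add_eq_zero_right h, neg_eq_of_add_eq_zero_left (hadd v)]
          · rw [map_add, hσ2, add_comm]
      obtain ⟨l, hl⟩ := hline x hx hσx
      have hl0 : l ≠ 0 := fun h => hx0 (by rw [hl, h, zero_smul])
      have hu' : u ∈ Usp R a b d w := by
        rw [← inv_smul_smul₀ hl0 u, ← hl]; exact Submodule.smul_mem _ _ hx'
      have := (hUfix a b c habc u huU).join hR (hUfix a b d habd u hu') (by
        have := Finset.card_le_card (show ({a, b, c} : Finset α) ∪ {a, b, d} ⊆ {a, b, c, d} by intro i; simp)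
        have := this.trans Finset.card_le_four
        omega)
      rwa [show ({a, b, c} : Finset α) ∩ {a, b, d} = {a, b} by
        ext i; simp only [Finset.mem_inter, Finset.mem_insert, Finset.mem_singleton]
        constructor
        · rintro ⟨h | h | h, h' | h' | h'⟩ <;> subst h <;> simp_all
        · rintro (h | h) <;> exact ⟨by tauto, by tauto⟩] at this
  -- transport
  have hget : ∀ x y, x ≠ y → ∃ τ : Perm α, sign τ = 1 ∧ τ a = x ∧ τ b = y := fun x y hxy => by
    obtain ⟨τ, hτ, hm⟩ := exists_even_map ![a, b] ![x, y]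
      (by intro i j; fin_cases i <;> fin_cases j <;> simp [hab, hab.symm])
      (by intro i j; fin_cases i <;> fin_cases j <;> simp [hxy, hxy.symm]) (by omega)
    exact ⟨τ, hτ, hm 0, hm 1⟩
  let v : α → α → V := fun x y => if h : x ≠ y then R (hget x y h).choose u else 0
  have hv : ∀ τ : Perm α, sign τ = 1 → v (τ a) (τ b) = R τ u := by
    intro τ hτ
    have hne' : τ a ≠ τ b := τ.injective.ne hab
    simp only [v, dif_pos hne']
    obtain ⟨hπ, hπa, hπb⟩ := (hget _ _ hne').choose_spec
    set π := (hget _ _ hne').choose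
    have hs' : sign (π⁻¹ * τ) = 1 := by rw [map_mul, map_inv, hπ, hτ, inv_one, one_mul]
    have hfix : R (π⁻¹ * τ) u = u := huab.apply_eq hR hs' fun x hx => by
      simp only [Finset.mem_insert, Finset.mem_singleton] at hx
      rcases hx with rfl | rfl
      · rw [Perm.mul_apply, ← hπa, ← Perm.mul_apply, inv_mul_cancel, Perm.one_apply]
      · rw [Perm.mul_apply, ← hπb, ← Perm.mul_apply, inv_mul_cancel, Perm.one_apply]
    conv_lhs => rw [← hfix]
    rw [← Module.End.mul_apply, ← hR.2 _ _ hπ hs', mul_inv_cancel_left]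
  have heq : ∀ τ, sign τ = 1 → ∀ x y, x ≠ y → R τ (v x y) = v (τ x) (τ y) := by
    intro τ hτ x y hxy
    obtain ⟨π, hπ, rfl, rfl⟩ := hget x y hxy
    rw [hv π hπ, ← Module.End.mul_apply, ← hR.2 _ _ hτ hπ, ← hv _ (by rw [map_mul, hτ, hπ, one_mul]),
      Perm.mul_apply, Perm.mul_apply]
  have hvU : ∀ x y z, Dist3 x y z → v x y ∈ Usp R x y z w := by
    intro x y z h
    obtain ⟨τ, hτ, hm⟩ := exists_even_map ![a, b, c] ![x, y, z] habc.inj h.inj (by omega)
    rw [← show τ a = x from hm 0, ← show τ b = y from hm 1, ← show τ c = z from hm 2, hv τ hτ]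
    exact hUmap a b c habc τ hτ u huU
  have hvfix : ∀ x y, x ≠ y → FixedOff R {x, y} (v x y) := by
    intro x y hxy
    obtain ⟨τ, hτ, rfl, rfl⟩ := hget x y hxy
    rw [hv τ hτ]
    have := huab.image hR hτ
    rwa [Finset.image_insert, Finset.image_singleton] at this
  have hsym : ∀ x y, x ≠ y → v y x = v x y := by
    intro x y hxy
    obtain ⟨τ, hτ, rfl, rfl⟩ := hget x y hxy
    have h1 : v b a = v a b := by
      have h0 : v a b = u := by
        have := hv 1 (map_one _); rwa [Perm.one_apply, Perm.one_apply, hR.1, Module.End.one_apply] at this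
      have := heq σ hσs a b hab
      rw [σa, σb, h0, hσu] at this
      rw [← this, h0]
    rw [← heq τ hτ b a hab.symm, ← heq τ hτ a b hab, h1]
  have hnz : ∀ x y, x ≠ y → v x y ≠ 0 := by
    intro x y hxy h0
    obtain ⟨τ, hτ, rfl, rfl⟩ := hget x y hxy
    rw [hv τ hτ] at h0
    exact hu0 (hR.injective hτ (h0.trans (map_zero _).symm))
  refine endgame p hR (by omega) heq (fun x y hxy => ?_) ?_ ⟨a, b, hab, hnz a b hab⟩
  · rw [hsym x y hxy, neg_eq_of_add_eq_zero_left (hadd _)]
  intro x y z hxy hxz hyz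
  have h3 : Dist3 x y z := ⟨hxy, hxz, hyz⟩
  have mX : v x y ∈ Usp R x y z w := hvU x y z h3
  have erot : ∀ {p q r : α}, Dist3 p q r → Usp R q r p w = Usp R p q r w := fun {p q r} h => by
    rw [Usp, Usp, Wsp, Wsp, Wsp, Wsp, ← c3_rot h.1 h.2.1 h.2.2]
  have mY : v y z ∈ Usp R x y z w := by
    rw [← erot h3]; exact hvU y z x ⟨hyz, hxy.symm, hxz.symm⟩
  -- independence of two edges
  obtain ⟨q, hq, hqo₀⟩ := exists_outside ({x, y, z} : Finset α) (j := 2)
    (by have := Finset.card_le_three (a := x) (b := y) (c := z); omega)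
  have hqo : ∀ i, q i ≠ x ∧ q i ≠ y ∧ q i ≠ z := fun i => by simpa using hqo₀ i
  set h := swap x y * swap (q 0) (q 1) with hh
  have hhs : sign h = 1 := sign_ss hxy (hq.ne (by decide))
  have hx' : h x = y := by rw [Perm.mul_apply, swap_apply_of_ne_of_ne (hqo 0).1.symm (hqo 1).1.symm, swap_apply_left]
  have hy' : h y = x := by
    rw [Perm.mul_apply, swap_apply_of_ne_of_ne (hqo 0).2.1.symm (hqo 1).2.1.symm, swap_apply_right]
  have hz' : h z = z := by
    rw [Perm.mul_apply, swap_apply_of_ne_of_ne (hqo 0).2.2.symm (hqo 1).2.2.symm,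
      swap_apply_of_ne_of_ne hxz.symm hyz.symm]
  set X := v x y with hX
  set Y := v y z with hY
  set Z := v z x with hZ
  have hσX : R h X = X := by rw [hX, heq h hhs x y hxy, hx', hy', hsym x y hxy]
  have hσY : R h Y = Z := by rw [hY, heq h hhs y z hyz, hy', hz', hZ, hsym z x hxz.symm]
  have hσZ : R h Z = Y := by rw [hZ, heq h hhs z x hxz.symm, hz', hx', hY, hsym y z hyz]
  have htX : R (c3 x y z) X = Y := by rw [hX, heq _ (sign_c3 hxy hyz) x y hxy, c3_fst hxy hxz, c3_snd hxz hyz]
  have htY : R (c3 x y z) Y = Z := by rw [hY, heq _ (sign_c3 hxy hyz) y z hyz, c3_snd hxz hyz, c3_thd]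
  have hind : LinearIndependent k ![X, Y] := by
    rw [LinearIndependent.pair_iff' (hnz x y hxy)]
    intro l hl
    have f1 : FixedOff R {x, y} Y := by
      intro i j r hi hj hr h1 h2' h3'
      rw [← hl, map_smul, hvfix x y hxy i j r hi hj hr h1 h2' h3']
    have f2 := f1.join hR (hvfix y z hyz) (by
      have := Finset.card_union_le ({x, y} : Finset α) {y, z}
      have h1 := Finset.card_le_two (a := x) (b := y)
      have h3' := Finset.card_le_two (a := y) (b := z)
      omega)
    rw [show ({x, y} : Finset α) ∩ {y, z} = {y} by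
      ext i; simp only [Finset.mem_inter, Finset.mem_insert, Finset.mem_singleton]
      constructor
      · rintro ⟨h | h, h' | h'⟩ <;> first | assumption | exact absurd (h.symm.trans h') hxy | exact absurd (h.symm.trans h') hxz
      · rintro rfl; exact ⟨Or.inr rfl, Or.inl rfl⟩] at f2
    have f3 := f2.image hR hhs
    rw [Finset.image_singleton, hy', hσY] at f3
    have hZY : Z = Y := by
      have := congrArg (R h) hl
      rwa [map_smul, hσX, hσY, hl, eq_comm] at this
    rw [hZY] at f3
    have f4 := f3.join hR f2 (by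
      have := Finset.card_union_le ({x} : Finset α) {y}
      simp only [Finset.card_singleton] at this
      omega)
    rw [show ({x} : Finset α) ∩ {y} = ∅ by simp [hxy.symm]] at f4
    exact hnz y z hyz (hUfree x y z h3 _ mY (fixed_all_of_c3 hR f4 (sign_c3 hxy hyz)))
  have hU2 : finrank k (Usp R x y z w) ≤ 2 := by
    have := Submodule.finrank_sup_add_finrank_inf_eq (Wsp R x y z w) (Wsp R x y z (w + 1))
    rw [hd x y z h3, Wsp_inv hR h2 hw h3.swap, hd y x z h3.swap] at this
    rw [Usp, Wsp_inv hR h2 hw h3.swap]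
    omega
  have hspan : Usp R x y z w = Submodule.span k (Set.range ![X, Y]) := by
    refine (Submodule.eq_of_le_of_finrank_le (Submodule.span_le.2 ?_) ?_).symm
    · rintro _ ⟨i, rfl⟩; fin_cases i
      exacts [mX, mY]
    · rw [finrank_span_eq_card hind, Fintype.card_fin]; exact hU2
  have mZ : Z ∈ Submodule.span k (Set.range ![X, Y]) := by
    rw [← hspan, ← htY]
    have := hUmap x y z h3 _ (sign_c3 hxy hyz) Y mY
    rwa [c3_fst hxy hxz, c3_snd hxz hyz, c3_thd, erot h3] at this
  obtain ⟨cf, hc⟩ := (Submodule.mem_span_range_iff_exists_fun k).1 mZ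
  rw [Fin.sum_univ_two] at hc
  simp only [Matrix.cons_val_zero, Matrix.cons_val_one] at hc
  set A := cf 0
  set B := cf 1
  have hpair := LinearIndependent.pair_iff.1 hind
  -- apply the involution
  have e1 : A • X + B • Z = Y := by
    have := congrArg (R h) hc
    rwa [map_add, map_smul, map_smul, hσX, hσY, hσZ] at this
  have e1' : (A + B * A) • X + (B * B - 1) • Y = 0 := by
    rw [← hc] at e1
    linear_combination (norm := module) e1
  obtain ⟨k1, k2⟩ := hpair _ _ e1'
  have hB1 : B = 1 := by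
    have : (B - 1) * (B - 1) = 0 := by linear_combination k2 + (1 - B) * h2
    exact sub_eq_zero.1 (mul_self_eq_zero.1 this)
  -- apply the rotation
  have e2 : A • Y + B • Z = X := by
    have := congrArg (R (c3 x y z)) hc
    rw [map_add, map_smul, map_smul, htX, htY] at this
    rw [this, hZ, heq _ (sign_c3 hxy hyz) z x hxz.symm, c3_thd, c3_fst hxy hxz, hX]
  have e2' : (B * A - 1) • X + (A + B * B) • Y = 0 := by
    rw [← hc] at e2
    linear_combination (norm := module) e2
  obtain ⟨k3, -⟩ := hpair _ _ e2'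
  have hA1 : A = 1 := by rw [hB1, one_mul] at k3; exact sub_eq_zero.1 k3
  rw [hA1, hB1, one_smul, one_smul] at hc
  rw [← hc, hadd]

end Two

end CfsgLib.KnownC.AltSec
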