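import Cfsg.Agent.Lib.KnownC.AltSec.LinTwo
import Cfsg.Agent.Lib.KnownC.AltSec.Car

/-!
The degree of a nontrivial representation of the alternating group in characteristic two.
-/

set_option autoImplicit false

namespace CfsgLib.KnownC.AltSec

open Equiv Equiv.Perm Module

universe u v w

section Small

variable {α : Type u} [Fintype α] [DecidableEq α] {k : Type w} [Field k] {V : Type v} [AddCommGroup V] [Module k V]
  {R : Perm α → Module.End k V}

/-- A weight for three disjoint three cycles. -/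
def Has (R : Perm α → Module.End k V) (f : Fin 9 → α) (A B C : k) : Prop :=
  ∃ x : V, x ≠ 0 ∧ R (c3 (f 0) (f 1) (f 2)) x = A • x ∧ R (c3 (f 3) (f 4) (f 5)) x = B • x ∧
    R (c3 (f 6) (f 7) (f 8)) x = C • x

theorem Has.move (hR : IsRep R) {f : Fin 9 → α} (hf : Function.Injective f) {A B C : k} (h : Has R f A B C)
    {g : Perm α} (hg : sign g = 1) : Has R (fun i => g (f i)) A B C := by
  obtain ⟨x, hx0, h1, h3, h4⟩ := h
  have hd : ∀ i j l : Fin 9, i ≠ j → i ≠ l → j ≠ l → ∀ {a : k}, R (c3 (f i) (f j) (f l)) x = a • x →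
      R (c3 (g (f i)) (g (f j)) (g (f l))) (R g x) = a • R g x := fun i j l hij _ hjl a ha => by
    rw [← c3_conj, hR.conj_apply hg (sign_c3 (hf.ne hij) (hf.ne hjl)), ha, map_smul]
  exact ⟨R g x, fun h => hx0 (hR.injective hg (h.trans (map_zero _).symm)),
    hd 0 1 2 (by decide) (by decide) (by decide) h1, hd 3 4 5 (by decide) (by decide) (by decide) h3,
    hd 6 7 8 (by decide) (by decide) (by decide) h4⟩

theorem inv_eigen (hR : IsRep R) (h2 : (2 : k) = 0) {w : k} (hw : w * w + w + 1 = 0) {a b c : α}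
    (h : Dist3 a b c) {x : V} :
    (R (c3 b a c) x = w • x → R (c3 a b c) x = (w + 1) • x) ∧
    (R (c3 b a c) x = (w + 1) • x → R (c3 a b c) x = w • x) ∧
    (R (c3 b a c) x = (1 : k) • x → R (c3 a b c) x = (1 : k) • x) := by
  refine ⟨fun hx => ?_, fun hx => ?_, fun hx => ?_⟩
  · have := mem_Wsp.2 hx
    rw [← Wsp_inv hR h2 hw h.swap] at this
    exact mem_Wsp.1 this
  · have := mem_Wsp.2 hx
    rw [Wsp_inv hR h2 hw h] at this
    exact mem_Wsp.1 this
  · rw [one_smul] at hx ⊢
    conv_lhs => rw [← hx, ← c3_inv h.1 h.2.1 h.2.2]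
    exact hR.apply_inv (sign_c3 h.1 h.2.2) x

theorem fwd (f : Fin 9 → α) (hf : Function.Injective f) (i j : Fin 9) (l : Fin 9) :
    swap (f i) (f j) (f l) = f (Equiv.swap i j l) := by
  rcases eq_or_ne l i with rfl | h1
  · simp
  rcases eq_or_ne l j with rfl | h2
  · simp
  rw [swap_apply_of_ne_of_ne (hf.ne h1) (hf.ne h2), swap_apply_of_ne_of_ne h1 h2]

theorem four_le (hR : IsRep R) [FiniteDimensional k V] (h2 : (2 : k) = 0) {w : k} (hw : w * w + w + 1 = 0)
    (f : Fin 9 → α) (hf : Function.Injective f) {v : V} (hv : v ∈ Wsp R (f 0) (f 1) (f 2) w)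
    (hmove : R (c3 (f 3) (f 4) (f 5)) v ≠ v) : 4 ≤ finrank k (Wsp R (f 0) (f 1) (f 2) w) := by
  classical
  obtain ⟨-, hw1, -, hw3, hw4⟩ := omega_ne h2 hw
  have fne : ∀ i j : Fin 9, i ≠ j → f i ≠ f j := fun i j h => hf.ne h
  have d0 : Dist3 (f 0) (f 1) (f 2) := ⟨fne _ _ (by decide), fne _ _ (by decide), fne _ _ (by decide)⟩
  have d1 : Dist3 (f 3) (f 4) (f 5) := ⟨fne _ _ (by decide), fne _ _ (by decide), fne _ _ (by decide)⟩
  have d2 : Dist3 (f 6) (f 7) (f 8) := ⟨fne _ _ (by decide), fne _ _ (by decide), fne _ _ (by decide)⟩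
  let bar : k → k := fun a => if a = 1 then 1 else a + 1
  have bar1 : bar 1 = 1 := by simp [bar]
  have barw : bar w = w + 1 := by simp [bar, hw1]
  have barw' : bar (w + 1) = w := by simp only [bar, if_neg hw3]; exact add_one_add_one h2 w
  let P : k → Prop := fun a => a = 1 ∨ a = w ∨ a = w + 1
  have hbar : ∀ {a b c : α}, Dist3 a b c → ∀ {x : V} {A : k}, P A → R (c3 b a c) x = A • x →
      R (c3 a b c) x = bar A • x := by
    intro a b c hd x A hA hx
    obtain ⟨i1, i2, i3⟩ := inv_eigen (x := x) hR h2 hw hd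
    rcases hA with rfl | rfl | rfl
    · rw [bar1]; exact i3 hx
    · rw [barw]; exact i1 hx
    · rw [barw']; exact i2 hx
  -- the moves
  have flip12 : ∀ {A B C : k}, P A → P B → Has R f A B C → Has R f (bar A) (bar B) C := by
    intro A B C hA hB h
    obtain ⟨x, hx0, e1, e2, e3⟩ := h.move hR hf (sign_ss (fne 0 1 (by decide)) (fne 3 4 (by decide)))
    simp only [Perm.mul_apply, fwd f hf] at e1 e2 e3
    exact ⟨x, hx0, hbar d0 hA e1, hbar d1 hB e2, e3⟩
  have flip23 : ∀ {A B C : k}, P B → P C → Has R f A B C → Has R f A (bar B) (bar C) := by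
    intro A B C hB hC h
    obtain ⟨x, hx0, e1, e2, e3⟩ := h.move hR hf (sign_ss (fne 3 4 (by decide)) (fne 6 7 (by decide)))
    simp only [Perm.mul_apply, fwd f hf] at e1 e2 e3
    exact ⟨x, hx0, e1, hbar d1 hB e2, hbar d2 hC e3⟩
  have flip13 : ∀ {A B C : k}, P A → P C → Has R f A B C → Has R f (bar A) B (bar C) := by
    intro A B C hA hC h
    obtain ⟨x, hx0, e1, e2, e3⟩ := h.move hR hf (sign_ss (fne 0 1 (by decide)) (fne 6 7 (by decide)))
    simp only [Perm.mul_apply, fwd f hf] at e1 e2 e3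
    exact ⟨x, hx0, hbar d0 hA e1, e2, hbar d2 hC e3⟩
  have swap12 : ∀ {A B C : k}, P C → Has R f A B C → Has R f B A (bar C) := by
    intro A B C hC h
    obtain ⟨x, hx0, e1, e2, e3⟩ := h.move hR hf
      (g := swap (f 0) (f 3) * swap (f 1) (f 4) * (swap (f 2) (f 5) * swap (f 6) (f 7)))
      (by rw [map_mul, sign_ss (fne 0 3 (by decide)) (fne 1 4 (by decide)),
        sign_ss (fne 2 5 (by decide)) (fne 6 7 (by decide)), one_mul])
    simp only [Perm.mul_apply, fwd f hf] at e1 e2 e3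
    exact ⟨x, hx0, e2, e1, hbar d2 hC e3⟩
  have swap23 : ∀ {A B C : k}, P A → Has R f A B C → Has R f (bar A) C B := by
    intro A B C hA h
    obtain ⟨x, hx0, e1, e2, e3⟩ := h.move hR hf
      (g := swap (f 0) (f 1) * swap (f 3) (f 6) * (swap (f 4) (f 7) * swap (f 5) (f 8)))
      (by rw [map_mul, sign_ss (fne 0 1 (by decide)) (fne 3 6 (by decide)),
        sign_ss (fne 4 7 (by decide)) (fne 5 8 (by decide)), one_mul])
    simp only [Perm.mul_apply, fwd f hf] at e1 e2 e3
    exact ⟨x, hx0, hbar d0 hA e1, e3, e2⟩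
  -- a first weight
  have hcomm : ∀ {i j l : Fin 9} {p q r : Fin 9}, i ≠ j → j ≠ l → p ≠ q → q ≠ r →
      i ≠ p → i ≠ q → i ≠ r → j ≠ p → j ≠ q → j ≠ r → l ≠ p → l ≠ q → l ≠ r → ∀ x : V,
        R (c3 (f i) (f j) (f l)) (R (c3 (f p) (f q) (f r)) x) =
          R (c3 (f p) (f q) (f r)) (R (c3 (f i) (f j) (f l)) x) := by
    intro i j l p q r hij hjl hpq hqr n1 n2 n3 n4 n5 n6 n7 n8 n9 x
    refine hR.comm_apply (sign_c3 (hf.ne hij) (hf.ne hjl)) (sign_c3 (hf.ne hpq) (hf.ne hqr)) ?_ x
    rw [Commute, SemiconjBy, ← mul_inv_eq_iff_eq_mul, c3_conj,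
      c3_other (hf.ne n1.symm) (hf.ne n4.symm) (hf.ne n7.symm), c3_other (hf.ne n2.symm) (hf.ne n5.symm) (hf.ne n8.symm),
      c3_other (hf.ne n3.symm) (hf.ne n6.symm) (hf.ne n9.symm)]
  obtain ⟨B, C, hB, hC, hHas⟩ : ∃ B C, (B = w ∨ B = w + 1) ∧ P C ∧ Has R f w B C := by
    obtain ⟨x, y, z, hx, hy, hz, hvxyz⟩ := decompose hR h2 hw d1 v
    have h12 : ∀ u, R (c3 (f 0) (f 1) (f 2)) (R (c3 (f 3) (f 4) (f 5)) u) =
        R (c3 (f 3) (f 4) (f 5)) (R (c3 (f 0) (f 1) (f 2)) u) :=
      hcomm (by decide) (by decide) (by decide) (by decide) (by decide) (by decide) (by decide) (by decide)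
        (by decide) (by decide) (by decide) (by decide) (by decide)
    have h13 : ∀ u, R (c3 (f 0) (f 1) (f 2)) (R (c3 (f 6) (f 7) (f 8)) u) =
        R (c3 (f 6) (f 7) (f 8)) (R (c3 (f 0) (f 1) (f 2)) u) :=
      hcomm (by decide) (by decide) (by decide) (by decide) (by decide) (by decide) (by decide) (by decide)
        (by decide) (by decide) (by decide) (by decide) (by decide)
    have h23 : ∀ u, R (c3 (f 3) (f 4) (f 5)) (R (c3 (f 6) (f 7) (f 8)) u) =
        R (c3 (f 6) (f 7) (f 8)) (R (c3 (f 3) (f 4) (f 5)) u) :=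
      hcomm (by decide) (by decide) (by decide) (by decide) (by decide) (by decide) (by decide) (by decide)
        (by decide) (by decide) (by decide) (by decide) (by decide)
    have hv' := mem_Wsp.1 hv
    rw [hvxyz, map_add, map_add, smul_add, smul_add] at hv'
    have hkeep : ∀ {B : k} {u : V}, R (c3 (f 3) (f 4) (f 5)) u = B • u →
        R (c3 (f 3) (f 4) (f 5)) (R (c3 (f 0) (f 1) (f 2)) u - w • u) =
          B • (R (c3 (f 0) (f 1) (f 2)) u - w • u) := by
      intro B u hu
      rw [map_sub, map_smul, ← h12, hu, map_smul, smul_sub, smul_comm w B u]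
    have hzero := Wsp_disjoint h2 hw (R (c3 (f 0) (f 1) (f 2)) x - w • x)
      (by have := hkeep (B := 1) (u := x) (by rw [one_smul, hx]); rwa [one_smul] at this)
      (R (c3 (f 0) (f 1) (f 2)) y - w • y) (mem_Wsp.2 (hkeep (mem_Wsp.1 hy)))
      (R (c3 (f 0) (f 1) (f 2)) z - w • z) (mem_Wsp.2 (hkeep (mem_Wsp.1 hz)))
      (by linear_combination (norm := abel) hv')
    obtain ⟨-, hy1, hz1⟩ := hzero
    rw [sub_eq_zero] at hy1 hz1
    obtain ⟨u, B, hB, hu0, hu1, hu2⟩ : ∃ u B, (B = w ∨ B = w + 1) ∧ u ≠ 0 ∧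
        R (c3 (f 0) (f 1) (f 2)) u = w • u ∧ R (c3 (f 3) (f 4) (f 5)) u = B • u := by
      by_cases hy0 : y = 0
      · refine ⟨z, w + 1, Or.inr rfl, fun hz0 => hmove ?_, hz1, mem_Wsp.1 hz⟩
        rw [hvxyz, hy0, hz0, add_zero, add_zero, hx]
      · exact ⟨y, w, Or.inl rfl, hy0, hy1, mem_Wsp.1 hy⟩
    obtain ⟨p, q, r, hp, hq, hr, rfl⟩ := decompose hR h2 hw d2 u
    have keep : ∀ (S : Module.End k V) (a : k), (∀ u, S (R (c3 (f 6) (f 7) (f 8)) u) = R (c3 (f 6) (f 7) (f 8)) (S u)) →
        S (p + q + r) = a • (p + q + r) → S p = a • p ∧ S q = a • q ∧ S r = a • r := by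
      intro S a hS hsum
      have hk : ∀ {C : k} {e : V}, R (c3 (f 6) (f 7) (f 8)) e = C • e →
          R (c3 (f 6) (f 7) (f 8)) (S e - a • e) = C • (S e - a • e) := by
        intro C e he
        rw [map_sub, map_smul, ← hS, he, map_smul, smul_sub, smul_comm a C e]
      rw [map_add, map_add, smul_add, smul_add] at hsum
      have h0 := Wsp_disjoint h2 hw (S p - a • p)
        (by have := hk (C := 1) (e := p) (by rw [one_smul, hp]); rwa [one_smul] at this)
        (S q - a • q) (mem_Wsp.2 (hk (mem_Wsp.1 hq))) (S r - a • r) (mem_Wsp.2 (hk (mem_Wsp.1 hr)))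
        (by linear_combination (norm := abel) hsum)
      exact ⟨sub_eq_zero.1 h0.1, sub_eq_zero.1 h0.2.1, sub_eq_zero.1 h0.2.2⟩
    obtain ⟨a1, a2, a3⟩ := keep _ w h13 hu1
    obtain ⟨b1, b2, b3⟩ := keep _ B h23 hu2
    by_cases hp0 : p = 0
    · by_cases hq0 : q = 0
      · exact ⟨B, w + 1, hB, Or.inr (Or.inr rfl), r, fun hr0 => hu0 (by simp [hp0, hq0, hr0]), a3, b3, mem_Wsp.1 hr⟩
      · exact ⟨B, w, hB, Or.inr (Or.inl rfl), q, hq0, a2, b2, mem_Wsp.1 hq⟩
    · exact ⟨B, 1, hB, Or.inl rfl, p, hp0, a1, b1, by rw [one_smul, hp]⟩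
  -- normalise and expand
  have P1 : P 1 := Or.inl rfl
  have Pw : P w := Or.inr (Or.inl rfl)
  have Pw' : P (w + 1) := Or.inr (Or.inr rfl)
  obtain ⟨C, hC, hH⟩ : ∃ C, P C ∧ Has R f w w C := by
    rcases hB with rfl | rfl
    · exact ⟨C, hC, hHas⟩
    · have := flip23 Pw' hC hHas
      rw [barw'] at this
      refine ⟨bar C, ?_, this⟩
      rcases hC with rfl | rfl | rfl
      exacts [by rw [bar1]; exact P1, by rw [barw]; exact Pw', by rw [barw']; exact Pw]
  obtain ⟨L, hL, hLinj⟩ : ∃ L : Fin 4 → k × k, (∀ i, Has R f w (L i).1 (L i).2) ∧ Function.Injective L := by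
    rcases hC with hC | hC | hC <;> rw [hC] at hH
    · have a2 : Has R f w (w + 1) 1 := by have := flip23 Pw P1 hH; rwa [barw, bar1] at this
      have a3' : Has R f (w + 1) 1 w := by have := swap23 Pw hH; rwa [barw] at this
      have a3 : Has R f w 1 (w + 1) := by have := flip13 Pw' Pw a3'; rwa [barw', barw] at this
      have a4 : Has R f w 1 w := by have := flip23 P1 Pw' a3; rwa [bar1, barw'] at this
      refine ⟨![(w, 1), (w + 1, 1), (1, w + 1), (1, w)], fun i => ?_, ?_⟩
      · fin_cases i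
        exacts [hH, a2, a3, a4]
      · intro i j; fin_cases i <;> fin_cases j <;>
          simp [hw1, hw3, hw4, Ne.symm hw1, Ne.symm hw3, Ne.symm hw4]
    · have a2 : Has R f w (w + 1) (w + 1) := by have := flip23 Pw Pw hH; rwa [barw] at this
      have a3' : Has R f (w + 1) w w := by have := swap23 Pw hH; rwa [barw] at this
      have a3 : Has R f w (w + 1) w := by have := flip12 Pw' Pw a3'; rwa [barw', barw] at this
      have a4 : Has R f w w (w + 1) := by have := flip23 Pw' Pw a3; rwa [barw', barw] at this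
      refine ⟨![(w, w), (w + 1, w + 1), (w + 1, w), (w, w + 1)], fun i => ?_, ?_⟩
      · fin_cases i
        exacts [hH, a2, a3, a4]
      · intro i j; fin_cases i <;> fin_cases j <;>
          simp [hw4, Ne.symm hw4]
    · have a2 : Has R f w (w + 1) w := by have := flip23 Pw Pw' hH; rwa [barw, barw'] at this
      have a3 : Has R f w w w := by have := swap12 Pw' hH; rwa [barw'] at this
      have a4 : Has R f w (w + 1) (w + 1) := by have := flip23 Pw Pw a3; rwa [barw] at this
      refine ⟨![(w, w + 1), (w + 1, w), (w, w), (w + 1, w + 1)], fun i => ?_, ?_⟩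
      · fin_cases i
        exacts [hH, a2, a3, a4]
      · intro i j; fin_cases i <;> fin_cases j <;>
          simp [hw4, Ne.symm hw4]
  choose x hx0 hx1 hx2 hx3 using hL
  let y : Fin 4 → Wsp R (f 0) (f 1) (f 2) w := fun i => ⟨x i, mem_Wsp.2 (hx1 i)⟩
  have hli : LinearIndependent k x := by
    refine separated_independent x hx0 fun i j hij => ?_
    by_cases h : (L i).1 = (L j).1
    · exact ⟨R (c3 (f 6) (f 7) (f 8)), fun l => (L l).2, fun e => hij (hLinj (Prod.ext h e)), hx3⟩
    · exact ⟨R (c3 (f 3) (f 4) (f 5)), fun l => (L l).1, h, hx2⟩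
  have := (LinearIndependent.of_comp (Wsp R (f 0) (f 1) (f 2) w).subtype (v := y) hli).fintype_card_le_finrank
  simpa using this

theorem eleven (hR : IsRep R) [FiniteDimensional k V] (h2 : (2 : k) = 0) {w : k} (hw : w * w + w + 1 = 0)
    (hcard : Fintype.card α = 11)
    (h4 : ∀ a b c : α, Dist3 a b c → 4 ≤ finrank k (Wsp R a b c w)) : 10 ≤ finrank k V := by
  classical
  by_contra hlt
  obtain ⟨-, hw1, -, -, -⟩ := omega_ne h2 hw
  let F : α → α → α → Submodule k V := fun a b c => LinearMap.ker (R (c3 a b c) - 1)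
  have hF : ∀ {a b c : α} {x : V}, x ∈ F a b c ↔ R (c3 a b c) x = x := by
    intro a b c x
    simp only [F, LinearMap.mem_ker, LinearMap.sub_apply, Module.End.one_apply, sub_eq_zero]
  have hF1 : ∀ a b c, Dist3 a b c → finrank k (F a b c) ≤ 1 := by
    intro a b c h
    have := two_mul_le hR h2 hw (by omega) h
    have := h4 a b c h
    show finrank k (LinearMap.ker (R (c3 a b c) - 1)) ≤ 1
    omega
  have hFle : ∀ a b c x y z : α, Dist3 a b c → Dist3 x y z →
      (∀ i ∈ ({x, y, z} : Finset α), i ∉ ({a, b, c} : Finset α)) → F a b c ≤ F x y z := by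
    intro a b c x y z h h' hout v hv
    rw [hF] at hv ⊢
    by_cases hv0 : v = 0
    · subst hv0; simp
    have hpres : ∀ σ : Perm α, sign σ = 1 → σ a = a → σ b = b → σ c = c → ∀ u ∈ F a b c, R σ u ∈ F a b c := by
      intro σ hσ ha hb hc u hu
      rw [hF] at hu ⊢
      have := hR.conj_apply hσ (sign_c3 h.1 h.2.2) u
      rwa [c3_conj, ha, hb, hc, hu] at this
    have hscal : ∀ σ : Perm α, sign σ = 1 → σ a = a → σ b = b → σ c = c → ∃ l : k, R σ v = l • v := by
      intro σ hσ ha hb hc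
      have h1 : finrank k (F a b c) = 1 := by
        refine le_antisymm (hF1 a b c h) ?_
        rw [Nat.one_le_iff_ne_zero, Ne, Submodule.finrank_eq_zero]
        intro hbot
        have : v ∈ F a b c := hF.2 hv
        rw [hbot, Submodule.mem_bot] at this
        exact hv0 this
      obtain ⟨l, hl⟩ := (finrank_eq_one_iff_of_nonzero' (⟨v, hF.2 hv⟩ : F a b c)
        (fun e => hv0 (congrArg Subtype.val e))).1 h1 ⟨_, hpres σ hσ ha hb hc v (hF.2 hv)⟩
      exact ⟨l, (congrArg Subtype.val hl).symm⟩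
    have hx := hout x (by simp)
    have hy := hout y (by simp)
    have hz := hout z (by simp)
    simp only [Finset.mem_insert, Finset.mem_singleton, not_or] at hx hy hz
    obtain ⟨o, ho, hoo₀⟩ := exists_outside ({a, b, c, x, y, z} : Finset α) (j := 2) (by
      have := (Finset.card_le_six (a := a) (b := b) (c := c) (d := x) (e := y) (f := z))
      omega)
    have hoo : ∀ i, o i ≠ a ∧ o i ≠ b ∧ o i ≠ c ∧ o i ≠ x ∧ o i ≠ y ∧ o i ≠ z := fun i => by simpa using hoo₀ i
    obtain ⟨o0a, o0b, o0c, o0x, o0y, o0z⟩ := hoo 0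
    obtain ⟨o1a, o1b, o1c, o1x, o1y, o1z⟩ := hoo 1
    have hgs := sign_ss h'.1 (ho.ne (show (0 : Fin 2) ≠ 1 by decide))
    have ts := sign_c3 h'.1 h'.2.2
    obtain ⟨l, hl⟩ := hscal _ ts (c3_other (Ne.symm hx.1) (Ne.symm hy.1) (Ne.symm hz.1))
      (c3_other (Ne.symm hx.2.1) (Ne.symm hy.2.1) (Ne.symm hz.2.1))
      (c3_other (Ne.symm hx.2.2) (Ne.symm hy.2.2) (Ne.symm hz.2.2))
    obtain ⟨e, he⟩ := hscal _ hgs
      (by rw [Perm.mul_apply, swap_apply_of_ne_of_ne o0a.symm o1a.symm, swap_apply_of_ne_of_ne (Ne.symm hx.1) (Ne.symm hy.1)])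
      (by rw [Perm.mul_apply, swap_apply_of_ne_of_ne o0b.symm o1b.symm, swap_apply_of_ne_of_ne (Ne.symm hx.2.1) (Ne.symm hy.2.1)])
      (by rw [Perm.mul_apply, swap_apply_of_ne_of_ne o0c.symm o1c.symm, swap_apply_of_ne_of_ne (Ne.symm hx.2.2) (Ne.symm hy.2.2)])
    have he0 : e ≠ 0 := fun e0 => hv0 (hR.injective hgs (by rw [he, e0, zero_smul, map_zero]))
    have hconj := hR.conj_apply hgs ts v
    rw [c3_conj, Perm.mul_apply, Perm.mul_apply, Perm.mul_apply, swap_apply_of_ne_of_ne o0x.symm o1x.symm,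
      swap_apply_left, swap_apply_of_ne_of_ne o0y.symm o1y.symm, swap_apply_right,
      swap_apply_of_ne_of_ne o0z.symm o1z.symm, swap_apply_of_ne_of_ne h'.2.1.symm h'.2.2.symm,
      he, hl, map_smul, map_smul, he, smul_comm l e v] at hconj
    have hinv' : R (c3 y x z) v = l • v := smul_right_injective V he0 hconj
    have hback := hR.inv_apply ts v
    rw [c3_inv h'.1 h'.2.1 h'.2.2, hl, map_smul, hinv', smul_smul] at hback
    have hl1 : l = 1 := by
      have h0 : (l * l - 1) • v = 0 := by rw [sub_smul, one_smul, hback, sub_self]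
      have h1 := (smul_eq_zero.1 h0).resolve_right hv0
      have : (l - 1) * (l - 1) = 0 := by linear_combination h1 + (1 - l) * h2
      exact sub_eq_zero.1 (mul_self_eq_zero.1 this)
    rw [hl, hl1, one_smul]
  have hFeq : ∀ a b c x y z : α, Dist3 a b c → Dist3 x y z → F a b c = F x y z := by
    intro a b c x y z h h'
    obtain ⟨o, ho, hoo⟩ := exists_outside ({a, b, c, x, y, z} : Finset α) (j := 3) (by
      have := (Finset.card_le_six (a := a) (b := b) (c := c) (d := x) (e := y) (f := z))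
      omega)
    have hd : Dist3 (o 0) (o 1) (o 2) := ⟨ho.ne (by decide), ho.ne (by decide), ho.ne (by decide)⟩
    have key : ∀ p q r : α, Dist3 p q r → ({p, q, r} : Finset α) ⊆ {a, b, c, x, y, z} → F p q r = F (o 0) (o 1) (o 2) := by
      intro p q r hpqr hsub
      have hout : ∀ i ∈ ({o 0, o 1, o 2} : Finset α), i ∉ ({p, q, r} : Finset α) := by
        intro i hi hi'
        simp only [Finset.mem_insert, Finset.mem_singleton] at hi
        rcases hi with rfl | rfl | rfl <;> exact hoo _ (hsub hi')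
      exact le_antisymm (hFle _ _ _ _ _ _ hpqr hd hout)
        (hFle _ _ _ _ _ _ hd hpqr fun i hi hi' => hout i hi' hi)
    rw [key a b c h (by intro i; simp; tauto), key x y z h' (by intro i; simp; tauto)]
  obtain ⟨o, ho, -⟩ := exists_outside (∅ : Finset α) (j := 11) (by simp; omega)
  have one : ∀ i j : Fin 11, i ≠ j → o i ≠ o j := fun i j h => ho.ne h
  have hD : ∀ c : Fin 9, Dist3 (o 0) (o 1) (o ⟨c.val + 2, by omega⟩) := fun c =>
    ⟨one _ _ (by decide), one _ _ (Fin.ne_of_val_ne (by simp)), one _ _ (Fin.ne_of_val_ne (by simp))⟩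
  set F0 := F (o 0) (o 1) (o 2) with hF0
  have hT : ∀ c : Fin 9, F (o 0) (o 1) (o ⟨c.val + 2, by omega⟩) = F0 := fun c =>
    hFeq _ _ _ _ _ _ (hD c) (hD 0)
  let T : Fin 9 → Module.End k V := fun c => R (c3 (o 0) (o 1) (o ⟨c.val + 2, by omega⟩))
  have hTF : ∀ c, F0 ≤ F0.comap (T c) := fun c v hv => by
    rw [Submodule.mem_comap]
    rw [← hT c, hF] at hv
    show R (c3 (o 0) (o 1) (o ⟨c.val + 2, _⟩)) v ∈ F0
    rw [hv, ← hT c, hF]
    exact hv
  let X : Fin 9 → Module.End k (V ⧸ F0) := fun c => F0.mapQ F0 (T c) (hTF c)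
  have hX3 : ∀ c, X c * X c + X c + 1 = 0 := fun c => by
    refine Submodule.linearMap_qext _ (LinearMap.ext fun v => ?_)
    show (Submodule.Quotient.mk (T c (T c v)) : V ⧸ F0) + Submodule.Quotient.mk (T c v) + Submodule.Quotient.mk v = 0
    rw [← Submodule.Quotient.mk_add, ← Submodule.Quotient.mk_add, Submodule.Quotient.mk_eq_zero, ← hT c, hF,
      map_add, map_add, show T c (T c (T c v)) = v from hR.c3_apply_cube (hD c).1 (hD c).2.1 (hD c).2.2 v]
    abel
  have hXinv : ∀ c, (X c + 1) * X c = 1 ∧ X c * (X c + 1) = 1 := fun c => by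
    have hdd : ∀ e : Module.End k (V ⧸ F0), e + e = 0 := fun e => by rw [← two_smul k e, h2, zero_smul]
    have h1 : X c * X c + X c = 1 := by
      rw [eq_neg_of_add_eq_zero_left (hX3 c), neg_eq_of_add_eq_zero_left (hdd 1)]
    exact ⟨by rw [add_mul, one_mul, h1], by rw [mul_add, mul_one, h1]⟩
  have hinvol : ∀ c d, c ≠ d → X c * X d * (X c * X d) = 1 := fun c d hcd => by
    refine Submodule.linearMap_qext _ (LinearMap.ext fun v => ?_)
    show (Submodule.Quotient.mk (T c (T d (T c (T d v)))) : V ⧸ F0) = Submodule.Quotient.mk v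
    congr 1
    have hc := sign_c3 (hD c).1 (hD c).2.2
    have hd := sign_c3 (hD d).1 (hD d).2.2
    have hcd' : sign (c3 (o 0) (o 1) (o ⟨c.val + 2, by omega⟩) * c3 (o 0) (o 1) (o ⟨d.val + 2, by omega⟩)) = 1 := by
      rw [map_mul, hc, hd, one_mul]
    rw [show ∀ u, T c (T d u) = R (c3 (o 0) (o 1) (o ⟨c.val + 2, by omega⟩) * c3 (o 0) (o 1) (o ⟨d.val + 2, by omega⟩)) u
      from fun u => by rw [hR.2 _ _ hc hd]; rfl]
    rw [show T c (T d v) = R (c3 (o 0) (o 1) (o ⟨c.val + 2, by omega⟩) * c3 (o 0) (o 1) (o ⟨d.val + 2, by omega⟩)) v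
      from by rw [hR.2 _ _ hc hd]; rfl]
    rw [← Module.End.mul_apply, ← hR.2 _ _ hcd' hcd']
    have e1 : o 0 ≠ o 1 := one _ _ (by decide)
    obtain ⟨-, p1, p2⟩ := hD c
    obtain ⟨-, q1, q2⟩ := hD d
    have e2 : o ⟨c.val + 2, by omega⟩ ≠ o ⟨d.val + 2, by omega⟩ :=
      one _ _ (Fin.ne_of_val_ne (by simp; exact fun e => hcd (Fin.ext e)))
    generalize o ⟨c.val + 2, by omega⟩ = p at p1 p2 e2 ⊢
    generalize o ⟨d.val + 2, by omega⟩ = q at q1 q2 e2 ⊢
    generalize o 0 = a at e1 p1 q1 ⊢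
    generalize o 1 = b at e1 p2 q2 ⊢
    rw [show c3 a b p * c3 a b q = swap a p * swap b q by
      refine Equiv.ext fun i => ?_
      simp only [c3, Perm.mul_apply, swap_apply_def]
      split_ifs <;> simp_all,
      ss_sq e1 q1 p2.symm e2, hR.1, Module.End.one_apply]
  have hanti : ∀ c d, c ≠ d → X c * X d + X d * X c = X c + X d + 1 := fun c d hcd => by
    have h1 : X c * X d = (X d + 1) * (X c + 1) := by
      have h := congrArg (fun e => e * ((X d + 1) * (X c + 1))) (hinvol c d hcd)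
      have e : X c * X d * ((X d + 1) * (X c + 1)) = 1 := by
        rw [mul_assoc, ← mul_assoc (X d), (hXinv d).2, one_mul, (hXinv c).2]
      rw [mul_assoc (X c * X d), e, mul_one, one_mul] at h
      exact h
    have hdd : X d * X c + X d * X c = 0 := by rw [← two_smul k (X d * X c), h2, zero_smul]
    rw [h1]
    calc (X d + 1) * (X c + 1) + X d * X c = (X d * X c + X d * X c) + (X c + X d + 1) := by noncomm_ring
      _ = _ := by rw [hdd, zero_add]
  haveI : Nontrivial (V ⧸ F0) := by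
    refine Submodule.Quotient.nontrivial_iff.2 fun htop => ?_
    have h0 := hF1 _ _ _ (hD 0)
    rw [hT 0, htop, finrank_top] at h0
    have := two_mul_le hR h2 hw (by omega) (hD 0)
    have := h4 _ _ _ (hD 0)
    omega
  let N : Fin (2 * 4) → Module.End k (V ⧸ F0) := fun i => X ⟨i.val + 1, by omega⟩ + X 0 + 1
  have hne0 : ∀ i : Fin (2 * 4), (⟨i.val + 1, by omega⟩ : Fin 9) ≠ 0 := fun i => Fin.ne_of_val_ne (by simp)
  have hdd : ∀ e : Module.End k (V ⧸ F0), e + e = 0 := fun e => by rw [← two_smul k e, h2, zero_smul]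
  have hsq : ∀ c, X c * X c = X c + 1 := fun c => by
    have h := hX3 c
    rw [add_assoc] at h
    rw [eq_neg_of_add_eq_zero_left h, neg_eq_of_add_eq_zero_left (hdd _)]
  have hNsq : ∀ i, N i * N i = 0 := fun i => by
    have h := hanti _ _ (hne0 i)
    simp only [N]
    set x := X ⟨i.val + 1, by omega⟩
    calc (x + X 0 + 1) * (x + X 0 + 1) = x * x + X 0 * X 0 + (x * X 0 + X 0 * x) + (x + x) + (X 0 + X 0) + 1 := by
          noncomm_ring
      _ = (x + 1) + (X 0 + 1) + (x + X 0 + 1) + 0 + 0 + 1 := by rw [h, hsq, hsq, hdd, hdd]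
      _ = (x + x) + (X 0 + X 0) + ((1 + 1) + (1 + 1)) := by abel
      _ = 0 := by simp only [hdd, add_zero]
  have hNanti : ∀ i j, i ≠ j → N i * N j + N j * N i = 1 := fun i j hij => by
    have h := hanti ⟨i.val + 1, by omega⟩ ⟨j.val + 1, by omega⟩
      (Fin.ne_of_val_ne (by simp; exact fun e => hij (Fin.ext e)))
    have hi := hanti _ _ (hne0 i)
    have hj := hanti _ _ (hne0 j)
    simp only [N]
    set x := X ⟨i.val + 1, by omega⟩
    set y := X ⟨j.val + 1, by omega⟩
    calc (x + X 0 + 1) * (y + X 0 + 1) + (y + X 0 + 1) * (x + X 0 + 1) =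
          (x * y + y * x) + (x * X 0 + X 0 * x) + (y * X 0 + X 0 * y) + (X 0 * X 0 + X 0 * X 0) +
            (x + x) + (y + y) + (X 0 + X 0) + (X 0 + X 0) + (1 + 1) := by noncomm_ring
      _ = (x + y + 1) + (x + X 0 + 1) + (y + X 0 + 1) := by
          rw [h, hi, hj]; simp only [hdd, add_zero]
      _ = (x + x) + (y + y) + (X 0 + X 0) + (1 + 1) + 1 := by abel
      _ = 1 := by simp only [hdd, add_zero, zero_add]
  have h16 := car_bound h2 4 (V ⧸ F0) N hNsq hNanti
  have := Submodule.finrank_quotient_add_finrank F0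
  norm_num at h16
  omega

end Small

theorem two_main {k : Type w} [Field k] [CharP k 2] {w : k} (hw : w * w + w + 1 = 0) :
    ∀ (r : ℕ) (α : Type u) [Fintype α] [DecidableEq α] (V : Type v) [AddCommGroup V] [Module k V]
      [FiniteDimensional k V] (R : Perm α → Module.End k V), Fintype.card α = r → IsRep R → Nontriv R → 9 ≤ r →
        r - 1 - (if 2 ∣ r then 1 else 0) ≤ finrank k V := by
  classical
  have h2 : (2 : k) = 0 := by exact_mod_cast CharP.cast_eq_zero k 2
  obtain ⟨-, hw1, -, -, -⟩ := omega_ne h2 hw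
  intro r
  induction r using Nat.strong_induction_on with
  | _ r ih =>
  intro α _ _ V _ _ _ R hcard hR hnt hr
  obtain ⟨o, ho, -⟩ := exists_outside (∅ : Finset α) (j := 3) (by simp; omega)
  have hd0 : Dist3 (o 0) (o 1) (o 2) := ⟨ho.ne (by decide), ho.ne (by decide), ho.ne (by decide)⟩
  set d := finrank k (Wsp R (o 0) (o 1) (o 2) w) with hd
  have hdim : ∀ a b c : α, Dist3 a b c → finrank k (Wsp R a b c w) = d := fun a b c h =>
    (finrank_Wsp_eq hR h2 hw (by omega) hd0 h).1
  have hd1 : 1 ≤ d := by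
    rw [Nat.one_le_iff_ne_zero, hd, Ne, Submodule.finrank_eq_zero]
    exact Wsp_ne_bot hR h2 hw (by omega) hnt hd0
  have h2d := two_mul_le hR h2 hw (by omega) hd0
  rw [← hd] at h2d
  by_cases hA : ∃ a b c, Dist3 a b c ∧ ∃ v ∈ Wsp R a b c w, ∃ x y z, Dist3 x y z ∧
      (∀ i ∈ ({x, y, z} : Finset α), i ∉ ({a, b, c} : Finset α)) ∧ R (c3 x y z) v ≠ v
  · obtain ⟨a, b, c, h, v, hv, x, y, z, h', hout, hmove⟩ := hA
    have hc3 : ({a, b, c} : Finset α).card = 3 := Finset.card_eq_three.2 ⟨a, b, c, h.1, h.2.1, h.2.2, rfl⟩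
    rcases Nat.lt_or_ge r 12 with hr12 | hr12
    · have hd4 : 4 ≤ d := by
        obtain ⟨q, hq, hqo⟩ := exists_outside ({a, b, c, x, y, z} : Finset α) (j := 3) (by
          have := (Finset.card_le_six (a := a) (b := b) (c := c) (d := x) (e := y) (f := z))
          omega)
        have hqo' : ∀ i, q i ≠ a ∧ q i ≠ b ∧ q i ≠ c ∧ q i ≠ x ∧ q i ≠ y ∧ q i ≠ z := fun i => by simpa using hqo i
        obtain ⟨h1, h2', h3⟩ := h
        obtain ⟨k1, k2, k3⟩ := h'
        have px := hout x (by simp)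
        have py := hout y (by simp)
        have pz := hout z (by simp)
        simp only [Finset.mem_insert, Finset.mem_singleton, not_or] at px py pz
        have := four_le hR h2 hw ![a, b, c, x, y, z, q 0, q 1, q 2] (by
          intro i j; fin_cases i <;> fin_cases j <;>
            simp [h1, h2', h3, k1, k2, k3, Ne.symm h1, Ne.symm h2', Ne.symm h3, Ne.symm k1, Ne.symm k2, Ne.symm k3,
              px, py, pz, Ne.symm px.1, Ne.symm px.2.1, Ne.symm px.2.2, Ne.symm py.1, Ne.symm py.2.1, Ne.symm py.2.2,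
              Ne.symm pz.1, Ne.symm pz.2.1, Ne.symm pz.2.2, hqo', fun i => Ne.symm (hqo' i).1,
              fun i => Ne.symm (hqo' i).2.1, fun i => Ne.symm (hqo' i).2.2.1, fun i => Ne.symm (hqo' i).2.2.2.1,
              fun i => Ne.symm (hqo' i).2.2.2.2.1, fun i => Ne.symm (hqo' i).2.2.2.2.2,
              hq.eq_iff]) hv hmove
        rw [← hdim a b c ⟨h1, h2', h3⟩]
        exact this
      by_cases hr11 : r = 11
      · subst hr11
        have := eleven hR h2 hw hcard fun a b c h => (hdim a b c h).symm ▸ hd4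
        rw [if_neg (by decide)]
        omega
      · split_ifs <;> omega
    · have hinv : ∀ σ, sign σ = 1 → ∀ u ∈ Wsp R a b c w, offRep R {a, b, c} σ u ∈ Wsp R a b c w := by
        intro σ hσ u hu
        have := Wsp_map hR h (g := ofSubtype σ) (by rw [sign_ofSubtype]; exact hσ) hu
        rwa [ofSubtype_fix _ σ (by simp), ofSubtype_fix _ σ (by simp), ofSubtype_fix _ σ (by simp)] at this
      have hnt' : Nontriv (restr (offRep R {a, b, c}) (Wsp R a b c w)) := by
        let X : Off ({a, b, c} : Finset α) := ⟨x, hout x (by simp)⟩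
        let Y : Off ({a, b, c} : Finset α) := ⟨y, hout y (by simp)⟩
        let Z : Off ({a, b, c} : Finset α) := ⟨z, hout z (by simp)⟩
        have hs : sign (c3 X Y Z) = 1 := sign_c3 (fun e => h'.1 (congrArg Subtype.val e))
          (fun e => h'.2.2 (congrArg Subtype.val e))
        refine ⟨c3 X Y Z, hs, fun e => hmove ?_⟩
        have := congrArg Subtype.val (LinearMap.congr_fun e ⟨v, hv⟩)
        rw [restr_apply (hinv _ hs), offRep, ofSubtype_c3] at this
        exact this
      have hih := ih (r - 3) (by omega) (Off ({a, b, c} : Finset α)) (Wsp R a b c w) _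
        (by rw [card_off, hc3, hcard]) ((hR.offRep _).restr hinv) hnt' (by omega)
      rw [hdim a b c h] at hih
      split_ifs at hih ⊢ <;> omega
  · push Not at hA
    have hfix : ∀ a b c, Dist3 a b c → ∀ v ∈ Wsp R a b c w, FixedOff R {a, b, c} v :=
      fun a b c h v hv x y z hx hy hz hxy hxz hyz => hA a b c h v hv x y z ⟨hxy, hxz, hyz⟩ (by
        intro i hi
        simp only [Finset.mem_insert, Finset.mem_singleton] at hi
        rcases hi with rfl | rfl | rfl <;> assumption)
    by_cases hd2 : 2 ≤ d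
    · set q := r / 3 with hq
      let e := Fintype.equivFin α
      let B : Fin q → Fin 3 → α := fun i j => e.symm ⟨3 * i.val + j.val, by omega⟩
      have hBne : ∀ i j i' j', (i ≠ i' ∨ j ≠ j') → B i j ≠ B i' j' := by
        intro i j i' j' h heq
        have h3 : 3 * i.val + j.val = 3 * i'.val + j'.val := by
          have := congrArg Fin.val (e.symm.injective heq); simpa using this
        rcases h with h | h
        · exact h (Fin.ext (by omega))
        · exact h (Fin.ext (by omega))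
      have hBd : ∀ i, Dist3 (B i 0) (B i 1) (B i 2) := fun i =>
        ⟨hBne _ _ _ _ (Or.inr (by decide)), hBne _ _ _ _ (Or.inr (by decide)), hBne _ _ _ _ (Or.inr (by decide))⟩
      let U : Fin q → Submodule k V := fun i => Usp R (B i 0) (B i 1) (B i 2) w
      let D : Fin q → Module.End k V := fun i => R (c3 (B i 0) (B i 1) (B i 2)) - 1
      have hUfix : ∀ i, ∀ u ∈ U i, FixedOff R {B i 0, B i 1, B i 2} u := by
        intro i u hu
        obtain ⟨y, hy, z, hz, rfl⟩ := Submodule.mem_sup.1 hu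
        rw [Wsp_inv hR h2 hw (hBd i).swap] at hz
        have f1 := hfix _ _ _ (hBd i) y hy
        have f2 := hfix _ _ _ (hBd i).swap z hz
        intro x y' z' hx hy' hz' h1 h2' h3
        rw [map_add, f1 x y' z' hx hy' hz' h1 h2' h3,
          f2 x y' z' (by simpa [or_left_comm, and_left_comm] using hx) (by simpa [or_left_comm, and_left_comm] using hy')
            (by simpa [or_left_comm, and_left_comm] using hz') h1 h2' h3]
      have hU2 : ∀ i, 2 * d ≤ finrank k (U i) := by
        intro i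
        have := finrank_three_le (W := U i) (A := (⊥ : Submodule k V)) (B := Wsp R (B i 0) (B i 1) (B i 2) w)
          (C := Wsp R (B i 0) (B i 1) (B i 2) (w + 1)) bot_le le_sup_left le_sup_right (fun x hx => by
            rw [Submodule.mem_bot] at hx; subst hx
            exact Wsp_disjoint h2 hw 0 (map_zero _))
        rw [finrank_bot, hdim _ _ _ (hBd i), Wsp_inv hR h2 hw (hBd i).swap, hdim _ _ _ (hBd i).swap] at this
        omega
      have hkill : ∀ i j, i ≠ j → ∀ u ∈ U j, D i u = 0 := by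
        intro i j hij u hu
        have hn : ∀ s, B i s ∉ ({B j 0, B j 1, B j 2} : Finset α) := fun s => by
          simp only [Finset.mem_insert, Finset.mem_singleton, not_or]
          exact ⟨hBne _ _ _ _ (Or.inl hij), hBne _ _ _ _ (Or.inl hij), hBne _ _ _ _ (Or.inl hij)⟩
        show R (c3 (B i 0) (B i 1) (B i 2)) u - u = 0
        rw [hUfix j u hu _ _ _ (hn 0) (hn 1) (hn 2) (hBd i).1 (hBd i).2.1 (hBd i).2.2, sub_self]
      have hinjU : ∀ i, ∀ u ∈ U i, D i u = 0 → u = 0 := by
        intro i u hu h0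
        obtain ⟨y, hy, z, hz, rfl⟩ := Submodule.mem_sup.1 hu
        have hfx : R (c3 (B i 0) (B i 1) (B i 2)) (y + z) = y + z := sub_eq_zero.1 h0
        have := Wsp_disjoint h2 hw (-(y + z)) (by rw [map_neg, hfx]) y hy z hz (by abel)
        simp [this.2.1, this.2.2]
      have hsum := finrank_sum_le U D hU2 hkill hinjU
      have h4 : q * 4 ≤ finrank k V := le_trans (Nat.mul_le_mul_left q (show 4 ≤ 2 * d by omega)) hsum
      split_ifs <;> omega
    · have := two_pipeline 2 hR h2 hw (by omega) hfix (fun a b c h => by rw [hdim a b c h]; omega)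
      rwa [hcard] at this

end CfsgLib.KnownC.AltSec
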