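import Mathlib

/-!
Three cycles, even maps between small tuples, and representations of the even permutations given as
functions on all permutations.
-/

set_option autoImplicit false

namespace CfsgLib.KnownC.AltSec

open Equiv Equiv.Perm

variable {α : Type*} [Fintype α] [DecidableEq α]

/-- The three cycle sending `x` to `y` to `z`. -/
def c3 (x y z : α) : Perm α := swap x y * swap y z

theorem sign_c3 {x y z : α} (hxy : x ≠ y) (hyz : y ≠ z) : sign (c3 x y z) = 1 := by
  rw [c3, map_mul, sign_swap hxy, sign_swap hyz]; rfl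

theorem c3_conj (g : Perm α) (x y z : α) : g * c3 x y z * g⁻¹ = c3 (g x) (g y) (g z) := by
  rw [c3, c3, swap_apply_apply, swap_apply_apply]; group

theorem c3_fst {x y z : α} (hxy : x ≠ y) (hxz : x ≠ z) : c3 x y z x = y := by
  simp [c3, swap_apply_of_ne_of_ne hxy hxz]

theorem c3_snd {x y z : α} (hxz : x ≠ z) (hyz : y ≠ z) : c3 x y z y = z := by
  simp [c3, swap_apply_of_ne_of_ne hxz.symm hyz.symm]

theorem c3_thd (x y z : α) : c3 x y z z = x := by simp [c3]

theorem c3_other {x y z w : α} (h1 : w ≠ x) (h2 : w ≠ y) (h3 : w ≠ z) : c3 x y z w = w := by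
  simp [c3, swap_apply_of_ne_of_ne h2 h3, swap_apply_of_ne_of_ne h1 h2]

theorem c3_rot {x y z : α} (h1 : x ≠ y) (h2 : x ≠ z) (h3 : y ≠ z) : c3 x y z = c3 y z x := by
  calc c3 x y z = c3 x y z * c3 x y z * (c3 x y z)⁻¹ := by group
    _ = _ := by rw [c3_conj, c3_fst h1 h2, c3_snd h2 h3, c3_thd]

/-- An even permutation carrying one small tuple to another. -/
theorem exists_even_map {m : ℕ} (f g : Fin m → α) (hf : Function.Injective f) (hg : Function.Injective g)
    (hm : m + 2 ≤ Fintype.card α) : ∃ σ : Perm α, sign σ = 1 ∧ ∀ i, σ (f i) = g i := by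
  obtain ⟨σ, hσ⟩ := Equiv.Perm.exists_extending_pair f g hf hg
  rcases Int.units_eq_one_or (sign σ) with h | h
  · exact ⟨σ, h, hσ⟩
  obtain ⟨k, hk, l, hl, hkl⟩ := Finset.one_lt_card.mp
    (show 1 < (Finset.univ.image g)ᶜ.card by
      rw [Finset.card_compl, Finset.card_image_of_injective _ hg, Finset.card_univ, Fintype.card_fin]
      omega)
  simp only [Finset.mem_compl, Finset.mem_image, Finset.mem_univ, true_and, not_exists] at hk hl
  refine ⟨swap k l * σ, by rw [map_mul, sign_swap hkl, h]; rfl, fun i => ?_⟩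
  rw [Perm.mul_apply, hσ i, swap_apply_of_ne_of_ne (hk i) (hl i)]

theorem exists_outside (S : Finset α) {j : ℕ} (h : S.card + j ≤ Fintype.card α) :
    ∃ f : Fin j → α, Function.Injective f ∧ ∀ i, f i ∉ S := by
  have hc : Fintype.card (Fin j) ≤ Fintype.card {x // x ∈ Sᶜ} := by
    rw [Fintype.card_coe, Finset.card_compl, Fintype.card_fin]; omega
  obtain ⟨e⟩ := Function.Embedding.nonempty_of_card_le hc
  exact ⟨fun i => (e i).1, fun a b hab => e.injective (Subtype.ext hab), fun i =>
    Finset.mem_compl.1 (e i).2⟩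

section Rep

variable {k : Type*} [Field k] {V : Type*} [AddCommGroup V] [Module k V]

/-- A representation of the even permutations, given on all permutations. -/
def IsRep (R : Perm α → Module.End k V) : Prop :=
  R 1 = 1 ∧ ∀ σ τ, sign σ = 1 → sign τ = 1 → R (σ * τ) = R σ * R τ

/-- Fixed by all three cycles avoiding a set. -/
def FixedOff (R : Perm α → Module.End k V) (S : Finset α) (v : V) : Prop :=
  ∀ x y z, x ∉ S → y ∉ S → z ∉ S → x ≠ y → x ≠ z → y ≠ z → R (c3 x y z) v = v

variable {R : Perm α → Module.End k V}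

theorem FixedOff.mono {S T : Finset α} {v : V} (h : FixedOff R S v) (hST : S ⊆ T) : FixedOff R T v :=
  fun x y z hx hy hz => h x y z (fun hh => hx (hST hh)) (fun hh => hy (hST hh)) (fun hh => hz (hST hh))

theorem IsRep.inv_apply (hR : IsRep R) {σ : Perm α} (hσ : sign σ = 1) (v : V) : R σ⁻¹ (R σ v) = v := by
  rw [← Module.End.mul_apply, ← hR.2 _ _ (by rw [map_inv, hσ, inv_one]) hσ, inv_mul_cancel, hR.1,
    Module.End.one_apply]

theorem IsRep.apply_inv (hR : IsRep R) {σ : Perm α} (hσ : sign σ = 1) (v : V) : R σ (R σ⁻¹ v) = v := by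
  have := hR.inv_apply (σ := σ⁻¹) (by rw [map_inv, hσ, inv_one]) v
  rwa [inv_inv] at this

theorem IsRep.injective (hR : IsRep R) {σ : Perm α} (hσ : sign σ = 1) : Function.Injective (R σ) :=
  Function.LeftInverse.injective (hR.inv_apply hσ)

theorem IsRep.comm_apply (hR : IsRep R) {σ τ : Perm α} (hσ : sign σ = 1) (hτ : sign τ = 1)
    (h : Commute σ τ) (v : V) : R σ (R τ v) = R τ (R σ v) := by
  rw [← Module.End.mul_apply, ← Module.End.mul_apply, ← hR.2 _ _ hσ hτ, ← hR.2 _ _ hτ hσ, h.eq]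

theorem IsRep.conj_apply (hR : IsRep R) {σ τ : Perm α} (hσ : sign σ = 1) (hτ : sign τ = 1) (v : V) :
    R (σ * τ * σ⁻¹) (R σ v) = R σ (R τ v) := by
  have h1 : sign (σ * τ) = 1 := by rw [map_mul, hσ, hτ, one_mul]
  rw [hR.2 _ _ h1 (by rw [map_inv, hσ, inv_one]), hR.2 _ _ hσ hτ, Module.End.mul_apply, Module.End.mul_apply,
    hR.inv_apply hσ]

/-- Joining two regions overlapping in at least two points. -/
theorem FixedOff.join (hR : IsRep R) {S T : Finset α} {v : V} (hS : FixedOff R S v) (hT : FixedOff R T v)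
    (hcard : (S ∪ T).card + 2 ≤ Fintype.card α) : FixedOff R (S ∩ T) v := by
  obtain ⟨f, hf, hfS⟩ := exists_outside (S ∪ T) hcard
  simp only [Finset.mem_union, not_or] at hfS
  set a := f 0
  set b := f 1
  have hab : a ≠ b := fun h => absurd (hf h) (by decide)
  have haS := (hfS 0).1
  have haT := (hfS 0).2
  have hbS := (hfS 1).1
  have hbT := (hfS 1).2
  have g1 : ∀ i, i ∉ S ∩ T → i ≠ a → i ≠ b → R (c3 a b i) v = v := by
    intro i hi hia hib
    rw [Finset.mem_inter, not_and_or] at hi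
    rcases hi with hi | hi
    · exact hS a b i haS hbS hi hab hia.symm hib.symm
    · exact hT a b i haT hbT hi hab hia.symm hib.symm
  have hconj : ∀ g t : Perm α, sign g = 1 → sign t = 1 → R g v = v → R t v = v →
      R (g * t * g⁻¹) v = v := by
    intro g t hg ht h1 h2
    conv_lhs => rw [← h1]
    rw [hR.conj_apply hg ht, h2, h1]
  -- a second stage: cycles through one of the two points
  have g2 : ∀ i j, i ∉ S ∩ T → j ∉ S ∩ T → i ≠ a → j ≠ a → i ≠ b → j ≠ b → i ≠ j →
      R (c3 b i j) v = v := by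
    intro i j hi hj hia hja hib hjb hij
    have := hconj _ _ (sign_c3 hab hib.symm) (sign_c3 hab hjb.symm) (g1 i hi hia hib) (g1 j hj hja hjb)
    rwa [c3_conj, c3_fst hab hia.symm, c3_snd hia.symm hib.symm, c3_other hja hjb hij.symm] at this
  have g3 : ∀ i j l, i ∉ S ∩ T → j ∉ S ∩ T → l ∉ S ∩ T → i ≠ a → j ≠ a → l ≠ a → i ≠ b → j ≠ b → l ≠ b →
      i ≠ j → i ≠ l → j ≠ l → R (c3 i j l) v = v := by
    intro i j l hi hj hl hia hja hla hib hjb hlb hij hil hjl
    have := hconj _ _ (sign_c3 hab hib.symm) (sign_c3 hjb.symm hjl) (g1 i hi hia hib)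
      (g2 j l hj hl hja hla hjb hlb hjl)
    rwa [c3_conj, c3_snd hia.symm hib.symm, c3_other hja hjb hij.symm, c3_other hla hlb hil.symm] at this
  have rev : ∀ {x y z : α}, x ≠ y → x ≠ z → y ≠ z → R (c3 x y z) v = v → R (c3 x z y) v = v := by
    intro x y z h1 h2 h3 h
    have he : (c3 x y z)⁻¹ = c3 x z y := by
      rw [c3, c3, mul_inv_rev, swap_inv, swap_inv]
      refine Equiv.ext fun w => ?_
      simp only [Perm.mul_apply, swap_apply_def]
      split_ifs <;> simp_all
    rw [← he]
    conv_lhs => rw [← h]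
    exact hR.inv_apply (sign_c3 h1 h3) v
  -- all cycles through the first point
  have g2' : ∀ i j, i ∉ S ∩ T → j ∉ S ∩ T → i ≠ a → j ≠ a → i ≠ b → j ≠ b → i ≠ j →
      R (c3 a i j) v = v := by
    intro i j hi hj hia hja hib hjb hij
    have := hconj _ _ (sign_c3 hja.symm hjb) (sign_c3 hab hib.symm)
      (rev hab hja.symm hjb.symm (g1 j hj hja hjb)) (g1 i hi hia hib)
    rwa [c3_conj, c3_fst hja.symm hab, c3_thd, c3_other hia hij hib,
      c3_rot hja hij.symm hia.symm] at this
  intro x y z hx hy hz hxy hxz hyz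
  have main : ∀ u w s, u ∉ S ∩ T → w ∉ S ∩ T → s ∉ S ∩ T → u ≠ w → u ≠ s → w ≠ s → (u = a ∨ u = b) →
      R (c3 u w s) v = v := by
    intro u w s hu hw hs h1 h2 h3 hor
    rcases hor with rfl | rfl
    · by_cases hwb : w = b
      · subst hwb; exact g1 s hs h2.symm h3.symm
      by_cases hsb : s = b
      · subst hsb; exact rev h2 h1 h3.symm (g1 w hw h1.symm hwb)
      exact g2' w s hw hs h1.symm h2.symm hwb hsb h3
    · by_cases hwa : w = a
      · subst hwa
        rw [c3_rot h1 h2 h3]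
        exact rev h1.symm h3 h2 (g1 s hs h3.symm h2.symm)
      by_cases hsa : s = a
      · subst hsa
        rw [c3_rot h1 h2 h3, c3_rot h3 h1.symm h2.symm]
        exact g1 w hw h3 h1.symm
      exact g2 w s hw hs hwa hsa h1.symm h2.symm h3
  by_cases hx' : x = a ∨ x = b
  · exact main _ _ _ hx hy hz hxy hxz hyz hx'
  by_cases hy' : y = a ∨ y = b
  · rw [c3_rot hxy hxz hyz]; exact main _ _ _ hy hz hx hyz hxy.symm hxz.symm hy'
  by_cases hz' : z = a ∨ z = b
  · rw [c3_rot hxy hxz hyz, c3_rot hyz hxy.symm hxz.symm]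
    exact main _ _ _ hz hx hy hxz.symm hyz.symm hxy hz'
  push Not at hx' hy' hz'
  exact g3 x y z hx hy hz hx'.1 hy'.1 hz'.1 hx'.2 hy'.2 hz'.2 hxy hxz hyz

/-- Passing from three cycles to even permutations of a region. -/
theorem FixedOff.apply_eq (hR : IsRep R) {S : Finset α} {v : V} (hS : FixedOff R S v) {σ : Perm α}
    (hσ : sign σ = 1) (hsupp : ∀ x ∈ S, σ x = x) : R σ v = v := by
  have hp : ∀ x, x ∉ S ↔ σ x ∉ S := fun x => by
    refine not_congr ⟨fun h => by rwa [hsupp x h], fun h => ?_⟩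
    rwa [σ.injective (hsupp _ h)] at h
  have hsub : ∀ x, σ x ≠ x → x ∉ S := fun x hx h => hx (hsupp x h)
  have e : ofSubtype (σ.subtypePerm (fun x => (hp x).symm)) = σ := ofSubtype_subtypePerm _ hsub
  have hmem : σ.subtypePerm (fun x => (hp x).symm) ∈ alternatingGroup {w // w ∉ S} := by
    rw [mem_alternatingGroup, ← sign_ofSubtype, e]; exact hσ
  rw [← closure_three_cycles_eq_alternating] at hmem
  rw [← e]
  suffices ∀ r ∈ Subgroup.closure {r : Perm {w // w ∉ S} | r.IsThreeCycle},
      sign (ofSubtype r) = 1 ∧ R (ofSubtype r) v = v from (this _ hmem).2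
  intro r hr
  induction hr using Subgroup.closure_induction with
  | mem r hr =>
    refine ⟨by rw [sign_ofSubtype]; exact hr.sign, ?_⟩
    obtain ⟨x, y, z, hxy, hxz, hyz, rfl⟩ : ∃ x y z, x ≠ y ∧ x ≠ z ∧ y ≠ z ∧ r = c3 x y z := by
      obtain ⟨x, hx⟩ : r.support.Nonempty := by rw [← Finset.card_pos, hr.card_support]; norm_num
      have hx1 : r x ≠ x := mem_support.mp hx
      have h3 : ∀ w, r (r (r w)) = w := fun w => by
        have := Perm.congr_fun (hr.orderOf ▸ pow_orderOf_eq_one r : r ^ 3 = 1) w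
        rwa [pow_succ, pow_two] at this
      have hx2 : r (r x) ≠ x := fun e => hx1 (by conv_rhs => rw [← h3 x]; rw [e])
      have hx3 : r x ≠ r (r x) := fun e => hx1 (r.injective e).symm
      refine ⟨x, r x, r (r x), Ne.symm hx1, Ne.symm hx2, hx3, Equiv.ext fun w => ?_⟩
      by_cases h1 : w = x
      · subst h1; rw [c3_fst (Ne.symm hx1) (Ne.symm hx2)]
      by_cases h2 : w = r x
      · subst h2; rw [c3_snd (Ne.symm hx2) hx3]
      by_cases h4 : w = r (r x)
      · subst h4; rw [c3_thd, h3]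
      rw [c3_other h1 h2 h4]
      by_contra hw
      have hsub' : ({x, r x, r (r x), w} : Finset {w // w ∉ S}) ⊆ r.support := by
        intro u hu
        simp only [Finset.mem_insert, Finset.mem_singleton] at hu
        rw [mem_support]
        rcases hu with rfl | rfl | rfl | rfl
        exacts [hx1, fun e => hx1 (r.injective e), fun e => hx1 (r.injective (r.injective e)), hw]
      have := Finset.card_le_card hsub'
      rw [hr.card_support] at this
      simp [Ne.symm hx1, Ne.symm hx2, hx3, Ne.symm h1, Ne.symm h2, Ne.symm h4] at this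
    rw [show ofSubtype (c3 x y z) = c3 (x : α) y z by
      simp [c3, map_mul, ofSubtype_swap_eq]]
    exact hS _ _ _ x.2 y.2 z.2 (Subtype.coe_injective.ne hxy) (Subtype.coe_injective.ne hxz)
      (Subtype.coe_injective.ne hyz)
  | one => exact ⟨by simp, by rw [map_one, hR.1, Module.End.one_apply]⟩
  | mul r r' _ _ h h' =>
    refine ⟨by rw [map_mul, map_mul, h.1, h'.1, one_mul], ?_⟩
    rw [map_mul, hR.2 _ _ h.1 h'.1, Module.End.mul_apply, h'.2, h.2]
  | inv r _ h =>
    refine ⟨by rw [map_inv, map_inv, h.1, inv_one], ?_⟩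
    rw [map_inv]
    conv_lhs => rw [← h.2]
    exact hR.inv_apply h.1 v

theorem FixedOff.image (hR : IsRep R) {S : Finset α} {v : V} (hS : FixedOff R S v) {g : Perm α}
    (hg : sign g = 1) : FixedOff R (S.image g) (R g v) := by
  intro x y z hx hy hz hxy hxz hyz
  have h : ∀ w, w ∉ S.image g → g⁻¹ w ∉ S := fun w hw h => hw (Finset.mem_image.2 ⟨_, h, by simp⟩)
  have := hS _ _ _ (h x hx) (h y hy) (h z hz) ((g⁻¹ : Perm α).injective.ne hxy)
    ((g⁻¹ : Perm α).injective.ne hxz) ((g⁻¹ : Perm α).injective.ne hyz)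
  have e := hR.conj_apply hg (sign_c3 ((g⁻¹ : Perm α).injective.ne hxy) ((g⁻¹ : Perm α).injective.ne hyz)) v
  rw [c3_conj, this] at e
  simpa using e

end Rep

end CfsgLib.KnownC.AltSec
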