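import Cfsg.Agent.Lib.KnownC.AltSec.SpinEight

/-!
The degree of a spin representation of the alternating group.
-/

set_option autoImplicit false

namespace CfsgLib.KnownC.AltSec

open Equiv Equiv.Perm Module

universe v w

variable {k : Type w} [Field k] {V : Type v} [AddCommGroup V] [Module k V]

theorem finrank_sum_le_within [FiniteDimensional k V] {q e : ℕ} (K : Submodule k V) (U : Fin q → Submodule k V)
    (hUK : ∀ i, U i ≤ K) (D : Fin q → Module.End k V) (hd : ∀ i, e ≤ finrank k (U i))
    (hkill : ∀ i j, i ≠ j → ∀ u ∈ U j, D i u = 0) (hinjU : ∀ i, ∀ u ∈ U i, D i u = 0 → u = 0) :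
    q * e ≤ finrank k K := by
  classical
  let f : (Π i, U i) →ₗ[k] K := LinearMap.codRestrict K (∑ i, (U i).subtype.comp (LinearMap.proj i))
    fun x => by simp only [LinearMap.sum_apply]; exact K.sum_mem fun i _ => hUK i (x i).2
  have hinj : Function.Injective f := by
    rw [injective_iff_map_eq_zero]
    intro x hx
    funext i
    have hx' : ∑ j, ((x j : U j) : V) = 0 := by
      have := congrArg Subtype.val hx
      simpa [f] using this
    have h := congrArg (D i) hx'
    rw [map_sum, map_zero, Finset.sum_eq_single i (fun j _ hj => hkill i j hj.symm _ (x j).2) (by simp)] at h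
    exact Subtype.ext (hinjU i _ (x i).2 h)
  have := LinearMap.finrank_le_finrank_of_injective hinj
  rw [Module.finrank_pi_fintype] at this
  exact le_trans (le_of_eq_of_le (by simp) (Finset.sum_le_sum fun i _ => hd i)) this

theorem neg_one_or (n : ℕ) (hn : Even n) {x y : Module.End k V} (h : x = y ∨ x = -y) : x ^ n = y ^ n := by
  rcases h with rfl | rfl
  · rfl
  · exact hn.neg_pow y

theorem pow_succ_of_pow {n : ℕ} (hn : Even (n + 1)) (x : Module.End k V) (h : x ^ n = 1 ∨ x ^ n = -1) :
    (x = x ^ (n + 1) ∨ x = -(x ^ (n + 1))) ∧ (x ^ (n + 1)) ^ n = 1 := by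
  refine ⟨?_, ?_⟩
  · rcases h with h | h <;> rw [pow_succ, h]
    · exact Or.inl (one_mul x).symm
    · exact Or.inr (by rw [neg_mul, one_mul, neg_neg])
  · rw [← pow_mul, mul_comm, pow_mul, neg_one_or (n + 1) hn h, one_pow]

theorem lift_pow {α : Type*} [Fintype α] [DecidableEq α] {L : Perm α → Module.End k V} (hL : IsSpin L)
    {σ : Perm α} (hσ : sign σ = 1) : ∀ n : ℕ, L (σ ^ n) = L σ ^ n ∨ L (σ ^ n) = -(L σ ^ n) := by
  intro n
  induction n with
  | zero => exact Or.inl (by rw [pow_zero, pow_zero, hL.one])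
  | succ n ih =>
    rw [pow_succ, pow_succ]
    rcases hL.mul (σ ^ n) σ (by rw [map_pow, hσ, one_pow]) hσ with h | h <;> rcases ih with h' | h' <;> rw [h, h']
    · exact Or.inl rfl
    · exact Or.inr (neg_mul _ _)
    · exact Or.inr rfl
    · exact Or.inl (by rw [neg_mul, neg_neg])

theorem semiconj_pow {x a b : Module.End k V} (h : b * x = x * a ∨ b * x = -(x * a)) {n : ℕ} (hn : Even n) :
    x * a ^ n = b ^ n * x := by
  rcases h with h | h
  · exact (show SemiconjBy x a b from h.symm).pow_right n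
  · have := (show SemiconjBy x a (-b) by rw [SemiconjBy, neg_mul, h, neg_neg]).pow_right n
    rwa [hn.neg_pow] at this

theorem scalar_neg {A B : Module.End k V} {c : k} (h : A = -B) (hc : B = c • 1) : A = (-c) • 1 := by
  rw [h, hc, neg_smul]

/-- The last five of ten points. -/
def emb5 : Fin 5 ↪ Fin 10 := Fin.natAddEmb 5

theorem emb5_c3 : (c3 (0 : Fin 5) 1 2).viaFintypeEmbedding emb5 = c3 (5 : Fin 10) 6 7 := by
  decide +kernel

theorem c3_prod_ten : ∀ c c' : Fin 8, c ≠ c' →
    c3 (0 : Fin 10) 1 ⟨c.val + 2, by omega⟩ * c3 0 1 ⟨c'.val + 2, by omega⟩ =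
      swap 0 ⟨c.val + 2, by omega⟩ * swap 1 ⟨c'.val + 2, by omega⟩ := by
  decide +kernel

theorem ten_aux [IsAlgClosed k] [FiniteDimensional k V] [Nontrivial V] (h2 : (2 : k) ≠ 0) (h5 : (5 : k) ≠ 0)
    {L : Perm (Fin 10) → Module.End k V} (hL : IsSpin L) : finrank k V ≠ 8 := by
  intro hn
  let u : Perm (Fin 10) := swap 0 1 * swap 1 2 * (swap 2 3 * swap 3 4)
  let h : Perm (Fin 10) := swap 1 2 * swap 2 4 * (swap 4 3 * swap 5 6)
  have su : sign u = 1 := by decide
  have sh : sign h = 1 := by decide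
  have hu5 : L u ^ 5 = 1 ∨ L u ^ 5 = -1 := by
    rcases lift_pow hL su 5 with e | e <;> rw [show u ^ 5 = 1 by decide +kernel, hL.one] at e
    · exact Or.inl e.symm
    · exact Or.inr (by rw [e, neg_neg])
  obtain ⟨hUsign, hU5⟩ := pow_succ_of_pow (n := 5) (by decide) (L u) hu5
  set U := L u ^ (5 + 1) with hU
  -- conjugation squares
  have hconj : L h * U = U * U * L h := by
    have key : L (h * u * h⁻¹) ^ (5 + 1) = U * U := by
      rw [show h * u * h⁻¹ = u * u by decide +kernel, neg_one_or (5 + 1) (by decide) (hL.mul _ _ su su),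
        (Commute.refl (L u)).mul_pow]
    have := semiconj_pow (hL.conj_mul sh su) (n := 5 + 1) (by decide)
    rwa [key] at this
  -- commutation with the last five points
  have hcomm5 : ∀ σ : Perm (Fin 10), sign σ = 1 → (∀ i : Fin 10, i.val < 5 → σ i = i) → Commute (L σ) U := by
    intro σ hσ hfix
    have h1 := hL.comm_c3 hσ (show (0 : Fin 10) ≠ 1 by decide) (show (0 : Fin 10) ≠ 2 by decide)
      (show (1 : Fin 10) ≠ 2 by decide) (hfix _ (by decide)) (hfix _ (by decide)) (hfix _ (by decide))
    have h3 := hL.comm_c3 hσ (show (2 : Fin 10) ≠ 3 by decide) (show (2 : Fin 10) ≠ 4 by decide)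
      (show (3 : Fin 10) ≠ 4 by decide) (hfix _ (by decide)) (hfix _ (by decide)) (hfix _ (by decide))
    refine Commute.pow_right ?_ _
    rcases hL.mul _ _ (sign_c3 (show (0 : Fin 10) ≠ 1 by decide) (show (1 : Fin 10) ≠ 2 by decide))
      (sign_c3 (show (2 : Fin 10) ≠ 3 by decide) (show (3 : Fin 10) ≠ 4 by decide)) with e | e <;>
      rw [show c3 (0 : Fin 10) 1 2 * c3 2 3 4 = u from rfl] at e <;> rw [e]
    · exact h1.mul_right h3
    · exact (h1.mul_right h3).neg_right
  let ι : Fin 5 ↪ Fin 10 := emb5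
  let L5 : Perm (Fin 5) → Module.End k V := fun σ => L (σ.viaFintypeEmbedding ι)
  have hL5 : IsSpin L5 := hL.pull ι
  have hfix5 : ∀ σ : Perm (Fin 5), ∀ i : Fin 10, i.val < 5 → σ.viaFintypeEmbedding ι i = i := by
    intro σ i hi
    refine Equiv.Perm.viaFintypeEmbedding_apply_notMem_range _ _ ?_
    rintro ⟨j, rfl⟩
    have hv : (emb5 j).val = 5 + j.val := rfl
    change (emb5 j).val < 5 at hi
    omega
  let Eg : k → Submodule k V := fun a => LinearMap.ker (U - a • (1 : Module.End k V))
  have hEg : ∀ a v, v ∈ Eg a ↔ U v = a • v := fun a v => by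
    simp only [Eg, LinearMap.mem_ker, LinearMap.sub_apply, LinearMap.smul_apply, Module.End.one_apply, sub_eq_zero]
  have hinv5 : ∀ a, ∀ σ : Perm (Fin 5), sign σ = 1 → ∀ v ∈ Eg a, L5 σ v ∈ Eg a := by
    intro a σ hσ v hv
    rw [hEg] at hv ⊢
    have := LinearMap.congr_fun (hcomm5 _ (by rw [viaFintypeEmbedding_sign, hσ]) (hfix5 σ)).eq v
    simp only [Module.End.mul_apply] at this
    rw [← this, hv, map_smul]
  have hspinE : ∀ a, IsSpin (restr L5 (Eg a)) := fun a => hL5.restr (hinv5 a)
  -- a primitive eigenvalue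
  have hU5v : ∀ v, U (U (U (U (U v)))) = v := fun v => by
    have := LinearMap.congr_fun hU5 v
    simpa [pow_succ, Module.End.mul_apply] using this
  obtain ⟨a, v0, hv0, hv00, ha1⟩ : ∃ a v, v ∈ Eg a ∧ v ≠ 0 ∧ a ≠ 1 := by
    have hne : LinearMap.range (U - 1) ≠ ⊥ := by
      rw [Ne, LinearMap.range_eq_bot]
      intro h0
      rw [sub_eq_zero] at h0
      obtain ⟨c, hc⟩ : ∃ c : k, L u = c • 1 := by
        rcases hUsign with e | e
        · exact ⟨1, by rw [e, h0, one_smul]⟩
        · exact ⟨-1, by rw [e, h0, neg_smul, one_smul]⟩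
      let t : Perm (Fin 10) := c3 0 1 2
      have st : sign t = 1 := by decide
      obtain ⟨c', hc'⟩ : ∃ c' : k, ∀ v, L (t * u * t⁻¹) (L t v) = c' • L t v := by
        rcases hL.conj_mul st su with e | e
        · exact ⟨c, fun v => by rw [← Module.End.mul_apply, e, hc]; simp⟩
        · exact ⟨-c, fun v => by rw [← Module.End.mul_apply, e, hc]; simp⟩
      have hsurj : Function.Surjective (L t) := LinearMap.injective_iff_surjective.1 (hL.injective st)
      obtain ⟨c'', hc''⟩ : ∃ c'' : k, L (t * u * t⁻¹) = c'' • 1 := by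
        refine ⟨c', LinearMap.ext fun v => ?_⟩
        obtain ⟨w, rfl⟩ := hsurj v
        rw [hc']; rfl
      have hc3 : t * u * t⁻¹ = c3 0 1 3 * u := by decide
      obtain ⟨v1, hv1⟩ := exists_ne (0 : V)
      rcases hL.mul _ _ (show sign (c3 (0 : Fin 10) 1 3) = 1 by decide) su with e | e <;>
        rw [← hc3, hc'', hc, mul_smul_comm, mul_one] at e
      all_goals
        have hc0 : c ≠ 0 := fun h => hv1 (hL.injective su (by rw [hc, h, zero_smul]; rfl))
      · exact hL.not_scalar_c3 h2 (by decide) (show (0 : Fin 10) ≠ 1 by decide) (show (0 : Fin 10) ≠ 3 by decide)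
          (show (1 : Fin 10) ≠ 3 by decide) (c⁻¹ * c'') (by rw [mul_smul, e, inv_smul_smul₀ hc0])
      · exact hL.not_scalar_c3 h2 (by decide) (show (0 : Fin 10) ≠ 1 by decide) (show (0 : Fin 10) ≠ 3 by decide)
          (show (1 : Fin 10) ≠ 3 by decide) (-(c⁻¹ * c'')) (by
            rw [neg_smul, mul_smul, e, smul_neg, inv_smul_smul₀ hc0, neg_neg])
    have hinv : ∀ v ∈ LinearMap.range (U - 1), U v ∈ LinearMap.range (U - 1) := by
      rintro _ ⟨w, rfl⟩
      exact ⟨U w, by simp [map_sub]⟩
    haveI : Nontrivial (LinearMap.range (U - 1)) := Submodule.nontrivial_iff_ne_bot.2 hne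
    obtain ⟨a, ha⟩ := Module.End.exists_eigenvalue (U.restrict hinv)
    obtain ⟨v, hv⟩ := ha.exists_hasEigenvector
    have hva : U (v : V) = a • (v : V) := congrArg Subtype.val hv.apply_eq_smul
    have hv0 : (v : V) ≠ 0 := fun h => hv.2 (Subtype.ext h)
    refine ⟨a, v, (hEg a _).2 hva, hv0, fun ha1 => ?_⟩
    rw [ha1, one_smul] at hva
    obtain ⟨w, hw⟩ := v.2
    have h1 : U w = (v : V) + w := by
      rw [← hw, LinearMap.sub_apply, Module.End.one_apply, sub_add_cancel]
    have hk : ∀ m : ℕ, (U ^ m) w = m • (v : V) + w := by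
      intro m
      induction m with
      | zero => simp
      | succ m ih =>
        rw [pow_succ', Module.End.mul_apply, ih, map_add, map_nsmul, hva, h1, succ_nsmul]
        abel
    have h5v : (5 : ℕ) • (v : V) = 0 := by
      have := hk 5
      rw [hU5, Module.End.one_apply] at this
      exact add_eq_right.1 this.symm
    rw [← Nat.cast_smul_eq_nsmul k, smul_eq_zero] at h5v
    exact hv0 (h5v.resolve_left (by simpa using h5))
  have ha5 : a ^ 5 = 1 := by
    have hk : ∀ m : ℕ, (U ^ m) v0 = a ^ m • v0 := by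
      intro m
      induction m with
      | zero => simp
      | succ m ih => rw [pow_succ', Module.End.mul_apply, ih, map_smul, (hEg a _).1 hv0, smul_smul, ← pow_succ]
    have h0 : (a ^ 5 - 1) • v0 = 0 := by
      rw [sub_smul, one_smul, ← hk 5, hU5, Module.End.one_apply, sub_self]
    exact sub_eq_zero.1 ((smul_eq_zero.1 h0).resolve_right hv00)
  have hord : orderOf a = 5 := by
    haveI : Fact (Nat.Prime 5) := ⟨by norm_num⟩
    exact orderOf_eq_prime ha5 ha1
  let e : Fin 4 → k := fun i => a ^ (i.val + 1)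
  have he : Function.Injective e := fun i j hij => by
    have := pow_injOn_Iio_orderOf (x := a) (show i.val + 1 ∈ Set.Iio (orderOf a) by rw [Set.mem_Iio, hord]; omega)
      (show j.val + 1 ∈ Set.Iio (orderOf a) by rw [Set.mem_Iio, hord]; omega) hij
    exact Fin.ext (by omega)
  have hmove : ∀ j : ℕ, finrank k (Eg (a ^ j)) ≤ finrank k (Eg (a ^ (3 * j))) := by
    intro j
    have hmem : ∀ v ∈ Eg (a ^ j), L h v ∈ Eg (a ^ (3 * j)) := by
      intro v hv
      rw [hEg] at hv ⊢
      have hc := LinearMap.congr_fun hconj v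
      simp only [Module.End.mul_apply] at hc
      rw [hv, map_smul] at hc
      calc U (L h v) = U (U (U (U (U (U (L h v)))))) := (hU5v _).symm ▸ rfl
        _ = (a ^ (3 * j)) • L h v := by
            rw [← hc, map_smul, map_smul, map_smul, map_smul, ← hc, map_smul, map_smul, ← hc, smul_smul, smul_smul]
            congr 1; ring
    exact LinearMap.finrank_le_finrank_of_injective (f := (L h).restrict hmem)
      fun x y hxy => Subtype.ext (hL.injective sh (congrArg Subtype.val hxy))
  have hmod : ∀ i j, i % 5 = j % 5 → a ^ i = a ^ j := fun i j hij => by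
    rw [← pow_mod_orderOf, hord, hij, ← hord, pow_mod_orderOf]
  set d := finrank k (Eg a) with hd
  have d3 : d ≤ finrank k (Eg (a ^ 3)) := by have := hmove 1; rwa [pow_one] at this
  have d4 : d ≤ finrank k (Eg (a ^ 4)) := d3.trans (by have := hmove 3; rwa [hmod (3 * 3) 4 (by norm_num)] at this)
  have d2 : d ≤ finrank k (Eg (a ^ 2)) := d4.trans (by have := hmove 4; rwa [hmod (3 * 4) 2 (by norm_num)] at this)
  have d1' : finrank k (Eg (a ^ 2)) ≤ d := by
    have := hmove 2; rwa [hmod (3 * 2) 1 (by norm_num), pow_one] at this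
  have d4' : finrank k (Eg (a ^ 4)) ≤ d :=
    le_trans (by have := hmove 4; rwa [hmod (3 * 4) 2 (by norm_num)] at this) d1'
  have d3' : finrank k (Eg (a ^ 3)) ≤ d :=
    le_trans (by have := hmove 3; rwa [hmod (3 * 3) 4 (by norm_num)] at this) d4'
  have hde : ∀ i, finrank k (Eg (e i)) = d := by
    intro i
    fin_cases i
    · show finrank k (Eg (a ^ 1)) = d; rw [pow_one]
    · exact le_antisymm d1' d2
    · exact le_antisymm d3' d3
    · exact le_antisymm d4' d4
  haveI : Nontrivial (Eg a) := nontrivial_of_ne ⟨v0, hv0⟩ 0 fun h => hv00 (congrArg Subtype.val h)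
  have hd2 : 2 ≤ d := by
    obtain ⟨m, hm⟩ := (hspinE a).even_finrank h2 (show (0 : Fin 5) ≠ 1 by decide) (show (0 : Fin 5) ≠ 2 by decide)
      (show (0 : Fin 5) ≠ 3 by decide) (show (1 : Fin 5) ≠ 2 by decide) (show (1 : Fin 5) ≠ 3 by decide)
      (show (2 : Fin 5) ≠ 3 by decide)
    have := Module.finrank_pos (R := k) (M := Eg a)
    omega
  classical
  let D : Fin 4 → Module.End k V := fun i =>
    (U - e (i + 1) • 1) * ((U - e (i + 2) • 1) * (U - e (i + 3) • 1))
  have hDval : ∀ i j, ∀ v ∈ Eg (e j), D i v =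
      ((e j - e (i + 1)) * ((e j - e (i + 2)) * (e j - e (i + 3)))) • v := by
    intro i j v hv
    rw [hEg] at hv
    simp only [D, Module.End.mul_apply, LinearMap.sub_apply, LinearMap.smul_apply, Module.End.one_apply, hv,
      ← sub_smul, map_smul, smul_smul]
    congr 1; ring
  have hkill : ∀ i j : Fin 4, i ≠ j → ∀ v ∈ Eg (e j), D i v = 0 := by
    intro i j hij v hv
    have : j = i + 1 ∨ j = i + 2 ∨ j = i + 3 :=
      (show ∀ i j : Fin 4, i ≠ j → j = i + 1 ∨ j = i + 2 ∨ j = i + 3 by decide) i j hij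
    rw [hDval i j v hv]
    rcases this with rfl | rfl | rfl <;> simp
  have hinjD : ∀ i, ∀ v ∈ Eg (e i), D i v = 0 → v = 0 := by
    intro i v hv h0
    rw [hDval i i v hv, smul_eq_zero] at h0
    exact h0.resolve_left (mul_ne_zero (sub_ne_zero.2 (he.ne ((show ∀ i : Fin 4, i ≠ i + 1 by decide) i)))
      (mul_ne_zero (sub_ne_zero.2 (he.ne ((show ∀ i : Fin 4, i ≠ i + 2 by decide) i)))
        (sub_ne_zero.2 (he.ne ((show ∀ i : Fin 4, i ≠ i + 3 by decide) i)))))
  have htot := finrank_sum_le_within ⊤ (fun i => Eg (e i)) (fun _ => le_top) D (e := d) (fun i => (hde i).ge) hkill hinjD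
  rw [finrank_top, hn] at htot
  have hdeq : d = 2 := by omega
  -- a quadratic relation for three cycles
  let T0 : Module.End k V := L (c3 5 6 7) ^ 4
  have hQblock : ∀ i, ∀ v ∈ Eg (e i), T0 (T0 v) + T0 v + v = 0 := by
    intro i
    haveI : Nontrivial (Eg (e i)) := by
      apply Module.nontrivial_of_finrank_pos (R := k); rw [hde]; omega
    set M := restr L5 (Eg (e i))
    have hM : IsSpin M := hspinE _
    let t : Perm (Fin 5) := c3 0 1 2
    let hh : Perm (Fin 5) := swap 0 1 * swap 3 4
    have st : sign t = 1 := by decide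
    have shh : sign hh = 1 := by decide
    have h3 : M t ^ 3 = 1 ∨ M t ^ 3 = -1 := by
      rcases lift_pow hM st 3 with e | e <;> rw [show t ^ 3 = 1 by decide +kernel, hM.one] at e
      · exact Or.inl e.symm
      · exact Or.inr (by rw [e, neg_neg])
    obtain ⟨hXs, hX3⟩ := pow_succ_of_pow (n := 3) (by decide) (M t) h3
    set X := M t ^ (3 + 1) with hX
    have hns : ∀ c : k, X ≠ c • 1 := fun c hc => by
      rcases hXs with e | e
      · exact hM.not_scalar_c3 h2 (by decide) (show (0 : Fin 5) ≠ 1 by decide) (show (0 : Fin 5) ≠ 2 by decide)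
          (show (1 : Fin 5) ≠ 2 by decide) c (e.trans hc)
      · exact hM.not_scalar_c3 h2 (by decide) (show (0 : Fin 5) ≠ 1 by decide) (show (0 : Fin 5) ≠ 2 by decide)
          (show (1 : Fin 5) ≠ 2 by decide) (-c) (scalar_neg e hc)
    have hXc : M hh * X = X * X * M hh := by
      have key : M (hh * t * hh⁻¹) ^ (3 + 1) = X * X := by
        rw [show hh * t * hh⁻¹ = t * t by decide +kernel, neg_one_or (3 + 1) (by decide) (hM.mul _ _ st st),
          (Commute.refl (M t)).mul_pow]
      have := semiconj_pow (hM.conj_mul shh st) (n := 3 + 1) (by decide)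
      rwa [key] at this
    have hch := LinearMap.aeval_self_charpoly X
    have hdeg : X.charpoly.natDegree = 2 := by rw [LinearMap.charpoly_natDegree, hde, hdeq]
    rw [Polynomial.aeval_eq_sum_range, hdeg, Finset.sum_range_succ, Finset.sum_range_succ, Finset.sum_range_one] at hch
    have hlead : X.charpoly.coeff 2 = 1 := by rw [← hdeg]; exact (LinearMap.charpoly_monic X).coeff_natDegree
    rw [hlead, pow_zero, pow_one, one_smul, pow_two] at hch
    set c := X.charpoly.coeff 0
    set b := X.charpoly.coeff 1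
    have hX2 : ∀ v, X (X v) = -(b • X v) - c • v := fun v => by
      have := LinearMap.congr_fun hch v
      simp only [LinearMap.add_apply, LinearMap.smul_apply, Module.End.one_apply, Module.End.mul_apply,
        LinearMap.zero_apply] at this
      linear_combination (norm := abel) this
    have hX3v : ∀ v, X (X (X v)) = v := fun v => by
      have := LinearMap.congr_fun hX3 v
      simpa [pow_succ, Module.End.mul_apply] using this
    have hns2 : ∀ p q : k, (∀ v, p • X v + q • v = 0) → p = 0 ∧ q = 0 := by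
      intro p q h
      have hp : p = 0 := by
        by_contra hp
        refine hns (-(q / p)) (LinearMap.ext fun v => ?_)
        show X v = (-(q / p)) • v
        have h' := congrArg (fun w => p⁻¹ • w) (h v)
        simp only [smul_add, smul_smul, inv_mul_cancel₀ hp, one_smul, smul_zero] at h'
        rw [neg_smul, eq_neg_of_add_eq_zero_left h', div_eq_inv_mul]
      obtain ⟨v, hv⟩ := exists_ne (0 : Eg (e i))
      have h' := h v
      rw [hp, zero_smul, zero_add] at h'
      exact ⟨hp, (smul_eq_zero.1 h').resolve_right hv⟩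
    have hsurjM : Function.Surjective (M hh) := LinearMap.injective_iff_surjective.1 (hM.injective shh)
    have hsq : ∀ v, X (X (X (X v))) = -(b • X (X v)) - c • v := by
      intro v
      obtain ⟨w, rfl⟩ := hsurjM v
      have e1 : ∀ x, M hh (X x) = X (X (M hh x)) := fun x => by
        have := LinearMap.congr_fun hXc x
        simpa [Module.End.mul_apply] using this
      have := congrArg (M hh) (hX2 w)
      rw [map_sub, map_neg, map_smul, map_smul, e1, e1] at this
      exact this
    have hkey : ∀ v, (1 - b * b) • X v + (c * (1 - b)) • v = 0 := by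
      intro v
      have := hsq v
      rw [hX3v, hX2 v] at this
      linear_combination (norm := module) this
    obtain ⟨k1, k2⟩ := hns2 _ _ hkey
    have hc0 : c ≠ 0 := fun h0 => by
      obtain ⟨-, hb⟩ := hns2 1 b fun v => by
        have := hX2 (X (X v))
        rw [hX3v, hX3v, h0, zero_smul, sub_zero] at this
        rw [one_smul, this, neg_add_cancel]
      refine hns 0 (LinearMap.ext fun v => ?_)
      have := hX2 (X (X v))
      rw [hX3v, hX3v, h0, zero_smul, sub_zero, hb, zero_smul, neg_zero] at this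
      simp [this]
    have hb1 : b = 1 := (sub_eq_zero.1 ((mul_eq_zero.1 k2).resolve_left hc0)).symm
    have hc1 : c = 1 := by
      obtain ⟨k3, -⟩ := hns2 (1 - c) (c - 1) fun v => by
        have h' := hX3v v
        rw [hX2 v, map_sub, map_neg, map_smul, map_smul, hX2 v, hb1] at h'
        linear_combination (norm := module) h'
      exact (sub_eq_zero.1 k3).symm
    intro v hv
    have hLt : (M t : Module.End k (Eg (e i))) = restr L5 (Eg (e i)) t := rfl
    have hpow : ∀ n : ℕ, ∀ w : Eg (e i), ((M t ^ n) w : V) = (L (c3 5 6 7) ^ n) (w : V) := by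
      intro n
      induction n with
      | zero => intro w; rfl
      | succ n ih =>
        intro w
        rw [pow_succ', pow_succ', Module.End.mul_apply, Module.End.mul_apply, ← ih]
        have e1 : (M t ((M t ^ n) w) : V) = L5 t ((M t ^ n) w : V) := restr_apply (hinv5 _ t st) _
        rw [e1]
        show L (t.viaFintypeEmbedding ι) _ = _
        rw [show t.viaFintypeEmbedding ι = c3 5 6 7 from emb5_c3]
    have hQ := hX2 ⟨v, hv⟩
    rw [hb1, hc1, one_smul, one_smul] at hQ
    have hQ' := congrArg Subtype.val hQ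
    simp only [AddSubgroupClass.coe_sub, NegMemClass.coe_neg, hX, hpow] at hQ'
    show (L (c3 5 6 7) ^ (3 + 1)) ((L (c3 5 6 7) ^ (3 + 1)) v) + (L (c3 5 6 7) ^ (3 + 1)) v + v = 0
    rw [hQ']; abel
  let Q0 : Module.End k V := T0 * T0 + T0 + 1
  have hQ0 : Q0 = 0 := by
    refine LinearMap.ker_eq_top.1 (Submodule.eq_top_of_finrank_eq ?_)
    have h8 := finrank_sum_le_within (LinearMap.ker Q0) (fun i => Eg (e i))
      (fun i v hv => by rw [LinearMap.mem_ker]; simpa [Q0] using hQblock i v hv) D (e := d) (fun i => (hde i).ge)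
      hkill hinjD
    have := Submodule.finrank_le (LinearMap.ker Q0)
    omega
  -- transport
  let tc : Fin 8 → Perm (Fin 10) := fun c => c3 0 1 ⟨c.val + 2, by omega⟩
  have hd01 : ∀ c : Fin 8, (0 : Fin 10) ≠ ⟨c.val + 2, by omega⟩ ∧ (1 : Fin 10) ≠ ⟨c.val + 2, by omega⟩ := fun c =>
    ⟨Fin.ne_of_val_ne (by simp), Fin.ne_of_val_ne (by simp)⟩
  have stc : ∀ c, sign (tc c) = 1 := fun c => sign_c3 (by decide) (hd01 c).2
  let T : Fin 8 → Module.End k V := fun c => L (tc c) ^ 4
  have hTQ : ∀ c, T c * T c + T c + 1 = 0 := by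
    intro c
    obtain ⟨g, hg, hm⟩ := exists_even_map ![(5 : Fin 10), 6, 7] ![0, 1, ⟨c.val + 2, by omega⟩]
      (by decide) (by
        intro i j; fin_cases i <;> fin_cases j <;> simp [(hd01 c).1, (hd01 c).2, (hd01 c).1.symm, (hd01 c).2.symm])
      (by simp)
    have e0 : g * c3 5 6 7 * g⁻¹ = tc c := by
      rw [c3_conj, show g 5 = 0 from hm 0, show g 6 = 1 from hm 1,
        show g 7 = ⟨c.val + 2, by omega⟩ from hm 2]
    have hT : L g * T0 = T c * L g := by
      have e := hL.conj_mul hg (show sign (c3 (5 : Fin 10) 6 7) = 1 by decide)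
      rw [e0] at e
      exact semiconj_pow e (by decide)
    have hs : Function.Surjective (L g) := LinearMap.injective_iff_surjective.1 (hL.injective hg)
    have hTa : ∀ x, T c (L g x) = L g (T0 x) := fun x => by
      rw [← Module.End.mul_apply, ← hT, Module.End.mul_apply]
    refine LinearMap.ext fun v => ?_
    obtain ⟨w, rfl⟩ := hs v
    simp only [LinearMap.add_apply, Module.End.mul_apply, Module.End.one_apply]
    rw [hTa, hTa, ← map_add (L g), ← map_add (L g), show T0 (T0 w) + T0 w + w = Q0 w by simp [Q0], hQ0]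
    simp
  have hT3 : ∀ c, T c * T c * T c = 1 := fun c => by
    have h := congrArg (fun z => (T c - 1) * z) (hTQ c)
    simp only [mul_zero] at h
    rw [show (T c - 1) * (T c * T c + T c + 1) = T c * T c * T c - 1 by noncomm_ring] at h
    exact sub_eq_zero.1 h
  have hTs : ∀ c, T c = L (tc c) ∨ T c = -(L (tc c)) := fun c => by
    have h3 : L (tc c) ^ 3 = 1 ∨ L (tc c) ^ 3 = -1 := by
      rcases lift_pow hL (stc c) 3 with e | e <;>
        rw [show tc c ^ 3 = 1 by rw [pow_succ, pow_two]; exact c3_cube (by decide) (hd01 c).1 (hd01 c).2, hL.one] at e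
      · exact Or.inl e.symm
      · exact Or.inr (by rw [e, neg_neg])
    rcases (pow_succ_of_pow (n := 3) (by decide) _ h3).1 with e | e
    · exact Or.inl e.symm
    · exact Or.inr (by show L (tc c) ^ (3 + 1) = -(L (tc c)); rw [← neg_eq_iff_eq_neg, ← e])
  have hanti : ∀ c c', c ≠ c' → T c * T c' + T c' * T c = -1 - T c - T c' := by
    intro c c' hcc
    have hp : tc c * tc c' = swap (0 : Fin 10) ⟨c.val + 2, by omega⟩ * swap 1 ⟨c'.val + 2, by omega⟩ :=
      c3_prod_ten c c' hcc
    have hne : (⟨c.val + 2, by omega⟩ : Fin 10) ≠ ⟨c'.val + 2, by omega⟩ :=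
      Fin.ne_of_val_ne (by simpa using fun h => hcc (Fin.ext h))
    have hsq := hL.sq (hd01 c).1 (show (0 : Fin 10) ≠ 1 by decide) (hd01 c').1 (hd01 c).2.symm hne (hd01 c').2
    rw [← hp] at hsq
    have hprod : (T c * T c') * (T c * T c') = -1 := by
      have : T c * T c' = L (tc c * tc c') ∨ T c * T c' = -(L (tc c * tc c')) := by
        rcases hTs c with e | e <;> rcases hTs c' with e' | e' <;> rcases hL.mul _ _ (stc c) (stc c') with f | f <;>
          rw [e, e', f] <;> simp only [neg_mul, mul_neg, neg_neg, true_or, or_true]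
      rcases this with e | e <;> rw [e]
      · exact hsq
      · rw [neg_mul_neg, hsq]
    have hinv : ∀ c, T c * (-1 - T c) = 1 ∧ (-1 - T c) * T c = 1 := fun c => by
      have h := hTQ c
      constructor
      · calc T c * (-1 - T c) = 1 - (T c * T c + T c + 1) := by noncomm_ring
          _ = 1 := by rw [h, sub_zero]
      · calc (-1 - T c) * T c = 1 - (T c * T c + T c + 1) := by noncomm_ring
          _ = 1 := by rw [h, sub_zero]
    have hxy : T c * T c' = -((-1 - T c') * (-1 - T c)) := by
      have h := congrArg (fun z => z * ((-1 - T c') * (-1 - T c))) hprod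
      have e : T c * T c' * ((-1 - T c') * (-1 - T c)) = 1 := by
        rw [mul_assoc, ← mul_assoc (T c'), (hinv c').1, one_mul, (hinv c).1]
      simp only [mul_assoc (T c * T c'), e, mul_one, neg_mul, one_mul] at h
      exact h
    rw [hxy]
    noncomm_ring
  let Y : Fin 8 → Module.End k V := fun c => (2 : ℤ) • T c + 1
  have hYY : ∀ c c', Y c * Y c' + Y c' * Y c = (-2 - if c = c' then (4 : ℤ) else 0) • (1 : Module.End k V) := by
    intro c c'
    by_cases h : c = c'
    · subst h
      rw [if_pos rfl]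
      calc Y c * Y c + Y c * Y c = (8 : ℤ) • (T c * T c + T c + 1) + (-6 : ℤ) • (1 : Module.End k V) := by
            simp only [Y]; noncomm_ring
        _ = _ := by rw [hTQ, smul_zero, zero_add]; norm_num
    · rw [if_neg h, sub_zero]
      calc Y c * Y c' + Y c' * Y c = (4 : ℤ) • (T c * T c' + T c' * T c) + (4 : ℤ) • (T c + T c') + (2 : ℤ) • 1 := by
            simp only [Y]; noncomm_ring
        _ = _ := by rw [hanti c c' h]; noncomm_ring
  let vec : Fin (2 * 4) → Fin 8 → ℤ :=
    ![![1, -1, 0, 0, 0, 0, 0, 0], ![0, 0, 1, -1, 0, 0, 0, 0], ![0, 0, 0, 0, 1, -1, 0, 0], ![0, 0, 0, 0, 0, 0, 1, -1],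
      ![1, 1, -1, -1, 0, 0, 0, 0], ![0, 0, 0, 0, 1, 1, -1, -1], ![1, 1, 1, 1, -1, -1, -1, -1], ![1, 1, 1, 1, 1, 1, 1, 1]]
  let B : (Fin 8 → ℤ) → (Fin 8 → ℤ) → ℤ := fun x y =>
    ∑ i, ∑ j, x i * y j * (-2 - if i = j then (4 : ℤ) else 0)
  let G : (Fin 8 → ℤ) → Module.End k V := fun x => ∑ i, x i • Y i
  have hG : ∀ x y, G x * G y + G y * G x = B x y • (1 : Module.End k V) := by
    intro x y
    simp only [G, B, Finset.sum_mul_sum]
    rw [Finset.sum_comm (f := fun i j => (y i • Y i) * (x j • Y j)), ← Finset.sum_add_distrib, Finset.sum_smul]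
    refine Finset.sum_congr rfl fun i _ => ?_
    rw [← Finset.sum_add_distrib, Finset.sum_smul]
    refine Finset.sum_congr rfl fun j _ => ?_
    rw [mul_smul (x i * y j), ← hYY i j, smul_mul_smul_comm, smul_mul_smul_comm, mul_comm (y j) (x i), ← smul_add]
  let cz : Fin (2 * 4) → ℤ := ![-4, -4, -4, -4, -8, -8, -16, -80]
  have hBd : ∀ i, B (vec i) (vec i) = 2 * cz i := by decide +kernel
  have hBo : ∀ i j, i ≠ j → B (vec i) (vec j) = 0 := by decide +kernel
  have h16 := clifford_bound h2 4 V (fun i => G (vec i)) (fun i => (cz i : k)) (fun i => ?_) (fun i => ?_)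
    (fun i j hij => ?_)
  · rw [hn] at h16; norm_num at h16
  · have h4 : (4 : k) ≠ 0 := by rw [show (4 : k) = 2 * 2 by norm_num]; exact mul_ne_zero h2 h2
    fin_cases i <;> simp [cz] <;>
      first
        | exact h4
        | (rw [show (8 : k) = 4 * 2 by norm_num]; exact mul_ne_zero h4 h2)
        | (rw [show (16 : k) = 4 * 4 by norm_num]; exact mul_ne_zero h4 h4)
        | (rw [show (80 : k) = 4 * 4 * 5 by norm_num]; exact mul_ne_zero (mul_ne_zero h4 h4) h5)
  · have := hG (vec i) (vec i)
    rw [hBd, ← two_smul k (G (vec i) * G (vec i)), mul_smul, ← Int.cast_smul_eq_zsmul k (2 : ℤ),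
      ← Int.cast_smul_eq_zsmul k (cz i)] at this
    push_cast at this
    exact smul_right_injective _ h2 this
  · have := hG (vec i) (vec j)
    rw [hBo i j hij, zero_smul] at this
    exact eq_neg_of_add_eq_zero_left this

theorem eleven_spin [IsAlgClosed k] [FiniteDimensional k V] [Nontrivial V] (h2 : (2 : k) ≠ 0)
    {L : Perm (Fin 11) → Module.End k V} (hL : IsSpin L) : finrank k V ≠ 8 := by
  intro hn
  set x := L (c3 8 9 10)
  obtain ⟨a, ha⟩ := Module.End.exists_eigenvalue x
  let W := LinearMap.ker (x - a • (1 : Module.End k V))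
  have hW : ∀ v, v ∈ W ↔ x v = a • v := fun v => by
    simp only [W, LinearMap.mem_ker, LinearMap.sub_apply, LinearMap.smul_apply, Module.End.one_apply, sub_eq_zero]
  let ι : Fin 8 ↪ Fin 11 := Fin.castLEEmb (by norm_num)
  have hfix : ∀ (σ : Perm (Fin 8)) (i : Fin 11), 8 ≤ i.val → σ.viaFintypeEmbedding ι i = i := fun σ i hi => by
    refine Equiv.Perm.viaFintypeEmbedding_apply_notMem_range _ _ ?_
    rintro ⟨j, rfl⟩
    simp [ι] at hi
    omega
  have hinv : ∀ σ : Perm (Fin 8), sign σ = 1 → ∀ v ∈ W, L (σ.viaFintypeEmbedding ι) v ∈ W := by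
    intro σ hσ v hv
    rw [hW] at hv ⊢
    have hc := hL.comm_c3 (σ := σ.viaFintypeEmbedding ι) (by rw [viaFintypeEmbedding_sign, hσ])
      (show (8 : Fin 11) ≠ 9 by decide) (show (8 : Fin 11) ≠ 10 by decide) (show (9 : Fin 11) ≠ 10 by decide)
      (hfix σ 8 (by decide)) (hfix σ 9 (by decide)) (hfix σ 10 (by decide))
    have := LinearMap.congr_fun hc.eq v
    simp only [Module.End.mul_apply] at this
    rw [← this, hv, map_smul]
  obtain ⟨v, hv⟩ := ha.exists_hasEigenvector
  haveI : Nontrivial W := nontrivial_of_ne ⟨v, (hW v).2 hv.apply_eq_smul⟩ 0 fun h => hv.2 (congrArg Subtype.val h)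
  have h8 := spin_eight h2 ((hL.pull ι).restr (W := W) hinv)
  have htop : W = ⊤ := Submodule.eq_top_of_finrank_eq (by have := Submodule.finrank_le W; omega)
  exact hL.not_scalar_c3 h2 (by decide) (show (8 : Fin 11) ≠ 9 by decide) (show (8 : Fin 11) ≠ 10 by decide)
    (show (9 : Fin 11) ≠ 10 by decide) a (LinearMap.ext fun v => (hW v).1 (htop ▸ Submodule.mem_top))

universe u

theorem spin_main [IsAlgClosed k] (p : ℕ) [CharP k p] (h2 : (2 : k) ≠ 0) :
    ∀ (r : ℕ) (α : Type u) [Fintype α] [DecidableEq α] (V : Type v) [AddCommGroup V] [Module k V]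
      [FiniteDimensional k V] [Nontrivial V] (L : Perm α → Module.End k V), Fintype.card α = r → IsSpin L → 8 ≤ r →
        r - 2 ≤ finrank k V ∧ (9 ≤ r → r - 1 - (if p ∣ r then 1 else 0) ≤ finrank k V) := by
  intro r
  induction r using Nat.strong_induction_on with
  | _ r ih =>
  intro α _ _ V _ _ _ _ L hcard hL hr
  let emb : ∀ m, m ≤ r → (ULift.{u} (Fin m) ↪ α) := fun m hm =>
    Equiv.ulift.toEmbedding.trans ((Fin.castLEEmb (hcard.symm ▸ hm)).trans (Fintype.equivFin α).symm.toEmbedding)
  have pull' : ∀ m, (hm : m ≤ r) → ∃ L' : Perm (Fin m) → Module.End k V, IsSpin L' := fun m hm => by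
    have h := hL.pull (emb m hm)
    let φ : Perm (Fin m) → Perm (ULift.{u} (Fin m)) := fun σ => Equiv.ulift.symm.permCongr σ
    have hφ : ∀ σ τ, φ (σ * τ) = φ σ * φ τ := fun σ τ => Equiv.ext fun x => by simp [φ, Equiv.permCongr_apply]
    have hsw : ∀ a b, φ (swap a b) = swap (ULift.up a) (ULift.up b) := fun a b => Equiv.ext fun x => by
      cases x with | up x => simp [φ, Equiv.permCongr_apply, swap_apply_def, apply_ite ULift.up]
    have hs : ∀ σ, sign (φ σ) = sign σ := fun σ => Equiv.Perm.sign_permCongr _ _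
    refine ⟨fun σ => L ((φ σ).viaFintypeEmbedding (emb m hm)), ⟨?_, fun σ τ hσ hτ => ?_,
      fun a b c d h1 h2' h3 h4 h5 h6 => ?_⟩⟩
    · show L ((φ 1).viaFintypeEmbedding _) = 1
      rw [show φ 1 = 1 from Equiv.ext fun x => by simp [φ, Equiv.permCongr_apply]]
      exact h.one
    · simp only [hφ]
      exact h.mul _ _ (by rw [hs, hσ]) (by rw [hs, hτ])
    · simp only [hφ, hsw]
      exact h.klein _ _ _ _ (ULift.up_injective.ne h1) (ULift.up_injective.ne h2') (ULift.up_injective.ne h3)
        (ULift.up_injective.ne h4) (ULift.up_injective.ne h5) (ULift.up_injective.ne h6)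
  obtain ⟨L8, hL8⟩ := pull' 8 hr
  have h8 := spin_eight h2 hL8
  obtain ⟨m, hm⟩ := hL8.even_finrank h2 (show (0 : Fin 8) ≠ 1 by decide) (show (0 : Fin 8) ≠ 2 by decide)
    (show (0 : Fin 8) ≠ 3 by decide) (show (1 : Fin 8) ≠ 2 by decide) (show (1 : Fin 8) ≠ 3 by decide)
    (show (2 : Fin 8) ≠ 3 by decide)
  rcases Nat.lt_or_ge r 10 with hr10 | hr10
  · exact ⟨by omega, fun _ => by split_ifs <;> omega⟩
  by_cases h10 : r = 10
  · subst h10
    refine ⟨by omega, fun _ => ?_⟩
    by_cases hp : p ∣ 10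
    · rw [if_pos hp]; omega
    · have h5 : (5 : k) ≠ 0 := fun h => hp (by
        have h5' : p ∣ 5 := (CharP.cast_eq_zero_iff k p 5).1 (by exact_mod_cast h)
        exact h5'.trans (by norm_num))
      obtain ⟨L10, hL10⟩ := pull' 10 le_rfl
      have := ten_aux h2 h5 hL10
      rw [if_neg hp]; omega
  by_cases h11 : r = 11
  · subst h11
    obtain ⟨L11, hL11⟩ := pull' 11 le_rfl
    have := eleven_spin h2 hL11
    exact ⟨by omega, fun _ => by split_ifs <;> omega⟩
  obtain ⟨o, ho, -⟩ := exists_outside (∅ : Finset α) (j := 4) (by simp; omega)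
  have one : ∀ i j : Fin 4, i ≠ j → o i ≠ o j := fun i j h => ho.ne h
  set a := o 0
  set b := o 1
  set c := o 2
  set d := o 3
  have hab : a ≠ b := one _ _ (by decide)
  have hac : a ≠ c := one _ _ (by decide)
  have had : a ≠ d := one _ _ (by decide)
  have hbc : b ≠ c := one _ _ (by decide)
  have hbd : b ≠ d := one _ _ (by decide)
  have hcd : c ≠ d := one _ _ (by decide)
  set S : Finset α := {a, b, c, d} with hS
  have hScard : S.card = 4 := by
    rw [hS, Finset.card_insert_of_notMem (by simp [hab, hac, had]), Finset.card_insert_of_notMem (by simp [hbc, hbd]),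
      Finset.card_pair hcd]
  obtain ⟨I, hI⟩ := IsAlgClosed.exists_eq_mul_self (-1 : k)
  set A := L (swap a b * swap c d)
  set B := L (swap a c * swap b d)
  have hAA : ∀ v, A (A v) = -v := fun v => by
    rw [← Module.End.mul_apply, hL.sq hab hac had hbc hbd hcd]; simp
  have hBinj : Function.Injective B := hL.injective (sign_ss hac hbd)
  have hAB : ∀ v, A (B v) = -B (A v) := fun v => by
    have := LinearMap.congr_fun (hL.klein a b c d hab hac had hbc hbd hcd) v
    simpa using this
  let K := LinearMap.ker (A - I • (1 : Module.End k V))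
  have hK : ∀ v, v ∈ K ↔ A v = I • v := fun v => by
    simp only [K, LinearMap.mem_ker, LinearMap.sub_apply, LinearMap.smul_apply, Module.End.one_apply, sub_eq_zero]
  let ι : Off S ↪ α := Function.Embedding.subtype _
  have hfix : ∀ σ : Perm (Off S), ∀ x ∈ S, σ.viaFintypeEmbedding ι x = x := fun σ x hx => by
    refine Equiv.Perm.viaFintypeEmbedding_apply_notMem_range _ _ ?_
    rintro ⟨y, rfl⟩
    exact y.2 hx
  have hinv : ∀ σ : Perm (Off S), sign σ = 1 → ∀ v ∈ K, L (σ.viaFintypeEmbedding ι) v ∈ K := by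
    intro σ hσ v hv
    rw [hK] at hv ⊢
    have hc := hL.comm_ss (σ := σ.viaFintypeEmbedding ι) (by rw [viaFintypeEmbedding_sign, hσ]) hab hac hbc hbd hcd
      (hfix σ a (by simp [hS])) (hfix σ b (by simp [hS])) (hfix σ c (by simp [hS])) (hfix σ d (by simp [hS]))
    have := LinearMap.congr_fun hc.eq v
    simp only [Module.End.mul_apply] at this
    rw [← this, hv, map_smul]
  have hI0 : I ≠ 0 := fun h => by rw [h, mul_zero] at hI; exact one_ne_zero (neg_eq_zero.1 hI)
  haveI : Nontrivial K := by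
    obtain ⟨v, hv⟩ := exists_ne (0 : V)
    by_cases hz : A v + I • v = 0
    · refine nontrivial_of_ne ⟨B v, (hK _).2 ?_⟩ 0 fun h => hv (hBinj ((congrArg Subtype.val h).trans (map_zero _).symm))
      rw [hAB, eq_neg_of_add_eq_zero_left hz, map_neg, neg_neg, map_smul]
    · refine nontrivial_of_ne ⟨A v + I • v, (hK _).2 ?_⟩ 0 fun h => hz (congrArg Subtype.val h)
      rw [map_add, map_smul, hAA, smul_add, smul_smul, ← hI, neg_smul, one_smul, add_comm]
  have hK2 : 2 * finrank k K ≤ finrank k V := by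
    let f : (K × K) →ₗ[k] V := K.subtype.coprod (B.comp K.subtype)
    have hinj : Function.Injective f := by
      rw [injective_iff_map_eq_zero]
      rintro ⟨⟨x, hx⟩, ⟨y, hy⟩⟩ h
      have h' : x + B y = 0 := h
      rw [hK] at hx hy
      have h3 := congrArg A h'
      rw [map_add, hx, hAB, hy, map_smul, map_zero] at h3
      have h5 : (2 * I) • x = 0 := by
        rw [eq_neg_of_add_eq_zero_right h', smul_neg, neg_neg, ← add_smul] at h3
        rwa [two_mul]
      obtain rfl : x = 0 := (smul_eq_zero.1 h5).resolve_left (mul_ne_zero h2 hI0)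
      rw [zero_add] at h'
      obtain rfl : y = 0 := hBinj (h'.trans (map_zero _).symm)
      rfl
    have := LinearMap.finrank_le_finrank_of_injective hinj
    rw [Module.finrank_prod] at this
    omega
  have hih := (ih (r - 4) (by omega) (Off S) K _ (by rw [card_off, hScard, hcard]) ((hL.pull ι).restr (W := K) hinv)
    (by omega)).1
  exact ⟨by omega, fun _ => by split_ifs <;> omega⟩

end CfsgLib.KnownC.AltSec
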