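import Cfsg.Agent.Lib.KnownC.AltSec.Layer
import Cfsg.Agent.Lib.KnownC.AltSec.Cover
import Cfsg.Agent.Lib.KnownC.AltSec.LinOddMain
import Cfsg.Agent.Lib.KnownC.AltSec.LinTwoMain
import Cfsg.Agent.Lib.KnownC.AltSec.SpinMain
import Cfsg.Agent.Lib.Clifford.AltSchur

/-!
Degree bound for linear groups with an alternating quotient.
-/

set_option autoImplicit false

namespace CfsgLib.KnownC.AltSec

open Module

/-- The bound in dimension `n`. -/
def Bound (n : ℕ) : Prop :=
  ∀ (k : Type) [Field k] [IsAlgClosed k] (p : ℕ) [Fact p.Prime] [CharP k p] (V : Type) [AddCommGroup V]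
    [Module k V] [FiniteDimensional k V] (G : Type) [Group G] [Finite G] (r : ℕ)
    (φ : G →* Equiv.Perm (Fin r)) (ρ : G →* Module.End k V),
    finrank k V = n → φ.range = alternatingGroup (Fin r) → (∀ g, ρ g = 1 → φ g = 1) → 9 ≤ r →
      r - 1 - (if p ∣ r then 1 else 0) ≤ n

variable {k : Type} [Field k] {V : Type} [AddCommGroup V] [Module k V] {G : Type} [Group G] [Finite G] {r : ℕ}
  {φ : G →* Equiv.Perm (Fin r)}

theorem MinCover.irred [IsAlgClosed k] [FiniteDimensional k V] (h : MinCover φ) {p : ℕ} [Fact p.Prime] [CharP k p]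
    {ρ : G →* Module.End k V} (hinj : Function.Injective ρ) (ih : ∀ m < finrank k V, Bound m)
    (hn : finrank k V < r - 1 - (if p ∣ r then 1 else 0)) : Irred ρ := by
  intro W hW
  by_contra hno
  push Not at hno
  obtain ⟨hb, ht⟩ := hno
  let ρW : G →* Module.End k W :=
    { toFun := fun g => (ρ g).restrict (hW g)
      map_one' := LinearMap.ext fun x => Subtype.ext (by simp)
      map_mul' := fun g g' => LinearMap.ext fun x => Subtype.ext (by simp) }
  let ρQ : G →* Module.End k (V ⧸ W) :=
    { toFun := fun g => W.mapQ W (ρ g) (hW g)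
      map_one' := Submodule.linearMap_qext _ (LinearMap.ext fun x => by simp)
      map_mul' := fun g g' => Submodule.linearMap_qext _ (LinearMap.ext fun x => by simp) }
  have hkey : ∀ (U : Type) [AddCommGroup U] [Module k U] [FiniteDimensional k U] (σ : G →* Module.End k U),
      finrank k U < finrank k V → ∀ g, σ g = 1 := by
    intro U _ _ _ σ hU g
    by_contra hne
    have hker : σ.ker ≠ ⊤ := fun e => hne (MonoidHom.mem_ker.1 (e ▸ Subgroup.mem_top g))
    have := ih _ hU k p U G r φ σ rfl h.range_eq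
      (fun g hg => MonoidHom.mem_ker.1 (h.le_ker hker (MonoidHom.mem_ker.2 hg))) h.le_deg
    omega
  have hW1 : ∀ g, ∀ x ∈ W, ρ g x = x := fun g x hx => by
    have := LinearMap.congr_fun (hkey W ρW (Submodule.finrank_lt ht) g) ⟨x, hx⟩
    exact congrArg Subtype.val this
  have hQ1 : ∀ g x, ρ g x - x ∈ W := fun g x => by
    have hlt : finrank k (V ⧸ W) < finrank k V := by
      have := W.finrank_quotient_add_finrank
      have : finrank k W ≠ 0 := fun e => hb (Submodule.finrank_eq_zero.1 e)
      omega
    have := LinearMap.congr_fun (hkey (V ⧸ W) ρQ hlt g) (Submodule.Quotient.mk x)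
    exact (Submodule.Quotient.eq W).1 this
  have hab : ∀ g g' : G, g * g' = g' * g := fun g g' => hinj (LinearMap.ext fun x => by
    rw [map_mul, map_mul, Module.End.mul_apply, Module.End.mul_apply]
    have e1 : ∀ a b : G, ρ a (ρ b x) = ρ a x + (ρ b x - x) := fun a b => by
      conv_lhs => rw [← add_sub_cancel x (ρ b x)]
      rw [map_add, hW1 a _ (hQ1 b x)]
    rw [e1, e1]; abel)
  have hc : commutator G = ⊥ := by
    rw [commutator_def, Subgroup.commutator_eq_bot_iff_le_centralizer]
    exact fun g _ => Subgroup.mem_centralizer_iff.2 fun x _ => hab x g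
  have htop : (⊥ : Subgroup G) = ⊤ := hc.symm.trans h.perfect
  have : φ.range = ⊥ := by
    rw [MonoidHom.range_eq_map, ← htop, Subgroup.map_bot]
  rw [h.range_eq] at this
  have hbot : alternatingGroup (Fin r) = ⊥ := this
  haveI : Nontrivial (Fin r) := Fin.nontrivial_iff_two_le.2 (le_trans (by norm_num) h.le_deg)
  have h2 := nat_card_alternatingGroup (α := Fin r)
  rw [hbot, Subgroup.card_bot, Nat.card_fin] at h2
  have := Nat.factorial_le h.le_deg
  have : Nat.factorial 9 = 362880 := by decide
  omega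

theorem MinCover.card_alt (h : MinCover φ) : 181440 ≤ Nat.card φ.range := by
  haveI : Nontrivial (Fin r) := Fin.nontrivial_iff_two_le.2 (le_trans (by norm_num) h.le_deg)
  rw [h.range_eq, nat_card_alternatingGroup, Nat.card_fin]
  have := Nat.factorial_le h.le_deg
  have : Nat.factorial 9 = 362880 := by decide
  omega

theorem sq_lt_two_pow : ∀ D : ℕ, 5 ≤ D → D * D < 2 ^ D := by
  intro D hD
  induction D, hD using Nat.le_induction with
  | base => norm_num
  | succ D hD ih =>
    rw [pow_succ]
    nlinarith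

theorem MinCover.noncentral [IsAlgClosed k] [FiniteDimensional k V] [Nontrivial V] (h : MinCover φ) {p : ℕ}
    {ρ : G →* Module.End k V} (hinj : Function.Injective ρ) (hirr : Irred ρ)
    (ih : ∀ m < finrank k V, Bound m) (hK : ¬ φ.ker ≤ Subgroup.center G) :
    r - 1 - (if p ∣ r then 1 else 0) ≤ finrank k V := by
  classical
  by_contra hlt
  obtain ⟨l, D, hl, hpow, ψ, hψ⟩ := h.exists_layer hinj hirr (by omega) hK
  haveI := Fact.mk hl
  by_cases hD : D < finrank k V
  · let f : Matrix (Fin D) (Fin D) (ZMod l) →+* Matrix (Fin D) (Fin D) (AlgebraicClosure (ZMod l)) :=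
      (algebraMap (ZMod l) (AlgebraicClosure (ZMod l))).mapMatrix
    haveI : CharP (AlgebraicClosure (ZMod l)) l :=
      charP_of_injective_algebraMap (algebraMap (ZMod l) (AlgebraicClosure (ZMod l))).injective l
    let τ : G →* Module.End (AlgebraicClosure (ZMod l)) (Fin D → AlgebraicClosure (ZMod l)) :=
      Matrix.toLinAlgEquiv'.toRingEquiv.toMonoidHom.comp (f.toMonoidHom.comp ψ)
    have := ih D hD (AlgebraicClosure (ZMod l)) l (Fin D → AlgebraicClosure (ZMod l)) G r φ τ (by simp) h.range_eq
      (fun g hg => hψ g (Matrix.map_injective (algebraMap (ZMod l) (AlgebraicClosure (ZMod l))).injective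
        ((Matrix.toLinAlgEquiv'.injective (hg.trans (map_one _).symm)).trans (map_one f).symm))) h.le_deg
    split_ifs at this <;> omega
  · have hD4 : D ≤ 4 := by
      by_contra h5
      have h1 := sq_lt_two_pow D (by omega)
      have h2 : 2 ^ D ≤ l ^ D := Nat.pow_le_pow_left hl.two_le D
      have h3 : finrank k V * finrank k V ≤ D * D := Nat.mul_le_mul (by omega) (by omega)
      omega
    have h16 : l ^ D ≤ 16 := hpow.trans (by nlinarith)
    have hle : φ.ker.index ≤ Nat.card (Matrix (Fin D) (Fin D) (ZMod l)) := by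
      have h1 : φ.ker.index ∣ ψ.ker.index :=
        Subgroup.index_dvd_of_le fun g hg => MonoidHom.mem_ker.2 (hψ g (MonoidHom.mem_ker.1 hg))
      have h2 : ψ.ker.index ≤ Nat.card (Matrix (Fin D) (Fin D) (ZMod l)) := by
        refine le_trans ?_ (Nat.card_le_card_of_injective (fun q : G ⧸ ψ.ker => ψ q.out) fun q q' e => ?_)
        · exact le_rfl
        · change ψ q.out = ψ q'.out at e
          rw [← q.out_eq', ← q'.out_eq', QuotientGroup.eq, MonoidHom.mem_ker, map_mul, ← e, ← map_mul,
            inv_mul_cancel, map_one]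
      exact (Nat.le_of_dvd (Nat.pos_of_ne_zero Subgroup.index_ne_zero_of_finite) h1).trans h2
    rw [Subgroup.index_ker, Matrix, Nat.card_fun, Nat.card_fun, Nat.card_fin, Nat.card_zmod] at hle
    have := h.card_alt
    have : (l ^ D) ^ D ≤ 16 ^ 4 := (Nat.pow_le_pow_left h16 D).trans (Nat.pow_le_pow_right (by norm_num) hD4)
    omega

theorem MinCover.central [IsAlgClosed k] [FiniteDimensional k V] [Nontrivial V] (h : MinCover φ) {p : ℕ}
    [Fact p.Prime] [CharP k p] {ρ : G →* Module.End k V} (hinj : Function.Injective ρ) (hirr : Irred ρ)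
    (hK : φ.ker ≤ Subgroup.center G) : r - 1 - (if p ∣ r then 1 else 0) ≤ finrank k V := by
  classical
  have hr := h.le_deg
  have hperf := h.perfect
  have h2 : Nat.card φ.ker ≤ 2 :=
    CfsgLib.Clifford.AltSchur.card_ker_le φ h.range_eq hK (r - 2) (by omega) (Or.inr (by omega))
      (by rw [hperf]; exact le_top)
  let s : Equiv.Perm (Fin r) → G := fun σ =>
    if σ = 1 then 1 else if hs : σ ∈ φ.range then hs.choose else 1
  have hs : ∀ σ, Equiv.Perm.sign σ = 1 → φ (s σ) = σ := fun σ hσ => by
    have hm : σ ∈ φ.range := by rw [h.range_eq]; exact Equiv.Perm.mem_alternatingGroup.2 hσ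
    by_cases h1 : σ = 1
    · simp [s, h1]
    · simp only [s, if_neg h1, dif_pos hm]
      exact hm.choose_spec
  have hs1 : s 1 = 1 := by simp [s]
  by_cases h1 : Nat.card φ.ker = 1
  · have hφi : Function.Injective φ := (MonoidHom.ker_eq_bot_iff φ).1 (Subgroup.card_eq_one.1 h1)
    have hR : IsRep (fun σ => ρ (s σ)) := by
      refine ⟨by simp only [hs1, map_one], fun σ τ hσ hτ => ?_⟩
      have : s (σ * τ) = s σ * s τ := hφi (by
        rw [map_mul, hs σ hσ, hs τ hτ, hs _ (by rw [map_mul, hσ, hτ, one_mul])])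
      simp only [this, map_mul]
    have hnt : Nontriv (fun σ => ρ (s σ)) := by
      let a : Fin r := ⟨0, by omega⟩
      let b : Fin r := ⟨1, by omega⟩
      let c : Fin r := ⟨2, by omega⟩
      have hab : a ≠ b := by simp [a, b]
      have hac : a ≠ c := by simp [a, c]
      have hbc : b ≠ c := by simp [b, c]
      refine ⟨c3 a b c, sign_c3 hab hbc, fun e => ?_⟩
      have e1 : s (c3 a b c) = 1 := hinj (e.trans (map_one ρ).symm)
      have e2 := hs _ (sign_c3 hab hbc)
      rw [e1, map_one] at e2
      have := congrFun (congrArg DFunLike.coe e2) a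
      rw [c3_fst hab hac] at this
      exact hab this
    by_cases hp2 : p = 2
    · subst hp2
      obtain ⟨w, hw⟩ := IsAlgClosed.exists_root
        (Polynomial.X ^ 2 + Polynomial.X + 1 : Polynomial k) (by
          rw [show (Polynomial.X ^ 2 + Polynomial.X + 1 : Polynomial k).degree = 2 by compute_degree!]; decide)
      have hw' : w * w + w + 1 = 0 := by simpa [Polynomial.IsRoot, sq] using hw
      exact two_main hw' r (Fin r) V _ (Fintype.card_fin r) hR hnt hr
    · have h2k : (2 : k) ≠ 0 := fun e => hp2 ((Nat.prime_dvd_prime_iff_eq Fact.out Nat.prime_two).1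
        ((CharP.cast_eq_zero_iff k p 2).1 (by exact_mod_cast e)))
      exact (odd_main p h2k r (Fin r) V _ (Fintype.card_fin r) hR hnt (by omega)).2 hr
  · have hc2 : Nat.card φ.ker = 2 := by
      have := Nat.card_pos (α := φ.ker); omega
    haveI : Nontrivial φ.ker := Finite.one_lt_card_iff_nontrivial.1 (by omega)
    obtain ⟨⟨z, hz⟩, hz1⟩ := exists_ne (1 : φ.ker)
    have hz1' : z ≠ 1 := fun e => hz1 (Subtype.ext e)
    obtain ⟨c, hc⟩ := scalar_of_commute hirr (ρ z) fun g => by
      rw [commute_iff_eq, ← map_mul, ← map_mul, Subgroup.mem_center_iff.1 (hK hz) g]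
    have hmem : ∀ g, φ g = 1 → g = 1 ∨ g = z := fun g hg => by
      by_contra hno
      push Not at hno
      haveI : Fintype φ.ker := Fintype.ofFinite _
      have h3 : ({⟨1, φ.ker.one_mem⟩, ⟨z, hz⟩, ⟨g, hg⟩} : Finset φ.ker).card = 3 :=
        Finset.card_eq_three.2 ⟨_, _, _, fun e => hz1' (congrArg Subtype.val e).symm,
          fun e => hno.1 (congrArg Subtype.val e).symm, fun e => hno.2 (congrArg Subtype.val e).symm, rfl⟩
      have := Finset.card_le_univ ({⟨1, φ.ker.one_mem⟩, ⟨z, hz⟩, ⟨g, hg⟩} : Finset φ.ker)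
      rw [h3, ← Nat.card_eq_fintype_card, hc2] at this
      omega
    have hzz : z * z = 1 := (hmem (z * z) (φ.ker.mul_mem hz hz)).resolve_right fun e => hz1' (mul_eq_left.1 e)
    have hcc : c * c = 1 := by
      have := congrArg ρ hzz
      rw [map_mul, hc, map_one, smul_mul_smul_comm, one_mul] at this
      obtain ⟨x, hx⟩ := exists_ne (0 : V)
      have h' := LinearMap.congr_fun this x
      simp only [LinearMap.smul_apply, Module.End.one_apply] at h'
      exact smul_left_injective k hx (h'.trans (one_smul k x).symm)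
    have hc1 : c ≠ 1 := fun e => hz1' (hinj (by rw [hc, e, one_smul, map_one]))
    have hcm : c = -1 := (mul_self_eq_one_iff.1 hcc).resolve_left hc1
    have h2k : (2 : k) ≠ 0 := fun e => hc1 (by
      rw [hcm]; exact neg_eq_of_add_eq_zero_left (by rw [← two_mul, mul_one, e]))
    have hρz : ρ z = -1 := by rw [hc, hcm, neg_one_smul]
    have hL : IsSpin (fun σ => ρ (s σ)) := by
      refine ⟨by simp only [hs1, map_one], fun σ τ hσ hτ => ?_, fun a b c' d hab hac had hbc hbd hcd => ?_⟩
      · have hstep : φ ((s σ * s τ)⁻¹ * s (σ * τ)) = 1 := by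
          rw [map_mul, map_inv, map_mul, hs σ hσ, hs τ hτ, hs _ (by rw [map_mul, hσ, hτ, one_mul]), inv_mul_cancel]
        rcases hmem _ hstep with e | e
        · left
          have := inv_mul_eq_one.1 e
          simp only [← this, map_mul]
        · right
          rw [inv_mul_eq_iff_eq_mul] at e
          simp only [e, map_mul, hρz, mul_neg_one]
      · have := cover_klein (Or.inr (by omega)) φ h.range_eq hperf hK hc2 hz hz1' hab hac had hbc hbd hcd
          (hs _ (sign_ss hab hcd)) (hs _ (sign_ss hac hbd))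
        have e := congrArg ρ this
        simp only [map_mul, hρz, neg_one_mul] at e
        exact e
    exact (spin_main p h2k r (Fin r) V _ (Fintype.card_fin r) hL (by omega)).2 hr

theorem bound_all : ∀ n, Bound n := by
  intro n
  induction n using Nat.strong_induction_on with
  | _ n ih =>
  intro k _ _ p _ _ V _ _ _ G _ _ r φ ρ hVn hφ hker hr
  induction hG : Nat.card G using Nat.strong_induction_on generalizing G with
  | _ N ihG =>
  subst hG
  classical
  by_cases hmin : ∃ M : Subgroup G, M.map φ = alternatingGroup (Fin r) ∧ M ≠ ⊤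
  · obtain ⟨M, hM, hMt⟩ := hmin
    refine ihG (Nat.card M) ?_ M (φ.comp M.subtype) (ρ.comp M.subtype) ?_ (fun g hg => hker _ hg) rfl
    · exact lt_of_le_of_ne M.card_le_card_group (fun e => hMt (Subgroup.eq_top_of_card_eq M e))
    · rw [MonoidHom.range_comp, Subgroup.range_subtype]; exact hM
  push Not at hmin
  have h : MinCover φ := ⟨hφ, hr, hmin⟩
  by_cases hinj : Function.Injective ρ
  swap
  · have hk : ρ.ker ≠ ⊥ := fun e => hinj ((MonoidHom.ker_eq_bot_iff ρ).1 e)
    have hle : ρ.ker ≤ φ.ker := fun g hg => MonoidHom.mem_ker.2 (hker g (MonoidHom.mem_ker.1 hg))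
    refine ihG (Nat.card (G ⧸ ρ.ker)) ?_ (G ⧸ ρ.ker) (QuotientGroup.lift ρ.ker φ hle)
      (QuotientGroup.lift ρ.ker ρ le_rfl) ?_ ?_ rfl
    · rw [Subgroup.card_eq_card_quotient_mul_card_subgroup ρ.ker]
      exact lt_mul_of_one_lt_right Nat.card_pos ((Subgroup.one_lt_card_iff_ne_bot _).2 hk)
    · rw [← hφ]
      ext x
      exact ⟨fun ⟨q, hq⟩ => QuotientGroup.induction_on q (fun g hg => ⟨g, hg⟩) hq, fun ⟨g, hg⟩ => ⟨g, hg⟩⟩
    · intro q
      induction q using QuotientGroup.induction_on with | _ g => exact hker g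
  by_contra hlt
  push Not at hlt
  have hirr : Irred ρ := h.irred hinj (hVn ▸ ih) (by omega)
  haveI : Nontrivial V := by
    rw [← not_subsingleton_iff_nontrivial]
    intro hsub
    have h1 : φ.range = ⊥ := MonoidHom.range_eq_bot_iff.2
      (MonoidHom.ext fun g => hker g (Subsingleton.elim _ _))
    have := h.card_alt
    rw [h1, Subgroup.card_bot] at this
    omega
  by_cases hK : φ.ker ≤ Subgroup.center G
  · have := h.central (p := p) hinj hirr hK
    omega
  · have := h.noncentral (p := p) hinj hirr (hVn ▸ ih) hK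
    omega

end CfsgLib.KnownC.AltSec
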