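import Cfsg.Agent.Lib.KnownC.AltSec.SpinBasic
import Cfsg.Agent.Lib.KnownC.AltSec.Car

/-!
A spin representation of the alternating group on eight points has degree at least eight, and the bound from
anticommuting families.
-/

set_option autoImplicit false

namespace CfsgLib.KnownC.AltSec

open Equiv Equiv.Perm Module

universe v w

variable {k : Type w} [Field k]

/-- Anticommuting operators with nonzero scalar squares. -/
theorem clifford_bound [IsAlgClosed k] (h2 : (2 : k) ≠ 0) :
    ∀ (m : ℕ) (W : Type v) [AddCommGroup W] [Module k W] [FiniteDimensional k W] [Nontrivial W]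
      (g : Fin (2 * m) → Module.End k W) (c : Fin (2 * m) → k), (∀ i, c i ≠ 0) → (∀ i, g i * g i = c i • 1) →
        (∀ i j, i ≠ j → g i * g j = -(g j * g i)) → 2 ^ m ≤ finrank k W := by
  intro m
  induction m with
  | zero =>
    intro W _ _ _ _ g c _ _ _
    exact Module.finrank_pos
  | succ m ih =>
    intro W _ _ _ _ g c hc hsq hanti
    let i0 : Fin (2 * (m + 1)) := ⟨0, by omega⟩
    let i1 : Fin (2 * (m + 1)) := ⟨1, by omega⟩
    let up : Fin (2 * m) → Fin (2 * (m + 1)) := fun i => ⟨i.val + 2, by omega⟩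
    have hup0 : ∀ i, up i ≠ i0 := fun i => Fin.ne_of_val_ne (by simp [up, i0])
    have hup1 : ∀ i, up i ≠ i1 := fun i => Fin.ne_of_val_ne (by simp [up, i1])
    have h01 : i1 ≠ i0 := Fin.ne_of_val_ne (by simp [i0, i1])
    obtain ⟨s, hs⟩ := IsAlgClosed.exists_eq_mul_self (c i0)
    have hs0 : s ≠ 0 := fun h => hc i0 (by rw [hs, h, mul_zero])
    set a := g i0 with ha
    set b := g i1 with hb
    have hbv : ∀ v, b (b v) = c i1 • v := fun v => by
      rw [← Module.End.mul_apply, hsq]; rfl
    have hbinj : ∀ v, b v = 0 → v = 0 := fun v h => by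
      have := hbv v
      rw [h, map_zero] at this
      exact (smul_eq_zero.1 this.symm).resolve_left (hc i1)
    have hab : ∀ v, a (b v) = -b (a v) := fun v => by
      have := LinearMap.congr_fun (hanti i0 i1 h01.symm) v
      simpa using this
    have haa : ∀ v, a (a v) = (s * s) • v := fun v => by
      rw [← Module.End.mul_apply, hsq, ← hs]; rfl
    let K := LinearMap.ker (a - s • (1 : Module.End k W))
    have hK : ∀ v, v ∈ K ↔ a v = s • v := fun v => by
      rw [LinearMap.mem_ker, LinearMap.sub_apply, LinearMap.smul_apply, Module.End.one_apply, sub_eq_zero]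
    haveI : Nontrivial K := by
      obtain ⟨v, hv⟩ := exists_ne (0 : W)
      by_cases hz : a v + s • v = 0
      · have hav : a v = -(s • v) := eq_neg_of_add_eq_zero_left hz
        refine nontrivial_of_ne ⟨b v, (hK _).2 (by rw [hab, hav, map_neg, neg_neg, map_smul])⟩ 0 fun h => hv ?_
        exact hbinj v (congrArg Subtype.val h)
      · refine nontrivial_of_ne ⟨a v + s • v, (hK _).2 ?_⟩ 0 fun h => hz (congrArg Subtype.val h)
        rw [map_add, map_smul, haa, smul_add, smul_smul, add_comm]
    let M : Fin (2 * m) → Module.End k W := fun i => b * g (up i)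
    have hbg : ∀ i, g (up i) * b = -(b * g (up i)) := fun i => hanti _ _ (hup1 i)
    have hag : ∀ i, a * g (up i) = -(g (up i) * a) := fun i => hanti _ _ (hup0 i).symm
    have hKM : ∀ i, ∀ v ∈ K, M i v ∈ K := fun i v hv => by
      rw [hK] at hv ⊢
      have e2 : a (g (up i) v) = -g (up i) (a v) := by
        have := LinearMap.congr_fun (hag i) v
        simpa using this
      show a (b (g (up i) v)) = s • b (g (up i) v)
      rw [hab, e2, map_neg, neg_neg, hv, map_smul, map_smul]
    let f : (K × K) →ₗ[k] W := K.subtype.coprod (b.comp K.subtype)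
    have hinj : Function.Injective f := by
      rw [injective_iff_map_eq_zero]
      rintro ⟨⟨x, hx⟩, ⟨y, hy⟩⟩ h
      have h' : x + b y = 0 := h
      rw [hK] at hx hy
      have h3 := congrArg a h'
      rw [map_add, hx, hab, hy, map_smul, map_zero] at h3
      have h5 : (2 * s) • x = 0 := by
        rw [eq_neg_of_add_eq_zero_right h', smul_neg, neg_neg, ← add_smul] at h3
        rwa [two_mul]
      have hx0 : x = 0 := (smul_eq_zero.1 h5).resolve_left (mul_ne_zero h2 hs0)
      subst hx0
      rw [zero_add] at h'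
      have hy0 := hbinj y h'
      subst hy0
      rfl
    have hdim := LinearMap.finrank_le_finrank_of_injective hinj
    rw [Module.finrank_prod] at hdim
    have hMM : ∀ i j, M i * M j = -(c i1) • (g (up i) * g (up j)) := fun i j => by
      show b * g (up i) * (b * g (up j)) = _
      rw [mul_assoc, ← mul_assoc (g (up i)) b, hbg, neg_mul, mul_assoc b, mul_neg, ← mul_assoc,
        show b * b = c i1 • 1 from hsq i1, smul_mul_assoc, one_mul, neg_smul]
    have := ih K (fun i => (M i).restrict (hKM i)) (fun i => -(c i1) * c (up i))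
      (fun i => mul_ne_zero (neg_ne_zero.2 (hc i1)) (hc _))
      (fun i => LinearMap.ext fun v => Subtype.ext (by
        have e : M i * M i = (-(c i1) * c (up i)) • 1 := by rw [hMM, hsq, smul_smul]
        have := LinearMap.congr_fun e (v : W)
        simpa [LinearMap.restrict_apply] using this))
      (fun i j hij => LinearMap.ext fun v => Subtype.ext (by
        have e : M i * M j = -(M j * M i) := by
          rw [hMM, hMM, hanti _ _ (fun h => hij (Fin.ext (by simpa [up] using congrArg Fin.val h))), smul_neg]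
        have := LinearMap.congr_fun e (v : W)
        simpa [LinearMap.restrict_apply] using this))
    rw [pow_succ]
    omega

/-- The affine action on sign vectors. -/
def signMove (c : Bool × Bool × Bool) (e : Bool × Bool × Bool) : Bool × Bool × Bool :=
  (xor (xor c.2.2 e.2.2) (xor c.1 e.1), xor c.1 e.1, xor c.2.1 e.2.1)

theorem signMove_orbit : ∀ c e, signMove c e = e ∨
    ∀ i j : Fin 7, ((signMove c)^[i.val] e = (signMove c)^[j.val] e → i = j) := by decide

theorem signMove_fixed_unique : ∀ c e e', signMove c e = e → signMove c e' = e' → e = e' := by decide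

/-- The sign of a Boolean. -/
def bs (k : Type w) [Field k] (b : Bool) : k := if b then -1 else 1

theorem bs_xor (a b : Bool) : bs k (xor a b) = bs k a * bs k b := by
  cases a <;> cases b <;> simp [bs]

theorem bs_inj (h2 : (2 : k) ≠ 0) {a b : Bool} (h : bs k a = bs k b) : a = b := by
  cases a <;> cases b <;> simp [bs] at h ⊢ <;>
    first | exact h2 (by linear_combination h) | exact h2 (by linear_combination -h)

variable {V : Type v} [AddCommGroup V] [Module k V]

theorem refine_sign (h2 : (2 : k) ≠ 0) (E : Module.End k V) (hE : ∀ v, E (E v) = v) {v : V} (hv : v ≠ 0) :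
    ∃ u s, u ≠ 0 ∧ E u = bs k s • u ∧ ∀ (D : Module.End k V) (l : k), (∀ x, D (E x) = E (D x)) → D v = l • v →
      D u = l • u := by
  by_cases hz : v + E v = 0
  · exact ⟨v, true, hv, by rw [eq_neg_of_add_eq_zero_right hz]; simp [bs], fun D l _ h => h⟩
  · refine ⟨v + E v, false, hz, by rw [map_add, hE, add_comm]; simp [bs], fun D l hD h => ?_⟩
    rw [map_add, hD, h, map_smul, smul_add]

theorem spin_eight [FiniteDimensional k V] [Nontrivial V] (h2 : (2 : k) ≠ 0)
    {L : Perm (Fin 8) → Module.End k V} (hL : IsSpin L) : 8 ≤ finrank k V := by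
  let e1 : Perm (Fin 8) := swap 0 1 * swap 2 3 * (swap 4 5 * swap 6 7)
  let e2 : Perm (Fin 8) := swap 0 2 * swap 1 3 * (swap 4 6 * swap 5 7)
  let e3 : Perm (Fin 8) := swap 0 4 * swap 1 5 * (swap 2 6 * swap 3 7)
  let g : Perm (Fin 8) := swap 1 2 * swap 2 4 * (swap 4 3 * swap 3 6) * (swap 6 7 * swap 7 5)
  have s1 : sign e1 = 1 := by decide
  have s2 : sign e2 = 1 := by decide
  have s3 : sign e3 = 1 := by decide
  have sg : sign g = 1 := by decide
  -- squares and commutation from two blocks of four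
  have blk : ∀ a b c d e f x y : Fin 8, [a, b, c, d, e, f, x, y].Nodup →
      ∀ (s : Perm (Fin 8)), s = swap a b * swap c d * (swap e f * swap x y) →
        (L s * L s = 1) ∧ ∀ (s' : Perm (Fin 8)), s' = swap a c * swap b d * (swap e x * swap f y) →
          L s * L s' = L s' * L s := by
    intro a b c d e f x y hnd s hs
    simp only [List.nodup_cons, List.mem_cons, List.not_mem_nil, or_false, not_or] at hnd
    obtain ⟨⟨ab, ac, ad, ae, af, ax, ay⟩, ⟨bc, bd, be, bf, bx, bY⟩, ⟨cd, ce, cf, cx, cy⟩, ⟨de, df, dx, dy⟩,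
      ⟨ef, ex, ey⟩, ⟨fx, fy⟩, xy, -⟩ := hnd
    have fix4 : ∀ {p q r t i : Fin 8}, i ≠ p → i ≠ q → i ≠ r → i ≠ t → (swap p q * swap r t) i = i := by
      intro p q r t i h1 h2' h3 h4
      rw [Perm.mul_apply, swap_apply_of_ne_of_ne h3 h4, swap_apply_of_ne_of_ne h1 h2']
    set A := L (swap a b * swap c d)
    set B := L (swap e f * swap x y)
    set A' := L (swap a c * swap b d)
    set B' := L (swap e x * swap f y)
    have hA2 : A * A = -1 := hL.sq ab ac ad bc bd cd
    have hB2 : B * B = -1 := hL.sq ef ex ey fx fy xy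
    have hAB : Commute A B := hL.comm_ss (sign_ss ab cd) ef ex fx fy xy
      (fix4 (Ne.symm ae) (Ne.symm be) (Ne.symm ce) (Ne.symm de)) (fix4 (Ne.symm af) (Ne.symm bf) (Ne.symm cf) (Ne.symm df))
      (fix4 (Ne.symm ax) (Ne.symm bx) (Ne.symm cx) (Ne.symm dx)) (fix4 (Ne.symm ay) (Ne.symm bY) (Ne.symm cy) (Ne.symm dy))
    have hAB' : Commute A B' := hL.comm_ss (sign_ss ab cd) ex ef (Ne.symm fx) xy fy
      (fix4 (Ne.symm ae) (Ne.symm be) (Ne.symm ce) (Ne.symm de)) (fix4 (Ne.symm ax) (Ne.symm bx) (Ne.symm cx) (Ne.symm dx))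
      (fix4 (Ne.symm af) (Ne.symm bf) (Ne.symm cf) (Ne.symm df)) (fix4 (Ne.symm ay) (Ne.symm bY) (Ne.symm cy) (Ne.symm dy))
    have hA'B : Commute A' B := hL.comm_ss (sign_ss ac bd) ef ex fx fy xy
      (fix4 (Ne.symm ae) (Ne.symm ce) (Ne.symm be) (Ne.symm de)) (fix4 (Ne.symm af) (Ne.symm cf) (Ne.symm bf) (Ne.symm df))
      (fix4 (Ne.symm ax) (Ne.symm cx) (Ne.symm bx) (Ne.symm dx)) (fix4 (Ne.symm ay) (Ne.symm cy) (Ne.symm bY) (Ne.symm dy))
    have hanti : A * A' = -(A' * A) := hL.klein a b c d ab ac ad bc bd cd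
    have hanti' : B * B' = -(B' * B) := hL.klein e f x y ef ex ey fx fy xy
    have hsA : L s = A * B ∨ L s = -(A * B) := hs ▸ hL.mul _ _ (sign_ss ab cd) (sign_ss ef xy)
    have hsq : (A * B) * (A * B) = 1 := by
      rw [mul_assoc, ← mul_assoc B, ← hAB.eq, mul_assoc A B B, hB2, mul_neg_one, mul_neg, hA2, neg_neg]
    refine ⟨by rcases hsA with h | h <;> rw [h] <;> [exact hsq; rw [neg_mul_neg, hsq]], fun s' hs' => ?_⟩
    have hsA' : L s' = A' * B' ∨ L s' = -(A' * B') := hs' ▸ hL.mul _ _ (sign_ss ac bd) (sign_ss ex fy)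
    have hc : (A * B) * (A' * B') = (A' * B') * (A * B) := by
      calc (A * B) * (A' * B') = A * (B * A') * B' := by simp only [mul_assoc]
        _ = A * A' * (B * B') := by rw [← hA'B.eq]; simp only [mul_assoc]
        _ = A' * A * (B' * B) := by rw [hanti, hanti', neg_mul_neg]
        _ = A' * (A * B') * B := by simp only [mul_assoc]
        _ = (A' * B') * (A * B) := by rw [hAB'.eq]; simp only [mul_assoc]
    rcases hsA with h | h <;> rcases hsA' with h' | h' <;> rw [h, h'] <;> simp only [neg_mul, mul_neg, neg_neg, hc]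
  obtain ⟨q1, c12⟩ := blk 0 1 2 3 4 5 6 7 (by decide) e1 rfl
  obtain ⟨q2, c23⟩ := blk 0 2 4 6 1 3 5 7 (by decide) e2 (by decide)
  obtain ⟨q3, -⟩ := blk 0 4 1 5 2 6 3 7 (by decide) e3 (by decide)
  have c12' := c12 e2 rfl
  have c23' := c23 e3 (by decide)
  have c13' := (blk 0 1 4 5 2 3 6 7 (by decide) e1 (by decide)).2 e3 (by decide)
  set E1 := L e1
  set E2 := L e2
  set E3 := L e3
  set G := L g
  have hE1 : ∀ v, E1 (E1 v) = v := fun v => by rw [← Module.End.mul_apply, q1, Module.End.one_apply]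
  have hE2 : ∀ v, E2 (E2 v) = v := fun v => by rw [← Module.End.mul_apply, q2, Module.End.one_apply]
  have hE3 : ∀ v, E3 (E3 v) = v := fun v => by rw [← Module.End.mul_apply, q3, Module.End.one_apply]
  have cE : ∀ {A B : Module.End k V}, A * B = B * A → ∀ x, A (B x) = B (A x) := fun h x => by
    rw [← Module.End.mul_apply, h, Module.End.mul_apply]
  -- the normalising element
  have hsign : ∀ {a b : Perm (Fin 8)}, sign a = 1 → g * a * g⁻¹ = b →
      ∃ c, ∀ v, L b (G v) = bs k c • G (L a v) := by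
    intro a b ha hab
    rcases hL.conj_mul sg ha with h | h <;> rw [hab] at h
    · refine ⟨false, fun v => ?_⟩
      rw [← Module.End.mul_apply, h, Module.End.mul_apply]; simp [bs, G]
    · refine ⟨true, fun v => ?_⟩
      rw [← Module.End.mul_apply, h]; simp [bs, G]
  obtain ⟨c1, hg1⟩ := hsign s1 (show g * e1 * g⁻¹ = e2 by decide)
  obtain ⟨c2, hg2⟩ := hsign s2 (show g * e2 * g⁻¹ = e3 by decide)
  obtain ⟨c3', hg3⟩ := hsign s3 (show g * e3 * g⁻¹ = e1 * e2 by decide)
  obtain ⟨c0, hc0⟩ : ∃ c, ∀ v, L (e1 * e2) v = bs k c • E1 (E2 v) := by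
    rcases hL.mul _ _ s1 s2 with h | h <;> rw [h]
    · exact ⟨false, fun v => by simp [bs, E1, E2]⟩
    · exact ⟨true, fun v => by simp [bs, E1, E2]⟩
  let IsW : Bool × Bool × Bool → Prop := fun s =>
    ∃ v, v ≠ 0 ∧ E1 v = bs k s.1 • v ∧ E2 v = bs k s.2.1 • v ∧ E3 v = bs k s.2.2 • v
  set cc : Bool × Bool × Bool := (c1, c2, xor c3' c0) with hcc
  have hstep : ∀ s, IsW s → IsW (signMove cc s) := by
    rintro ⟨s, t, r⟩ ⟨v, hv0, hv1, hv2, hv3⟩
    simp only at hv1 hv2 hv3
    have i2 : E2 (G v) = bs k (xor c1 s) • G v := by rw [hg1, hv1, map_smul, smul_smul, bs_xor]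
    have i3 : E3 (G v) = bs k (xor c2 t) • G v := by rw [hg2, hv2, map_smul, smul_smul, bs_xor]
    refine ⟨G v, fun h => hv0 (hL.injective sg (h.trans (map_zero _).symm)), ?_, i2, i3⟩
    show E1 (G v) = bs k (xor (xor (xor c3' c0) r) (xor c1 s)) • G v
    have h := hg3 v
    rw [hc0, i2, map_smul, hv3, map_smul, smul_smul, smul_smul] at h
    have hsq : ∀ b, bs k b * bs k b = 1 := fun b => by cases b <;> simp [bs]
    calc E1 (G v) = ((bs k c0 * bs k (xor c1 s)) * (bs k c0 * bs k (xor c1 s))) • E1 (G v) := by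
          rw [mul_mul_mul_comm, hsq, hsq, one_mul, one_smul]
      _ = (bs k c0 * bs k (xor c1 s)) • ((bs k c3' * bs k r) • G v) := by rw [mul_smul, h]
      _ = _ := by rw [smul_smul, bs_xor (xor _ _), bs_xor (xor c3' c0), bs_xor c3' c0]; congr 1; ring
  have hjoint : ∀ (D : Module.End k V), ∀ v, v ≠ 0 → ∀ l : k, (∀ x, D (E1 x) = E1 (D x)) → (∀ x, D (E2 x) = E2 (D x)) →
      (∀ x, D (E3 x) = E3 (D x)) → D v = l • v →
      ∃ s u, u ≠ 0 ∧ D u = l • u ∧ E1 u = bs k s.1 • u ∧ E2 u = bs k s.2.1 • u ∧ E3 u = bs k s.2.2 • u ∧ IsW s := by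
    intro D v hv l d1 d2 d3 hl
    obtain ⟨u1, a1, hu1, he1, hk1⟩ := refine_sign h2 E1 hE1 hv
    obtain ⟨u2, a2, hu2, he2, hk2⟩ := refine_sign h2 E2 hE2 hu1
    obtain ⟨u3, a3, hu3, he3, hk3⟩ := refine_sign h2 E3 hE3 hu2
    have r2 : E2 u3 = bs k a2 • u3 := hk3 E2 _ (cE c23') he2
    have r1 : E1 u3 = bs k a1 • u3 := hk3 E1 _ (cE c13') (hk2 E1 _ (cE c12') he1)
    exact ⟨(a1, a2, a3), u3, hu3, hk3 D l d3 (hk2 D l d2 (hk1 D l d1 hl)), r1, r2, he3, u3, hu3, r1, r2, he3⟩
  by_cases hall : ∀ s, IsW s → signMove cc s = s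
  · exfalso
    obtain ⟨v0, hv00⟩ := exists_ne (0 : V)
    obtain ⟨s0, -, -, -, -, -, -, hs0⟩ := hjoint 1 v0 hv00 1 (fun _ => rfl) (fun _ => rfl) (fun _ => rfl) (by simp)
    have hscal : ∀ v, E1 v = bs k s0.1 • v := by
      intro v
      set z := E1 v - bs k s0.1 • v
      by_contra hne
      have hz : z ≠ 0 := fun h => hne (sub_eq_zero.1 h)
      have hzE : E1 z = -(bs k s0.1) • z := by
        have hsq : bs k s0.1 * bs k s0.1 = 1 := by cases s0.1 <;> simp [bs]
        rw [map_sub, map_smul, hE1, smul_sub, smul_smul, neg_mul, hsq, neg_smul, neg_smul, one_smul]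
        abel
      obtain ⟨s, u, hu, hu1, hu1', -, -, hs⟩ := hjoint E1 z hz _ (fun _ => rfl) (cE c12') (cE c13') hzE
      obtain rfl := signMove_fixed_unique cc s s0 (hall s hs) (hall s0 hs0)
      rw [hu1'] at hu1
      have h0 : (2 * bs k s.1) • u = 0 := by rw [two_mul, add_smul]; nth_rewrite 1 [hu1]; rw [neg_smul, neg_add_cancel]
      refine hu ((smul_eq_zero.1 h0).resolve_left (mul_ne_zero h2 ?_))
      cases s.1 <;> simp [bs]
    set A := L (swap (0 : Fin 8) 1 * swap 2 3)
    set B := L (swap (4 : Fin 8) 5 * swap 6 7)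
    set A' := L (swap (0 : Fin 8) 2 * swap 1 3)
    have hAB : E1 = A * B ∨ E1 = -(A * B) := hL.mul _ _ (sign_ss (by decide) (by decide)) (sign_ss (by decide) (by decide))
    have hA'B : Commute A' B := hL.comm_ss (sign_ss (by decide) (by decide)) (by decide) (by decide) (by decide)
      (by decide) (by decide) (by decide) (by decide) (by decide) (by decide)
    have hA'B' : ∀ x, A' (B x) = B (A' x) := fun x => by
      rw [← Module.End.mul_apply, hA'B.eq, Module.End.mul_apply]
    have hBB : ∀ v, B (B v) = -v := fun v => by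
      rw [← Module.End.mul_apply, hL.sq (by decide) (by decide) (by decide) (by decide) (by decide) (by decide)]; simp
    obtain ⟨μ, hμ⟩ : ∃ μ : k, ∀ v, A v = μ • B v := by
      rcases hAB with h | h
      · refine ⟨-(bs k s0.1), fun v => ?_⟩
        have := hscal (B v)
        rw [h, Module.End.mul_apply, hBB, map_neg] at this
        rw [← neg_neg (A v), this, neg_smul]
      · refine ⟨bs k s0.1, fun v => ?_⟩
        have := hscal (B v)
        rw [h, LinearMap.neg_apply, Module.End.mul_apply, hBB, map_neg, neg_neg] at this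
        exact this
    have hk := LinearMap.congr_fun (hL.klein (0 : Fin 8) 1 2 3 (by decide) (by decide) (by decide) (by decide)
      (by decide) (by decide)) v0
    rw [LinearMap.neg_apply, Module.End.mul_apply, Module.End.mul_apply, hμ, hμ, map_smul, hA'B'] at hk
    have h0 : (2 : k) • (μ • B (A' v0)) = 0 := by rw [two_smul]; exact eq_neg_iff_add_eq_zero.1 hk
    have h1 := (smul_eq_zero.1 h0).resolve_left h2
    rcases smul_eq_zero.1 h1 with hm | hm
    · exact hv00 (hL.injective (sign_ss (show (0 : Fin 8) ≠ 1 by decide) (show (2 : Fin 8) ≠ 3 by decide))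
        ((show A v0 = 0 by rw [hμ, hm, zero_smul]).trans (map_zero _).symm))
    · exact hv00 (hL.injective (sign_ss (show (0 : Fin 8) ≠ 2 by decide) (show (1 : Fin 8) ≠ 3 by decide))
        (((hL.injective (sign_ss (show (4 : Fin 8) ≠ 5 by decide) (show (6 : Fin 8) ≠ 7 by decide))
          (hm.trans (map_zero _).symm)) : A' v0 = 0).trans (map_zero _).symm))
  · push Not at hall
    obtain ⟨s, hs, hne⟩ := hall
    have hW : ∀ i : ℕ, IsW ((signMove cc)^[i] s) := by
      intro i
      induction i with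
      | zero => exact hs
      | succ i ih => rw [Function.iterate_succ_apply']; exact hstep _ ih
    choose x hx0 hx1 hx2 hx3 using fun i : Fin 7 => hW i.val
    set f : Fin 7 → Bool × Bool × Bool := fun i => (signMove cc)^[i.val] s
    have hf : Function.Injective f := fun i j h => ((signMove_orbit cc s).resolve_left hne) i j h
    have hli : LinearIndependent k x := by
      refine separated_independent x hx0 fun i j hij => ?_
      by_cases a1 : (f i).1 = (f j).1
      · by_cases a2 : (f i).2.1 = (f j).2.1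
        · exact ⟨E3, fun l => bs k (f l).2.2, fun h => hij (hf (Prod.ext a1 (Prod.ext a2 (bs_inj h2 h)))), hx3⟩
        · exact ⟨E2, fun l => bs k (f l).2.1, fun h => a2 (bs_inj h2 h), hx2⟩
      · exact ⟨E1, fun l => bs k (f l).1, fun h => a1 (bs_inj h2 h), hx1⟩
    have h7 := hli.fintype_card_le_finrank
    rw [Fintype.card_fin] at h7
    obtain ⟨m, hm⟩ := hL.even_finrank h2 (show (0 : Fin 8) ≠ 1 by decide) (show (0 : Fin 8) ≠ 2 by decide)
      (show (0 : Fin 8) ≠ 3 by decide) (show (1 : Fin 8) ≠ 2 by decide) (show (1 : Fin 8) ≠ 3 by decide)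
      (show (2 : Fin 8) ≠ 3 by decide)
    omega

end CfsgLib.KnownC.AltSec
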